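import Groth.Agent.Vancyc.H696.Coord
import Mathlib.RingTheory.Etale.Basic

/-!
Change of coordinates in a hull of a polynomial ring.
-/

set_option autoImplicit false

universe u v w

noncomputable section

namespace Groth.Agent.Vancyc.H696.Change

open scoped TensorProduct
open MvPolynomial Groth.Agent.Vancyc.H696.PDer Groth.Agent.Vancyc.H696.JacEtale
open Groth.Agent.Vancyc.H696.HullAt Groth.Agent.Vancyc.H696.Coord

variable {A : Type u} {H K : Type u} [CommRing A] [CommRing H] [Field K] [Algebra A H]
  {ι : Type} {π : H →+* K} {x : ι → H}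

/-- Localizing an étale algebra with coordinates at an element. -/
theorem etaleX_away {E : Type u} [CommRing E] [Algebra A E] {e : ι → E} (he : EtaleX A e) (δ : E) :
    EtaleX A (fun i => algebraMap E (Localization.Away δ) (e i)) := by
  have h1 : (IsScalarTower.toAlgHom A E (Localization.Away δ)).toRingHom.Etale := by
    change (algebraMap E (Localization.Away δ)).Etale
    rw [RingHom.etale_algebraMap]
    exact Algebra.Etale.of_isLocalizationAway δ
  exact he.comp (IsScalarTower.toAlgHom A E (Localization.Away δ)) h1

/-- The lift to the localization of a map inverting an element. -/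
theorem exists_lift_away {E : Type u} [CommRing E] [Algebra A E] (χ : E →ₐ[A] H) (δ : E)
    (hδ : IsUnit (χ δ)) : ∃ χ' : Localization.Away δ →ₐ[A] H,
      ∀ s, χ' (algebraMap E (Localization.Away δ) s) = χ s := by
  refine ⟨IsLocalization.liftAlgHom (M := Submonoid.powers δ) (f := χ) ?_, fun s => ?_⟩
  · rintro ⟨_, n, rfl⟩
    simpa using hδ.pow n
  · simp

/-- Elements with invertible Jacobian lie in an algebra which is étale for both coordinate systems. -/
theorem exists_etale_both [Fintype ι] [DecidableEq ι] (h : IsCoord A π x) (z : ι → H)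
    (hz : IsUnit (Matrix.of fun i j => h.d i (z j)).det) :
    ∃ (E : Type u) (_ : CommRing E) (_ : Algebra A E) (e w : ι → E) (χ : E →ₐ[A] H),
      EtaleX A e ∧ EtaleX A w ∧ (∀ i, χ (e i) = x i) ∧ (∀ i, χ (w i) = z i) := by
  classical
  obtain ⟨E, _, _, e, χ, he, hχ, hs⟩ := h.exists_etale (Finset.univ.image z)
  have hs' : ∀ i, ∃ w, χ w = z i := fun i => hs (by simp)
  choose w hw using hs'
  let δ : E := (Matrix.of fun i j => he.d i (w j)).det
  have hδ : χ δ = (Matrix.of fun i j => h.d i (z j)).det := by
    change χ.toRingHom (Matrix.det _) = _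
    rw [RingHom.map_det]
    congr 1
    ext i j
    simp only [RingHom.mapMatrix_apply, Matrix.map_apply, Matrix.of_apply]
    rw [← hw j]
    exact h.d_map he χ hχ i (w j)
  obtain ⟨χ', hχ'⟩ := exists_lift_away χ δ (by rw [hδ]; exact hz)
  let e' : ι → Localization.Away δ := fun i => algebraMap E (Localization.Away δ) (e i)
  have he' : EtaleX A e' := etaleX_away he δ
  refine ⟨Localization.Away δ, inferInstance, inferInstance, e',
    fun i => algebraMap E (Localization.Away δ) (w i), χ', he', ?_, fun i => ?_, fun i => ?_⟩
  · refine he'.of_det _ ?_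
    have h1 : (Matrix.of fun i j => he'.d i (algebraMap E (Localization.Away δ) (w j))).det =
        algebraMap E (Localization.Away δ) δ := by
      change _ = (algebraMap E (Localization.Away δ)) (Matrix.det _)
      rw [RingHom.map_det]
      congr 1
      ext i j
      simp only [RingHom.mapMatrix_apply, Matrix.map_apply, Matrix.of_apply]
      exact (EtaleX.d_map he he' (IsScalarTower.toAlgHom A E (Localization.Away δ))
        (fun i => rfl) i (w j)).symm
    rw [h1]
    exact IsLocalization.Away.algebraMap_isUnit δ
  · rw [hχ', hχ]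
  · rw [hχ', hw]

/-- Transfer of coordinates through an algebra which is étale for both coordinate systems. -/
theorem isCoord_of_both {z : ι → H} (h : IsCoord A π x)
    {E : Type u} [CommRing E] [Algebra A E] {e w : ι → E} (χ : E →ₐ[A] H)
    (he : EtaleX A e) (hw : EtaleX A w) (hχe : ∀ i, χ (e i) = x i) (hχw : ∀ i, χ (w i) = z i) :
    IsCoord A π z := by
  have h1 : IsHullAt χ.toRingHom π := h.hull.of_etale _ he χ.toRingHom (by
    rw [comp_aevalX, funext hχe])
  exact IsHullAt.of_etale_base _ hw h1 (by rw [comp_aevalX, funext hχw])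

/-- Change of coordinates (inverse function theorem). -/
theorem isCoord_of_det [Fintype ι] [DecidableEq ι] (h : IsCoord A π x) (z : ι → H)
    (hz : IsUnit (Matrix.of fun i j => h.d i (z j)).det) : IsCoord A π z := by
  obtain ⟨E, _, _, e, w, χ, he, hw, hχe, hχw⟩ := exists_etale_both h z hz
  exact isCoord_of_both h χ he hw hχe hχw

end Groth.Agent.Vancyc.H696.Change
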