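import Groth.Agent.Vancyc.H678.P2
import Mathlib.Algebra.Module.SpanRankOperations
import Mathlib.RingTheory.AdicCompletion.LocalRing

/-!
Embedding dimension of a quadratic singularity, and a choice of coordinates in a generating family.
-/

set_option autoImplicit false
universe u

open IsLocalRing

namespace Groth.Agent.Vancyc.H696.Cot

/-- Embedding dimension. -/
theorem spanFinrank_le {K L : Type u} [Field K] [CommRing L] [IsLocalRing L] [IsNoetherianRing L]
    [Algebra K L] (n : ℕ) (hq : VanCyc.IsOrdQuadSing K L n) :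
    (maximalIdeal L).spanFinrank ≤ n + 1 := by
  obtain ⟨f, hf, ⟨e⟩⟩ := hq
  rw [← AdicCompletion.spanFinrank_maximalIdeal_eq]
  have hnt : Nontrivial (MvPowerSeries (Fin (n + 1)) K ⧸ Ideal.span {f}) :=
    e.toEquiv.symm.nontrivial
  have hloc : IsLocalRing (MvPowerSeries (Fin (n + 1)) K ⧸ Ideal.span {f}) :=
    IsLocalRing.of_surjective' (e : AdicCompletion (maximalIdeal L) L →+*
      (MvPowerSeries (Fin (n + 1)) K ⧸ Ideal.span {f})) e.surjective
  have h1 := (Groth.Agent.Vancyc.H678.P2.maximalIdeal_of_surjective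
    (e.symm : (MvPowerSeries (Fin (n + 1)) K ⧸ Ideal.span {f}) →+*
      AdicCompletion (maximalIdeal L) L) e.symm.surjective).2
  have h2 := (Groth.Agent.Vancyc.H678.P2.maximalIdeal_of_surjective
    (Ideal.Quotient.mk (Ideal.span {f})) Ideal.Quotient.mk_surjective).2
  have h3 : maximalIdeal (MvPowerSeries (Fin (n + 1)) K) =
      Ideal.span (Set.range (MvPowerSeries.X : Fin (n + 1) → MvPowerSeries (Fin (n + 1)) K)) :=
    Groth.Agent.Ega41.MvPS.maximalIdeal_eq K
  rw [h1, h2, h3, Ideal.map_map, Ideal.map_span, ← Set.range_comp]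
  refine (Submodule.spanFinrank_span_le_ncard_of_finite (Set.finite_range _)).trans ?_
  rw [← Set.image_univ]
  refine (Set.ncard_image_le Set.finite_univ).trans ?_
  rw [Set.ncard_univ, Nat.card_eq_fintype_card, Fintype.card_fin]

/-- Linear algebra. -/
theorem exists_fin_span {K V ι : Type*} [Field K] [AddCommGroup V] [Module K V]
    [Module.Finite K V] [Nonempty ι] (v : ι → V) (hv : Submodule.span K (Set.range v) = ⊤)
    (N : ℕ) (hN : Module.finrank K V ≤ N) :
    ∃ f : Fin N → ι, Submodule.span K (Set.range (v ∘ f)) = ⊤ := by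
  classical
  obtain ⟨κ, a, ha, hspan, hli⟩ := exists_linearIndependent' K v
  have hfin : Finite κ := hli.finite
  have := Fintype.ofFinite κ
  have hcard : Fintype.card κ ≤ N := (hli.fintype_card_le_finrank).trans hN
  obtain ⟨j, hj⟩ : ∃ j : κ → Fin N, Function.Injective j := by
    have e := Fintype.equivFin κ
    exact ⟨fun i => Fin.castLE hcard (e i), fun i i' h => e.injective (Fin.castLE_injective hcard h)⟩
  obtain ⟨i0⟩ := ‹Nonempty ι›
  refine ⟨Function.extend j a (fun _ => i0), ?_⟩
  rw [eq_top_iff, ← hv, ← hspan]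
  refine Submodule.span_mono ?_
  rintro _ ⟨k, rfl⟩
  exact ⟨j k, by rw [Function.comp_apply, hj.extend_apply]; rfl⟩

/-- Coordinates in a generating family. -/
theorem exists_coord {L ι : Type u} [CommRing L] [IsLocalRing L] [IsNoetherianRing L] [Nonempty ι]
    (v : ι → L) (hv : ∀ i, v i ∈ maximalIdeal L)
    (hgen : maximalIdeal L ≤ Ideal.span (Set.range v)) (N : ℕ)
    (hN : (maximalIdeal L).spanFinrank ≤ N) :
    ∃ f : Fin N → ι, maximalIdeal L = Ideal.span (Set.range (v ∘ f)) := by
  rw [spanFinrank_maximalIdeal_eq_finrank_cotangentSpace] at hN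
  let v' : ι → maximalIdeal L := fun i => ⟨v i, hv i⟩
  have h1 : Submodule.span L (Set.range v') = ⊤ := by
    rw [eq_top_iff]
    intro z _
    have h2 : (z : L) ∈ Submodule.map (maximalIdeal L).subtype (Submodule.span L (Set.range v')) := by
      rw [Submodule.map_span, ← Set.range_comp]
      exact hgen z.2
    obtain ⟨w, hw, hwz⟩ := h2
    have : w = z := Subtype.ext hwz
    rwa [← this]
  have h2 : Submodule.span (ResidueField L)
      (Set.range fun i => (maximalIdeal L).toCotangent (v' i)) = ⊤ := by
    have := (CotangentSpace.span_image_eq_top_iff (s := Set.range v')).2 h1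
    rw [← Set.range_comp] at this
    exact this
  obtain ⟨f, hf⟩ := exists_fin_span (fun i => (maximalIdeal L).toCotangent (v' i)) h2 N hN
  refine ⟨f, le_antisymm ?_ ?_⟩
  · have h3 : Submodule.span (ResidueField L)
        ((maximalIdeal L).toCotangent '' (Set.range (v' ∘ f))) = ⊤ := by
      rw [← Set.range_comp]
      exact hf
    have h4 := CotangentSpace.span_image_eq_top_iff.1 h3
    intro z hz
    have h5 : (⟨z, hz⟩ : maximalIdeal L) ∈ Submodule.span L (Set.range (v' ∘ f)) := by
      rw [h4]
      exact Submodule.mem_top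
    have h6 := Submodule.mem_map_of_mem (f := (maximalIdeal L).subtype) h5
    rw [Submodule.map_span, ← Set.range_comp] at h6
    exact h6
  · rw [Ideal.span_le]
    rintro _ ⟨i, rfl⟩
    exact hv _

end Groth.Agent.Vancyc.H696.Cot
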