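import Groth.Agent.Vancyc.H696.PDer
import Mathlib.RingTheory.Kaehler.JacobiZariski
import Mathlib.RingTheory.RingHom.Etale
import Mathlib.RingTheory.RingHom.FinitePresentation
import Mathlib.LinearAlgebra.Determinant

/-!
Étale coordinates: Jacobian criterion for étaleness of a map between smooth algebras.
-/

set_option autoImplicit false

universe u v w

namespace Groth.Agent.Vancyc.H696.JacEtale

open scoped TensorProduct
open KaehlerDifferential Groth.Agent.Vancyc.H696.PDer

/-- If `S` is smooth over `A` and `S ⊗ Ω[P/A] → Ω[S/A]` is bijective then `S` is étale over `P`. -/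
theorem formallyEtale_of_mapBaseChange_bijective (A P S : Type*) [CommRing A] [CommRing P]
    [CommRing S] [Algebra A P] [Algebra A S] [Algebra P S] [IsScalarTower A P S]
    [Algebra.FormallySmooth A S] (h : Function.Bijective (mapBaseChange A P S)) :
    Algebra.FormallyEtale P S where
  subsingleton_kaehlerDifferential := by
    refine ⟨fun a b => ?_⟩
    have key : ∀ a : Ω[S⁄P], a = 0 := fun a => by
      obtain ⟨x, rfl⟩ := KaehlerDifferential.map_surjective A P S a
      obtain ⟨y, rfl⟩ := h.2 x
      exact (KaehlerDifferential.exact_mapBaseChange_map A P S _).mpr ⟨y, rfl⟩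
    rw [key a, key b]
  subsingleton_h1Cotangent := by
    refine ⟨fun a b => ?_⟩
    have key : ∀ a : Algebra.H1Cotangent P S, a = 0 := fun a => by
      have h1 : Algebra.H1Cotangent.δ A P S a = 0 := by
        apply h.1
        rw [map_zero]
        exact (Algebra.H1Cotangent.exact_δ_mapBaseChange A P S _).mpr ⟨a, rfl⟩
      obtain ⟨y, rfl⟩ := (Algebra.H1Cotangent.exact_map_δ A P S a).mp h1
      rw [Subsingleton.elim y 0, map_zero]
    rw [key a, key b]

section

variable {A : Type u} [CommRing A] {ι : Type w} [Fintype ι] [DecidableEq ι]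
  {S : Type v} [CommRing S] [Algebra A S] [Algebra (MvPolynomial ι A) S]
  [IsScalarTower A (MvPolynomial ι A) S]

/-- The Jacobian matrix of a family in a formally étale algebra over a polynomial ring. -/
noncomputable def jac [Algebra.FormallyEtale (MvPolynomial ι A) S] {κ : Type*} (z : κ → S) :
    Matrix ι κ S :=
  Matrix.of fun i j => pd (A := A) S i (z j)

/-- Jacobian criterion: a family of elements of an étale algebra over affine space with invertible
Jacobian is a family of étale coordinates. -/
theorem formallyEtale_of_det [Algebra.FormallyEtale (MvPolynomial ι A) S] (P : Type*) [CommRing P]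
    [Algebra A P] [Algebra P S] [IsScalarTower A P S] (bP : Module.Basis ι P (Ω[P⁄A])) (w : ι → P)
    (hw : ∀ i, bP i = D A P (w i))
    (hdet : IsUnit (jac (A := A) (fun i => algebraMap P S (w i))).det) :
    Algebra.FormallyEtale P S := by
  have hsm : Algebra.FormallySmooth A S := Algebra.FormallySmooth.comp A (MvPolynomial ι A) S
  refine formallyEtale_of_mapBaseChange_bijective A P S ?_
  have hM : LinearMap.toMatrix (bP.baseChange S) (basisΩ (A := A) (ι := ι) S)
      (mapBaseChange A P S) = jac (A := A) (fun i => algebraMap P S (w i)) := by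
    ext i j
    rw [LinearMap.toMatrix_apply, Module.Basis.baseChange_apply, mapBaseChange_tmul, one_smul,
      hw, map_D]
    rfl
  have := (LinearEquiv.ofIsUnitDet (f := mapBaseChange A P S) (v := bP.baseChange S)
    (v' := basisΩ (A := A) (ι := ι) S) (by rw [hM]; exact hdet)).bijective
  exact this

/-- Jacobian criterion, for the map `A[z] → S`. -/
theorem etale_aeval [Algebra.Etale (MvPolynomial ι A) S] (z : ι → S)
    (hdet : IsUnit (jac (A := A) z).det) :
    (MvPolynomial.aeval z : MvPolynomial ι A →ₐ[A] S).toRingHom.Etale := by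
  have hfp : Algebra.FinitePresentation A S :=
    Algebra.FinitePresentation.trans A (MvPolynomial ι A) S
  have h1 := @formallyEtale_of_det A _ ι _ _ S _ _ _ _ _ (MvPolynomial ι A) _ _
    (MvPolynomial.aeval z : MvPolynomial ι A →ₐ[A] S).toRingHom.toAlgebra
    (@IsScalarTower.of_algebraMap_eq A (MvPolynomial ι A) S _ _ _ _
      (MvPolynomial.aeval z : MvPolynomial ι A →ₐ[A] S).toRingHom.toAlgebra _
      fun a => ((MvPolynomial.aeval z : MvPolynomial ι A →ₐ[A] S).commutes a).symm)
    (mvPolynomialBasis A ι) MvPolynomial.X (fun i => mvPolynomialBasis_apply A ι i)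
    (by
      convert hdet using 4
      exact MvPolynomial.aeval_X z _)
  refine @Algebra.Etale.mk _ _ _ _ (MvPolynomial.aeval z : MvPolynomial ι A →ₐ[A] S).toRingHom.toAlgebra h1 ?_
  refine RingHom.FinitePresentation.of_comp_finiteType (f := algebraMap A (MvPolynomial ι A))
    (g := (MvPolynomial.aeval z : MvPolynomial ι A →ₐ[A] S).toRingHom) ?_ ?_
  · rw [show (MvPolynomial.aeval z : MvPolynomial ι A →ₐ[A] S).toRingHom.comp
      (algebraMap A (MvPolynomial ι A)) = algebraMap A S from
      (MvPolynomial.aeval z : MvPolynomial ι A →ₐ[A] S).comp_algebraMap]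
    exact RingHom.finitePresentation_algebraMap.mpr hfp
  · exact RingHom.finiteType_algebraMap.mpr inferInstance

end

end Groth.Agent.Vancyc.H696.JacEtale
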