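import Groth.Agent.Vancyc.H696.HullAt
import Groth.Agent.Vancyc.H696.JacEtale
import Mathlib.RingTheory.Localization.Away.Basic

/-!
Coordinates: `IsCoord A π x` says that the henselian local `A`-algebra `H` with `π : H → K` is the hull (colimit of
étale algebras) of the polynomial ring `A[X_i]` at the point given by `π`, with `X_i ↦ x_i`.
-/

set_option autoImplicit false

universe u v w

noncomputable section

namespace Groth.Agent.Vancyc.H696.Coord

open scoped TensorProduct
open MvPolynomial Groth.Agent.Vancyc.H696.PDer Groth.Agent.Vancyc.H696.JacEtale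
open Groth.Agent.Vancyc.H696.HullAt

section AlgX

variable {A : Type u} {B : Type v} {C : Type w} [CommRing A] [CommRing B] [Algebra A B]
  [CommRing C] [Algebra A C] {ι : Type}

/-- The `A[X]`-algebra structure given by a family of elements. -/
abbrev algX (x : ι → B) : Algebra (MvPolynomial ι A) B :=
  (aeval x : MvPolynomial ι A →ₐ[A] B).toRingHom.toAlgebra

theorem towerX (x : ι → B) :
    @IsScalarTower A (MvPolynomial ι A) B _ (algX (A := A) x).toSMul _ :=
  @IsScalarTower.of_algebraMap_eq A (MvPolynomial ι A) B _ _ _ _ (algX (A := A) x) _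
    fun a => ((aeval x : MvPolynomial ι A →ₐ[A] B).commutes a).symm

theorem algebraMap_algX (x : ι → B) (p : MvPolynomial ι A) :
    @algebraMap _ _ _ _ (algX (A := A) x) p = aeval x p := rfl

/-- `x` is a family of étale coordinates on `B`. -/
def EtaleX (A : Type u) {B : Type v} [CommRing A] [CommRing B] [Algebra A B] {ι : Type}
    (x : ι → B) : Prop :=
  (aeval x : MvPolynomial ι A →ₐ[A] B).toRingHom.Etale

theorem comp_aevalX (x : ι → B) (φ : B →ₐ[A] C) :
    φ.toRingHom.comp (aeval x : MvPolynomial ι A →ₐ[A] B).toRingHom =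
      (aeval (fun i => φ (x i)) : MvPolynomial ι A →ₐ[A] C).toRingHom := by
  have := comp_aeval (R := A) x φ
  rw [show (fun i => φ (x i)) = fun i => φ (x i) from rfl, ← this]
  rfl

theorem etale_comp {R : Type u} {S : Type v} {T : Type w} [CommRing R] [CommRing S] [CommRing T]
    (f : R →+* S) (g : S →+* T) (hf : f.Etale) (hg : g.Etale) : (g.comp f).Etale := by
  let _ := f.toAlgebra
  let _ := g.toAlgebra
  let _ := (g.comp f).toAlgebra
  have : IsScalarTower R S T := IsScalarTower.of_algebraMap_eq fun r => rfl
  have : Algebra.Etale R S := hf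
  have : Algebra.Etale S T := hg
  exact Algebra.Etale.comp R S T

theorem EtaleX.comp {x : ι → B} (h : EtaleX A x) (φ : B →ₐ[A] C) (hφ : φ.toRingHom.Etale) :
    EtaleX A (fun i => φ (x i)) := by
  rw [EtaleX, ← comp_aevalX]
  exact etale_comp _ _ h hφ

/-- Partial derivatives for étale coordinates. -/
def EtaleX.d {x : ι → B} (h : EtaleX A x) (i : ι) : Derivation A B B :=
  letI := algX (A := A) x
  haveI := towerX (A := A) x
  haveI : Algebra.Etale (MvPolynomial ι A) B := h
  pd (A := A) B i

/-- Jacobian criterion. -/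
theorem EtaleX.of_det [Fintype ι] [DecidableEq ι] {x : ι → B} (h : EtaleX A x) (z : ι → B)
    (hz : IsUnit (Matrix.of fun i j => h.d i (z j)).det) : EtaleX A z :=
  letI := algX (A := A) x
  haveI := towerX (A := A) x
  haveI : Algebra.Etale (MvPolynomial ι A) B := h
  etale_aeval (A := A) (S := B) z hz

end AlgX

variable {A : Type u} {H K : Type u} [CommRing A] [CommRing H] [Field K] [Algebra A H]
  {ι : Type}

/-- `H` is the hull of `A[X]` at the point given by `π`, with `X_i ↦ x_i`. -/
def IsCoord (A : Type u) {H K : Type u} [CommRing A] [CommRing H] [Field K] [Algebra A H]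
    {ι : Type} (π : H →+* K) (x : ι → H) : Prop :=
  IsHullAt (aeval x : MvPolynomial ι A →ₐ[A] H).toRingHom π

variable {π : H →+* K} {x : ι → H}

theorem IsCoord.hull (h : IsCoord A π x) :
    IsHullAt (aeval x : MvPolynomial ι A →ₐ[A] H).toRingHom π := h

theorem IsCoord.isUnit_of_ne_zero (h : IsCoord A π x) (s : H) (hs : π s ≠ 0) : IsUnit s :=
  h.hull.isUnit_of_ne_zero s hs

theorem IsCoord.henselianLocalRing (h : IsCoord A π x) : HenselianLocalRing H :=
  h.hull.henselianLocalRing

theorem IsCoord.mem_maximalIdeal_iff [IsLocalRing H] (h : IsCoord A π x) (s : H) :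
    s ∈ IsLocalRing.maximalIdeal H ↔ π s = 0 :=
  h.hull.mem_maximalIdeal_iff s

theorem IsCoord.formallyEtale (h : IsCoord A π x) :
    @Algebra.FormallyEtale (MvPolynomial ι A) H _ _ (algX (A := A) x) :=
  h.hull.formallyEtale

/-- Universal property with respect to henselian local rings. -/
theorem IsCoord.existsUnique (h : IsCoord A π x) {T : Type w} [CommRing T] [HenselianLocalRing T]
    [Algebra A T] (τ : K →+* IsLocalRing.ResidueField T) (t : ι → T)
    (hA : ∀ a, τ (π (algebraMap A H a)) = IsLocalRing.residue T (algebraMap A T a))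
    (ht : ∀ i, τ (π (x i)) = IsLocalRing.residue T (t i)) :
    ∃! g : H →ₐ[A] T, (∀ i, g (x i) = t i) ∧
      ∀ s, IsLocalRing.residue T (g s) = τ (π s) := by
  obtain ⟨g, ⟨hg1, hg2⟩, hgu⟩ := h.hull.existsUnique
    (aeval t : MvPolynomial ι A →ₐ[A] T).toRingHom τ (fun r => by
      change τ (π (aeval x r)) = IsLocalRing.residue T (aeval t r)
      induction r using MvPolynomial.induction_on with
      | C a => simp [hA]
      | add p q hp hq => rw [map_add, map_add, map_add, map_add, map_add, hp, hq]
      | mul_X p i hp =>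
        rw [map_mul, map_mul, map_mul, map_mul, map_mul, hp, aeval_X, aeval_X, ht])
  have hg3 : ∀ p : MvPolynomial ι A, g (aeval x p) = aeval t p := fun p => congr($hg1 p)
  refine ⟨{ toRingHom := g, commutes' := fun a => ?_ }, ⟨fun i => ?_, hg2⟩, fun g' hg' => ?_⟩
  · have := hg3 (C a)
    rwa [aeval_C, aeval_C] at this
  · have := hg3 (X i)
    rwa [aeval_X, aeval_X] at this
  · have h1 := hgu g'.toRingHom ⟨?_, hg'.2⟩
    · ext s
      exact congr($h1 s)
    · have := comp_aevalX (A := A) x g'
      rw [this]
      congr 2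
      exact funext hg'.1

/-- Uniqueness of maps to henselian local rings. -/
theorem IsCoord.hom_ext (h : IsCoord A π x) {T : Type w} [CommRing T] [HenselianLocalRing T]
    [Algebra A T] (φ ψ : H →ₐ[A] T) (h1 : ∀ i, φ (x i) = ψ (x i))
    (τ : K →+* IsLocalRing.ResidueField T)
    (h2 : ∀ s, IsLocalRing.residue T (φ s) = τ (π s))
    (h3 : ∀ s, IsLocalRing.residue T (ψ s) = τ (π s)) : φ = ψ := by
  obtain ⟨g, -, hg⟩ := h.existsUnique τ (fun i => φ (x i))
    (fun a => by rw [← h2, φ.commutes]) (fun i => (h2 _).symm)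
  rw [hg φ ⟨fun i => rfl, h2⟩, hg ψ ⟨fun i => (h1 i).symm, h3⟩]

/-- Finite families come from étale algebras over `A[X]`. -/
theorem IsCoord.exists_etale (h : IsCoord A π x) (s : Finset H) :
    ∃ (E : Type u) (_ : CommRing E) (_ : Algebra A E) (e : ι → E) (χ : E →ₐ[A] H),
      EtaleX A e ∧ (∀ i, χ (e i) = x i) ∧ (s : Set H) ⊆ Set.range χ := by
  obtain ⟨E, _, g, χ, hg, hχ, hs⟩ := h.hull.exists_etale s
  let _ : Algebra A E := (g.comp C).toAlgebra
  have hC : ∀ a, algebraMap A E a = g (C a) := fun a => rfl
  have hχ' : ∀ p : MvPolynomial ι A, χ (g p) = aeval x p := fun p => congr($hχ p)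
  have hge : (aeval (fun i => g (X i)) : MvPolynomial ι A →ₐ[A] E).toRingHom = g := by
    ext i
    · simp [hC]
    · simp
  refine ⟨E, inferInstance, inferInstance, fun i => g (X i),
    { toRingHom := χ, commutes' := fun a => ?_ }, ?_, fun i => ?_, hs⟩
  · change χ (g (C a)) = _
    rw [hχ', aeval_C]
  · rw [EtaleX, hge]
    exact hg
  · change χ (g (X i)) = _
    rw [hχ', aeval_X]

/-- The partial derivatives. -/
def IsCoord.d (h : IsCoord A π x) (i : ι) : Derivation A H H :=
  letI := algX (A := A) x
  haveI := towerX (A := A) x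
  haveI := h.formallyEtale
  pd (A := A) H i

theorem IsCoord.d_x [DecidableEq ι] (h : IsCoord A π x) (i j : ι) :
    h.d i (x j) = if i = j then 1 else 0 := by
  let _ := algX (A := A) x
  have := towerX (A := A) x
  have := h.formallyEtale
  have h1 := pd_X (A := A) (S := H) i j
  rw [algebraMap_algX, aeval_X] at h1
  exact h1

theorem IsCoord.der_ext (h : IsCoord A π x) {M : Type*} [AddCommGroup M] [Module A M] [Module H M]
    [IsScalarTower A H M] (d e : Derivation A H M) (hde : ∀ i, d (x i) = e (x i)) : d = e := by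
  let _ := algX (A := A) x
  have := towerX (A := A) x
  have := h.formallyEtale
  refine PDer.der_ext (A := A) (ι := ι) d e fun i => ?_
  rw [algebraMap_algX, aeval_X]
  exact hde i

theorem IsCoord.der_eq_sum [Fintype ι] (h : IsCoord A π x) {M : Type*} [AddCommGroup M]
    [Module A M] [Module H M] [IsScalarTower A H M] (d : Derivation A H M) (s : H) :
    d s = ∑ i, h.d i s • d (x i) := by
  let _ := algX (A := A) x
  have := towerX (A := A) x
  have := h.formallyEtale
  have h1 := PDer.der_eq_sum (A := A) (ι := ι) d s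
  rw [h1]
  refine Finset.sum_congr rfl fun i _ => ?_
  rw [algebraMap_algX, aeval_X]
  rfl

/-- Compatibility of partial derivatives with maps from étale algebras. -/
theorem IsCoord.d_map (h : IsCoord A π x) {E : Type v} [CommRing E] [Algebra A E] {e : ι → E}
    (he : EtaleX A e) (χ : E →ₐ[A] H) (hχ : ∀ i, χ (e i) = x i) (i : ι) (s : E) :
    χ (he.d i s) = h.d i (χ s) := by
  let _ := algX (A := A) x
  have := towerX (A := A) x
  have := h.formallyEtale
  let _ := algX (A := A) e
  have := towerX (A := A) e
  have : Algebra.Etale (MvPolynomial ι A) E := he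
  let χ' : E →ₐ[MvPolynomial ι A] H :=
    { toRingHom := χ.toRingHom
      commutes' := fun p => by
        have := comp_aevalX (A := A) e χ
        have h2 := congr($this p)
        refine h2.trans ?_
        change aeval (fun i => χ (e i)) p = aeval x p
        rw [funext hχ] }
  exact pd_map (A := A) (ι := ι) χ' i s

theorem EtaleX.d_map {E : Type v} [CommRing E] [Algebra A E] {e : ι → E}
    (he : EtaleX A e) {E' : Type w} [CommRing E'] [Algebra A E'] {e' : ι → E'}
    (he' : EtaleX A e') (χ : E →ₐ[A] E') (hχ : ∀ i, χ (e i) = e' i) (i : ι) (s : E) :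
    χ (he.d i s) = he'.d i (χ s) := by
  let _ := algX (A := A) e'
  have := towerX (A := A) e'
  have : Algebra.Etale (MvPolynomial ι A) E' := he'
  let _ := algX (A := A) e
  have := towerX (A := A) e
  have : Algebra.Etale (MvPolynomial ι A) E := he
  let χ' : E →ₐ[MvPolynomial ι A] E' :=
    { toRingHom := χ.toRingHom
      commutes' := fun p => by
        have := comp_aevalX (A := A) e χ
        have h2 := congr($this p)
        refine h2.trans ?_
        change aeval (fun i => χ (e i)) p = aeval e' p
        rw [funext hχ] }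
  exact pd_map (A := A) (ι := ι) χ' i s

end Groth.Agent.Vancyc.H696.Coord
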