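import Groth.Agent.Vancyc.H696.Geom
import Groth.Agent.Vancyc.H696.Coord
import Mathlib.RingTheory.DualNumber
import Mathlib.RingTheory.Unramified.LocalStructure
import Mathlib.RingTheory.Kaehler.Basic
import Mathlib.LinearAlgebra.Dual.Lemmas
import Mathlib.RingTheory.Nakayama

/-!
Generators of the maximal ideal of the geometric local ring give unramified coordinates.
-/

set_option autoImplicit false
universe u

noncomputable section

open IsLocalRing MvPolynomial

namespace Groth.Agent.Vancyc.H696.Unram

open Groth.Agent.Vancyc.H696.Geom Groth.Agent.Vancyc.H696.Coord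

variable {A : Type u} [CommRing A] [IsLocalRing A] {B₀ : Type u} [CommRing B₀] [Algebra A B₀]
  {P : Ideal B₀} {K : Type u} [Field K] [Algebra (ResidueField A) K] {L : Type u} [CommRing L]
  [IsLocalRing L] [Algebra K L] {ι : Type}

/-- Derivations to `K` which kill the coordinates are zero. -/
theorem der_zero (G : Geom A B₀ P K L) (x : ι → B₀)
    (hx : maximalIdeal L = Ideal.span (Set.range fun i => G.lam (x i) -
      algebraMap K L (G.ρ (G.lam (x i)))))
    (D : B₀ →+ K)
    (hD : ∀ b b', D (b * b') = G.ρ (G.lam b) * D b' + G.ρ (G.lam b') * D b)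
    (hDA : ∀ a, D (algebraMap A B₀ a) = 0) (hDx : ∀ i, D (x i) = 0) (b : B₀) : D b = 0 := by
  have h1 : D 1 = 0 := by rw [← (algebraMap A B₀).map_one, hDA]
  let Φ : B₀ →+* DualNumber K :=
    { toFun := fun b => TrivSqZeroExt.inl (G.ρ (G.lam b)) + TrivSqZeroExt.inr (D b)
      map_one' := by
        rw [map_one, map_one, h1, TrivSqZeroExt.inr_zero, add_zero, TrivSqZeroExt.inl_one]
      map_zero' := by
        rw [map_zero, map_zero, map_zero, TrivSqZeroExt.inr_zero, add_zero, TrivSqZeroExt.inl_zero]
      map_add' := fun b b' => by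
        rw [map_add, map_add, map_add, TrivSqZeroExt.inl_add, TrivSqZeroExt.inr_add]
        abel
      map_mul' := fun b b' => by
        ext
        · simp
        · simp [hD, mul_comm] }
  have hfst : ∀ b, (Φ b).fst = G.ρ (G.lam b) := fun b => by simp [Φ]
  have hsnd : ∀ b, (Φ b).snd = D b := fun b => by simp [Φ]
  have hmem : ∀ z : DualNumber K, z ∈ maximalIdeal (DualNumber K) ↔ z.fst = 0 := by
    intro z
    rw [mem_maximalIdeal, mem_nonunits_iff, TrivSqZeroExt.isUnit_iff_isUnit_fst,
      isUnit_iff_ne_zero, not_not]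
  obtain ⟨ψ, hψ⟩ := G.lift (DualNumber K) Φ (by
    intro a
    ext
    · rw [hfst, G.lam_alg, AlgHom.commutes]
      rfl
    · rw [hsnd, hDA]
      rfl) (by
    intro b
    rw [hmem, TrivSqZeroExt.fst_sub, hfst]
    exact sub_self _)
  have h2 : ∀ z ∈ maximalIdeal L, ψ z = 0 := by
    intro z hz
    rw [hx] at hz
    have h3 : Ideal.span (Set.range fun i => G.lam (x i) -
      algebraMap K L (G.ρ (G.lam (x i)))) ≤ RingHom.ker ψ := by
      rw [Ideal.span_le]
      rintro _ ⟨i, rfl⟩
      change ψ _ = 0
      rw [map_sub, hψ, AlgHom.commutes]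
      ext
      · rw [TrivSqZeroExt.fst_sub, hfst]
        exact sub_self _
      · rw [TrivSqZeroExt.snd_sub, hsnd, hDx]
        exact sub_self _
    exact h3 hz
  have h4 : G.lam b - algebraMap K L (G.ρ (G.lam b)) ∈ maximalIdeal L := by
    rw [← G.ρ_eq_zero, map_sub, AlgHom.commutes]
    exact sub_self _
  have h5 := h2 _ h4
  rw [map_sub, hψ, AlgHom.commutes] at h5
  have h6 := congr(TrivSqZeroExt.snd $h5)
  rw [TrivSqZeroExt.snd_sub, hsnd, TrivSqZeroExt.algebraMap_eq_inl] at h6
  simpa using h6

/-- The coordinates are unramified. -/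
theorem isUnramifiedAt [Algebra.FiniteType A B₀] [P.IsPrime] (G : Geom A B₀ P K L)
    [Algebra (MvPolynomial ι A) B₀] [IsScalarTower A (MvPolynomial ι A) B₀]
    (hx : maximalIdeal L = Ideal.span (Set.range fun i =>
      G.lam (algebraMap (MvPolynomial ι A) B₀ (X i)) -
      algebraMap K L (G.ρ (G.lam (algebraMap (MvPolynomial ι A) B₀ (X i)))))) :
    Algebra.IsUnramifiedAt (MvPolynomial ι A) P := by
  have hft : Algebra.FiniteType (MvPolynomial ι A) B₀ :=
    Algebra.FiniteType.of_restrictScalars_finiteType A _ _
  -- the map to `K`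
  let p : B₀ →+* K := (G.ρ : L →+* K).comp G.lam
  have hp : ∀ b, p b = 0 ↔ b ∈ P := G.ker
  let p1 : Localization.AtPrime P →+* K := IsLocalization.lift (M := P.primeCompl) (g := p)
    (fun y => isUnit_iff_ne_zero.2 fun h => y.2 ((hp y).1 h))
  have hp1 : ∀ b, p1 (algebraMap B₀ _ b) = p b := fun b => IsLocalization.lift_eq _ b
  have hp1m : ∀ z ∈ maximalIdeal (Localization.AtPrime P), p1 z = 0 := by
    intro z hz
    by_contra h
    obtain ⟨b, s, rfl⟩ := IsLocalization.exists_mk'_eq P.primeCompl z
    rw [← Localization.AtPrime.map_eq_maximalIdeal] at hz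
    have h1 : P.map (algebraMap B₀ (Localization.AtPrime P)) ≤ RingHom.ker p1 := by
      rw [Ideal.map_le_iff_le_comap]
      intro b hb
      change p1 (algebraMap B₀ _ b) = 0
      rw [hp1]
      exact (hp b).2 hb
    exact h (h1 hz)
  let p2 : ResidueField (Localization.AtPrime P) →+* K := Ideal.Quotient.lift _ p1 hp1m
  have hp2 : ∀ z, p2 (residue _ z) = p1 z := fun z => rfl
  have hess : Algebra.EssFiniteType (MvPolynomial ι A) (Localization.AtPrime P) :=
    Algebra.EssFiniteType.comp _ B₀ _
  constructor
  let N := Ω[Localization.AtPrime P⁄MvPolynomial ι A]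
  have hfin : Module.Finite (Localization.AtPrime P) N := inferInstance
  -- the differentials are in `m N`
  have key : ∀ b : B₀, KaehlerDifferential.D (MvPolynomial ι A) (Localization.AtPrime P)
      (algebraMap B₀ _ b) ∈ (maximalIdeal (Localization.AtPrime P)) • (⊤ : Submodule (Localization.AtPrime P) N) := by
    intro b
    rw [← Submodule.Quotient.mk_eq_zero]
    let _ : Module (ResidueField (Localization.AtPrime P))
        (N ⧸ (maximalIdeal (Localization.AtPrime P)) • (⊤ : Submodule (Localization.AtPrime P) N)) :=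
      inferInstanceAs (Module (Localization.AtPrime P ⧸ maximalIdeal (Localization.AtPrime P))
        (N ⧸ (maximalIdeal (Localization.AtPrime P)) • (⊤ : Submodule (Localization.AtPrime P) N)))
    have hsm : ∀ (z : Localization.AtPrime P) (n : N),
        (Submodule.Quotient.mk (z • n) :
          N ⧸ (maximalIdeal (Localization.AtPrime P)) • (⊤ : Submodule (Localization.AtPrime P) N)) =
        residue (Localization.AtPrime P) z • Submodule.Quotient.mk n := fun z n => rfl
    rw [← Module.forall_dual_apply_eq_zero_iff (ResidueField (Localization.AtPrime P))]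
    intro φ
    let D0 : B₀ →+ K :=
      { toFun := fun b => p2 (φ (Submodule.Quotient.mk (KaehlerDifferential.D (MvPolynomial ι A)
          (Localization.AtPrime P) (algebraMap B₀ _ b))))
        map_zero' := by simp
        map_add' := fun b b' => by
          rw [map_add, map_add, Submodule.Quotient.mk_add, map_add, map_add] }
    have hD0 : ∀ b, D0 b = p2 (φ (Submodule.Quotient.mk (KaehlerDifferential.D (MvPolynomial ι A)
          (Localization.AtPrime P) (algebraMap B₀ _ b)))) := fun b => rfl
    have hDR : ∀ r : MvPolynomial ι A, D0 (algebraMap _ B₀ r) = 0 := by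
      intro r
      rw [hD0, ← IsScalarTower.algebraMap_apply, Derivation.map_algebraMap,
        Submodule.Quotient.mk_zero, map_zero, map_zero]
    have hz := der_zero G (fun i => algebraMap (MvPolynomial ι A) B₀ (X i)) hx D0 (by
      intro b b'
      rw [hD0, map_mul, Derivation.leibniz, Submodule.Quotient.mk_add, hsm, hsm, map_add, map_smul,
        map_smul, map_add, smul_eq_mul, smul_eq_mul, map_mul, map_mul, hp2, hp2, hp1, hp1]
      rfl) (by
      intro a
      rw [IsScalarTower.algebraMap_apply A (MvPolynomial ι A) B₀, hDR]) (fun i => hDR _) b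
    exact p2.injective (hz.trans (map_zero p2).symm)
  have key2 : ∀ z : Localization.AtPrime P, KaehlerDifferential.D (MvPolynomial ι A)
      (Localization.AtPrime P) z ∈
      (maximalIdeal (Localization.AtPrime P)) • (⊤ : Submodule (Localization.AtPrime P) N) := by
    intro z
    obtain ⟨b, s, hz⟩ := IsLocalization.exists_mk'_eq P.primeCompl z
    have h1 : z * algebraMap B₀ _ (s : B₀) = algebraMap B₀ _ b := by
      rw [← hz, IsLocalization.mk'_spec]
    have h2 := congr(KaehlerDifferential.D (MvPolynomial ι A) (Localization.AtPrime P) $h1)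
    rw [Derivation.leibniz] at h2
    have h3 : algebraMap B₀ (Localization.AtPrime P) (s : B₀) •
        KaehlerDifferential.D (MvPolynomial ι A) (Localization.AtPrime P) z ∈
        (maximalIdeal (Localization.AtPrime P)) • (⊤ : Submodule (Localization.AtPrime P) N) := by
      rw [← eq_sub_iff_add_eq'] at h2
      rw [h2]
      exact Submodule.sub_mem _ (key b) (Submodule.smul_mem _ _ (key s))
    obtain ⟨w, hw⟩ := (IsLocalization.map_units (Localization.AtPrime P) s).exists_left_inv
    have h4 := Submodule.smul_mem _ w h3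
    rwa [smul_smul, hw, one_smul] at h4
  have htop : (⊤ : Submodule (Localization.AtPrime P) N) ≤
      (maximalIdeal (Localization.AtPrime P)) • (⊤ : Submodule (Localization.AtPrime P) N) := by
    refine (KaehlerDifferential.span_range_derivation (MvPolynomial ι A)
      (Localization.AtPrime P)).ge.trans ?_
    rw [Submodule.span_le]
    rintro _ ⟨z, rfl⟩
    exact key2 z
  have hbot : (⊤ : Submodule (Localization.AtPrime P) N) = ⊥ :=
    Submodule.eq_bot_of_le_smul_of_le_jacobson_bot _ _ Module.Finite.fg_top htop
      (IsLocalRing.jacobson_eq_maximalIdeal ⊥ bot_ne_top).ge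
  exact (Submodule.subsingleton_iff (Localization.AtPrime P)).1
    (subsingleton_of_top_le_bot hbot.le)

end Groth.Agent.Vancyc.H696.Unram
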