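import Groth.Agent.Vancyc.H696.T3
import Groth.Agent.Vancyc.H696.Unram
import Groth.Agent.Vancyc.H696.Cot
import Groth.Agent.Vancyc.H696.Change
import Mathlib.RingTheory.FinitePresentation
import Mathlib.RingTheory.Etale.StandardEtale

/-!
Presentation of a flat family with an ordinary quadratic singularity as a hypersurface in an étale algebra over affine space.
-/

set_option autoImplicit false
universe u v w

noncomputable section

namespace Groth.Agent.Vancyc.H696.Pres

open TensorProduct IsLocalRing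

/-- Flatness of the local ring of the quotient. -/
theorem flat_quot {A E B : Type u} [CommRing A] [CommRing E] [CommRing B] [Algebra A E]
    [Algebra A B] [Module.Flat A B] (β : E →ₐ[A] B) (p : Ideal E) [p.IsPrime] (J : Ideal E)
    (h1 : ∀ z ∉ p, IsUnit (β z)) (h2 : ∀ b, ∃ z s, s ∉ p ∧ β s * b = β z)
    (h3 : ∀ z, β z = 0 → ∃ t ∉ p, t * z ∈ J) (h4 : ∀ z ∈ J, β z = 0) :
    Module.Flat A (Localization.AtPrime p ⧸ J.map (algebraMap E (Localization.AtPrime p))) := by
  let α : Localization.AtPrime p →ₐ[A] B :=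
    IsLocalization.liftAlgHom (M := p.primeCompl) (f := β) (fun y => h1 y y.2)
  have hα : ∀ z, α (algebraMap E _ z) = β z := fun z => by
    simp [α]
  have hsurj : Function.Surjective α := by
    intro b
    obtain ⟨z, s, hs, hb⟩ := h2 b
    refine ⟨IsLocalization.mk' (Localization.AtPrime p) z (⟨s, hs⟩ : p.primeCompl), ?_⟩
    refine (h1 s hs).mul_left_cancel ?_
    rw [hb, ← hα, ← hα, ← map_mul, mul_comm]
    congr 1
    exact IsLocalization.mk'_spec _ _ _
  have hker : RingHom.ker α = J.map (algebraMap E (Localization.AtPrime p)) := by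
    apply le_antisymm
    · intro y hy
      obtain ⟨z, s, rfl⟩ := IsLocalization.exists_mk'_eq p.primeCompl y
      have h5 : β z = 0 := by
        rw [← hα, ← IsLocalization.mk'_spec (Localization.AtPrime p) z s, map_mul,
          (RingHom.mem_ker).1 hy, zero_mul]
      obtain ⟨t, ht, htz⟩ := h3 z h5
      rw [IsLocalization.mk'_mem_map_algebraMap_iff]
      exact ⟨t, ht, htz⟩
    · rw [Ideal.map_le_iff_le_comap]
      intro z hz
      change α (algebraMap E _ z) = 0
      rw [hα, h4 z hz]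
  have e1 : (Localization.AtPrime p ⧸ J.map (algebraMap E (Localization.AtPrime p))) ≃ₐ[A] B :=
    (Ideal.quotientEquivAlgOfEq A hker.symm).trans
      (Ideal.quotientKerAlgEquivOfSurjective hsurj)
  exact Module.Flat.of_linearEquiv e1.toLinearEquiv

/-- Spreading out a generator. -/
theorem exists_mul_mem {E : Type u} [CommRing E] (J : Ideal E) (hJ : J.FG) (p : Ideal E)
    [p.IsPrime] (F : E) (hF : J.map (algebraMap E (Localization.AtPrime p)) ≤
      Ideal.span {algebraMap E (Localization.AtPrime p) F}) :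
    ∃ s ∉ p, ∀ h ∈ J, s * h ∈ Ideal.span {F} := by
  classical
  obtain ⟨S, hS⟩ := hJ
  have h1 : ∀ h ∈ J, ∃ t ∉ p, t * h ∈ Ideal.span {F} := by
    intro h hh
    have h2 : algebraMap E (Localization.AtPrime p) h ∈
        (Ideal.span {F}).map (algebraMap E (Localization.AtPrime p)) := by
      rw [Ideal.map_span, Set.image_singleton]
      exact hF (Ideal.mem_map_of_mem _ hh)
    rw [IsLocalization.algebraMap_mem_map_algebraMap_iff p.primeCompl] at h2
    obtain ⟨m, hm, h3⟩ := h2
    exact ⟨m, hm, h3⟩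
  have h2 : ∀ T : Finset E, (∀ h ∈ T, h ∈ J) → ∃ t ∉ p, ∀ h ∈ T, t * h ∈ Ideal.span {F} := by
    intro T
    induction T using Finset.induction_on with
    | empty =>
      intro _
      exact ⟨1, (Ideal.ne_top_iff_one p).1 (Ideal.IsPrime.ne_top inferInstance), by simp⟩
    | insert a T _ ih =>
      intro hT
      obtain ⟨t, ht, ht2⟩ := ih fun h hh => hT h (Finset.mem_insert_of_mem hh)
      obtain ⟨t', ht', ht2'⟩ := h1 a (hT a (Finset.mem_insert_self _ _))
      refine ⟨t * t', (Ideal.IsPrime.mul_notMem inferInstance ht ht'), fun h hh => ?_⟩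
      rcases Finset.mem_insert.1 hh with rfl | hh
      · rw [mul_assoc]
        exact Ideal.mul_mem_left _ _ ht2'
      · rw [mul_comm t, mul_assoc]
        exact Ideal.mul_mem_left _ _ (ht2 h hh)
  obtain ⟨t, ht, ht2⟩ := h2 S (fun h hh => hS ▸ Ideal.subset_span hh)
  refine ⟨t, ht, fun h hh => ?_⟩
  rw [← hS] at hh
  have h3 : Ideal.span (S : Set E) ≤
      Submodule.comap (LinearMap.mulLeft E t) (Ideal.span {F}) := by
    rw [Ideal.span, Submodule.span_le]
    intro h hh
    exact ht2 h hh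
  exact h3 hh

/-- Localizing a surjection. -/
theorem exists_away {A E B : Type u} [CommRing A] [CommRing E] [CommRing B] [Algebra A E]
    [Algebra A B] (φ : E →ₐ[A] B) (hφ : Function.Surjective φ) (F s : E) (hF : φ F = 0)
    (hs : ∀ h, φ h = 0 → s * h ∈ Ideal.span {F}) :
    ∃ χ : Localization.Away s →ₐ[A] Localization.Away (φ s),
      (∀ z, χ (algebraMap E _ z) = algebraMap B _ (φ z)) ∧ Function.Surjective χ ∧
      ∀ y, χ y = 0 ↔ y ∈ Ideal.span {algebraMap E (Localization.Away s) F} := by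
  let ψ : E →ₐ[A] Localization.Away (φ s) := (IsScalarTower.toAlgHom A B _).comp φ
  have hψ : ∀ z, ψ z = algebraMap B _ (φ z) := fun z => rfl
  have hu : ∀ y : Submonoid.powers s, IsUnit (ψ y) := by
    rintro ⟨_, n, rfl⟩
    rw [hψ]
    simp only [map_pow]
    exact (IsLocalization.Away.algebraMap_isUnit (φ s)).pow n
  let χ : Localization.Away s →ₐ[A] Localization.Away (φ s) :=
    IsLocalization.liftAlgHom (M := Submonoid.powers s) (f := ψ) hu
  have hχ : ∀ z, χ (algebraMap E _ z) = algebraMap B _ (φ z) := fun z => by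
    change χ (algebraMap E _ z) = ψ z
    simp [χ]
  refine ⟨χ, hχ, ?_, fun y => ⟨?_, ?_⟩⟩
  · intro b
    obtain ⟨n, c, hc⟩ := IsLocalization.Away.surj (φ s) b
    obtain ⟨z, rfl⟩ := hφ c
    obtain ⟨w, hw⟩ := (IsLocalization.Away.algebraMap_isUnit (S := Localization.Away s) s).exists_left_inv
    refine ⟨algebraMap E _ z * w ^ n, ?_⟩
    have h1 : χ w * algebraMap B _ (φ s) = 1 := by
      rw [← hχ, ← map_mul, hw, map_one]
    rw [map_mul, hχ, ← hc, map_pow, mul_assoc, ← mul_pow, mul_comm (algebraMap B _ (φ s)), h1,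
      one_pow, mul_one]
  · intro hy
    obtain ⟨n, z, hz⟩ := IsLocalization.Away.surj s y
    have h1 : algebraMap B (Localization.Away (φ s)) (φ z) = 0 := by
      rw [← hχ, ← hz, map_mul, hy, zero_mul]
    obtain ⟨⟨_, m, rfl⟩, hm⟩ := (IsLocalization.map_eq_zero_iff (Submonoid.powers (φ s))
      (Localization.Away (φ s)) (φ z)).1 h1
    have h2 : φ (s ^ m * z) = 0 := by
      rw [map_mul, map_pow]
      exact hm
    have h3 := Ideal.mem_map_of_mem (algebraMap E (Localization.Away s)) (hs _ h2)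
    rw [Ideal.map_span, Set.image_singleton, ← mul_assoc, ← pow_succ', map_mul, ← hz,
      map_pow] at h3
    have hus := IsLocalization.Away.algebraMap_isUnit (S := Localization.Away s) s
    rw [Ideal.unit_mul_mem_iff_mem _ (hus.pow _), mul_comm,
      Ideal.unit_mul_mem_iff_mem _ (hus.pow _)] at h3
    exact h3
  · intro hy
    obtain ⟨c, rfl⟩ := Ideal.mem_span_singleton'.1 hy
    rw [map_mul, hχ, hF, map_zero, mul_zero]

open Groth.Agent.Vancyc.H696.Coord Groth.Agent.Vancyc.H696.HullAt Groth.Agent.Vancyc.H696.Taylor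
open Groth.Agent.Vancyc.H696.Geom VanCyc

/-- The generic presentation. -/
theorem pres_gen {A : Type u} [CommRing A] [IsLocalRing A] {B₀ : Type u} [CommRing B₀]
    [Algebra A B₀] [Algebra.FinitePresentation A B₀] {P : Ideal B₀} [P.IsPrime]
    [Module.Flat A (Localization.AtPrime P)]
    {K : Type u} [Field K] [Algebra (ResidueField A) K] [Algebra A K]
    [IsScalarTower A (ResidueField A) K]
    (q : ℕ) [ExpChar K q] (hpi : ∀ c : K, ∃ (e : ℕ) (a : A), c ^ q ^ e = algebraMap A K a)
    {L : Type u} [CommRing L] [IsLocalRing L] [IsNoetherianRing L] [Algebra K L]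
    (G : Geom A B₀ P K L) (n : ℕ) (hqL : IsOrdQuadSing K L n) (x : Fin (n + 1) → B₀)
    (hx : maximalIdeal L = Ideal.span (Set.range fun i =>
      G.lam (x i) - algebraMap K L (G.ρ (G.lam (x i)))))
    (f : B₀) (hf : f ∉ P) {E₀ : Type u} [CommRing E₀] [Algebra A E₀] (e₀ : Fin (n + 1) → E₀)
    (he₀ : EtaleX A e₀) (φ : E₀ →ₐ[A] Localization.Away f) (hφ : Function.Surjective φ)
    (hφe : ∀ i, φ (e₀ i) = algebraMap B₀ _ (x i)) :
    ∃ (E B' H : Type u) (_ : CommRing E) (_ : CommRing B') (_ : CommRing H) (_ : Algebra A E)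
      (_ : Algebra A B') (_ : Algebra A H) (_ : Algebra B₀ B') (_ : IsScalarTower A B₀ B')
      (χ : E →ₐ[A] B') (θ : E →ₐ[A] H) (π : H →+* K) (e : Fin (n + 1) → E) (F : E)
      (T : H →+* MvPowerSeries (Fin (n + 1)) K),
      EtaleX A e ∧ Algebra.Etale B₀ B' ∧ Function.Surjective χ ∧
      (∀ y, χ y = 0 ↔ y ∈ Ideal.span {F}) ∧ IsHullAt θ.toRingHom π ∧
      IsTaylor A π (fun i => θ (e i)) T ∧ OrdQuadSeries (T (θ F)) ∧
      (∀ a, π (algebraMap A H a) = algebraMap A K a) ∧
      ∃ τ : B' →+* K, (∀ z, τ (χ z) = π (θ z)) ∧ ∀ b, τ (algebraMap B₀ B' b) = 0 ↔ b ∈ P := by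
  -- the map `lam₁`
  have hfu : IsUnit (G.lam f) := by
    by_contra h
    exact hf ((G.ker f).1 ((G.ρ_eq_zero _).2 h))
  let lam₁ : Localization.Away f →+* L := IsLocalization.Away.lift f hfu
  have hlam₁ : ∀ b, lam₁ (algebraMap B₀ _ b) = G.lam b := fun b =>
    IsLocalization.Away.lift_eq f hfu b
  let _ : Algebra A L := ((algebraMap K L).comp (algebraMap A K)).toAlgebra
  have : IsScalarTower A K L := IsScalarTower.of_algebraMap_eq fun a => rfl
  have hGa : ∀ a, G.lam (algebraMap A B₀ a) = algebraMap A L a := by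
    intro a
    rw [G.lam_alg]
    change _ = algebraMap K L (algebraMap A K a)
    rw [IsScalarTower.algebraMap_apply A (ResidueField A) K]
    rfl
  let χL : E₀ →ₐ[A] L :=
    { toRingHom := lam₁.comp φ.toRingHom
      commutes' := fun a => by
        change lam₁ (φ (algebraMap A E₀ a)) = _
        rw [φ.commutes, IsScalarTower.algebraMap_apply A B₀, hlam₁, hGa] }
  have hχL : ∀ z, χL z = lam₁ (φ z) := fun z => rfl
  -- the hull
  obtain ⟨H, _, _, π, xH, hH, hπ⟩ := Univ.exists_isCoord A K (ι := Fin (n + 1))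
    (MvPolynomial.eval₂Hom (algebraMap A K) (fun i => G.ρ (G.lam (x i))))
  have hπA : ∀ a, π (algebraMap A H a) = algebraMap A K a := by
    intro a
    have := hπ (MvPolynomial.C a)
    rwa [MvPolynomial.aeval_C, MvPolynomial.coe_eval₂Hom, MvPolynomial.eval₂_C] at this
  have hπx : ∀ i, π (xH i) = G.ρ (G.lam (x i)) := by
    intro i
    have := hπ (MvPolynomial.X i)
    rwa [MvPolynomial.aeval_X, MvPolynomial.coe_eval₂Hom, MvPolynomial.eval₂_X] at this
  have hσA : ∀ a, G.ρ (χL (algebraMap A E₀ a)) = algebraMap A K a := by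
    intro a
    rw [χL.commutes, IsScalarTower.algebraMap_apply A K L, AlgHom.commutes]
    rfl
  obtain ⟨θ₀', hθ₀1, hθ₀2⟩ := hH.hull.exists_lift
    (MvPolynomial.aeval e₀ : MvPolynomial (Fin (n + 1)) A →ₐ[A] E₀).toRingHom he₀
    ((G.ρ : L →+* K).comp (χL : E₀ →+* L)) (by
      ext i
      · change G.ρ (χL (MvPolynomial.aeval e₀ (MvPolynomial.C i))) =
          π (MvPolynomial.aeval xH (MvPolynomial.C i))
        rw [MvPolynomial.aeval_C, MvPolynomial.aeval_C, hσA, hπA]
      · change G.ρ (χL (MvPolynomial.aeval e₀ (MvPolynomial.X i))) =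
          π (MvPolynomial.aeval xH (MvPolynomial.X i))
        rw [MvPolynomial.aeval_X, MvPolynomial.aeval_X, hχL, hφe, hlam₁, hπx])
  have hθA : ∀ a, θ₀' (algebraMap A E₀ a) = algebraMap A H a := by
    intro a
    have h1 := congr($hθ₀1 (MvPolynomial.C a))
    change θ₀' (MvPolynomial.aeval e₀ (MvPolynomial.C a)) =
      MvPolynomial.aeval xH (MvPolynomial.C a) at h1
    rwa [MvPolynomial.aeval_C, MvPolynomial.aeval_C] at h1
  have hθe : ∀ i, θ₀' (e₀ i) = xH i := by
    intro i
    have h1 := congr($hθ₀1 (MvPolynomial.X i))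
    change θ₀' (MvPolynomial.aeval e₀ (MvPolynomial.X i)) =
      MvPolynomial.aeval xH (MvPolynomial.X i) at h1
    rwa [MvPolynomial.aeval_X, MvPolynomial.aeval_X] at h1
  have hθπ : ∀ z, π (θ₀' z) = G.ρ (χL z) := fun z => congr($hθ₀2 z)
  let θ₀ : E₀ →ₐ[A] H := { toRingHom := θ₀', commutes' := hθA }
  have hθ₀ : ∀ z, θ₀ z = θ₀' z := fun z => rfl
  obtain ⟨T, hT⟩ := exists_taylor hH
  let T₀ : E₀ →ₐ[A] MvPowerSeries (Fin (n + 1)) K :=
    { toRingHom := T.comp θ₀'
      commutes' := fun a => by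
        change T (θ₀' (algebraMap A E₀ a)) = _
        rw [hθA, hT.alg, hπA, MvPowerSeries.algebraMap_apply] }
  have hT₀ : ∀ z, T₀ z = T (θ₀' z) := fun z => rfl
  have hT₀c : ∀ z, MvPowerSeries.constantCoeff (T₀ z) = G.ρ (χL z) := by
    intro z
    rw [hT₀, hT.const, hθπ]
  -- the polynomial algebra structure
  let _ : Algebra (MvPolynomial (Fin (n + 1)) A) E₀ := algX (A := A) e₀
  have htX : IsScalarTower A (MvPolynomial (Fin (n + 1)) A) E₀ := towerX (A := A) e₀
  have hetX : Algebra.Etale (MvPolynomial (Fin (n + 1)) A) E₀ := he₀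
  have haX : ∀ i, algebraMap (MvPolynomial (Fin (n + 1)) A) E₀ (MvPolynomial.X i) = e₀ i := by
    intro i
    rw [algebraMap_algX, MvPolynomial.aeval_X]
  have hTX : ∀ i, T₀ (algebraMap (MvPolynomial (Fin (n + 1)) A) E₀ (MvPolynomial.X i)) =
      MvPowerSeries.C (MvPowerSeries.constantCoeff
        (T₀ (algebraMap (MvPolynomial (Fin (n + 1)) A) E₀ (MvPolynomial.X i)))) +
          MvPowerSeries.X i := by
    intro i
    rw [haX, hT₀c, ← hθπ, hT₀, hθe]
    exact hT.map_x i
  have hχ : ∀ z, χL z - algebraMap K L (MvPowerSeries.constantCoeff (T₀ z)) ∈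
      maximalIdeal L := by
    intro z
    rw [hT₀c, ← G.ρ_eq_zero, map_sub, AlgHom.commutes]
    exact sub_self _
  have huL : ∀ i, T1.uL T₀ χL i = G.lam (x i) - algebraMap K L (G.ρ (G.lam (x i))) := by
    intro i
    rw [T1.uL, hT₀c, haX, hχL, hφe, hlam₁]
  have hrange : maximalIdeal L = Ideal.span (Set.range (T1.uL T₀ χL)) := by
    rw [hx]
    congr 2
    funext i
    exact (huL i).symm
  obtain ⟨g, hgo, hg⟩ := Groth.Agent.Vancyc.H678.P2.exists_ordQuadSeries hqL (T1.uL T₀ χL)
    (fun i => by rw [hrange]; exact Ideal.subset_span ⟨i, rfl⟩)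
    (by rw [← hrange]; exact le_sup_left)
  -- the kernel
  have hft : Algebra.FinitePresentation A E₀ :=
    Algebra.FinitePresentation.trans A (MvPolynomial (Fin (n + 1)) A) E₀
  have hfB : Algebra.FinitePresentation A (Localization.Away f) :=
    Algebra.FinitePresentation.trans A B₀ _
  have hJ : (RingHom.ker φ).FG :=
    Algebra.FinitePresentation.ker_fG_of_surjective φ hφ
  obtain ⟨F, hF, hFo, hJF⟩ := T2.exists_ord T₀ χL hTX hχ g hgo hg (RingHom.ker φ)
    (fun z hz => by
      rw [hχL, (RingHom.mem_ker).1 hz, map_zero]) (by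
    intro T' _ _ _ φ' hφA hφJ hφ'
    obtain ⟨φ'', hφ''⟩ : ∃ φ'' : Localization.Away f →+* T', ∀ z, φ'' (φ z) = φ' z := by
      let e1 := RingHom.quotientKerEquivOfSurjective (f := (φ : E₀ →+* Localization.Away f)) hφ
      refine ⟨(Ideal.Quotient.lift _ φ' hφJ).comp e1.symm.toRingHom, fun z => ?_⟩
      have h1 : e1.symm (φ z) = Ideal.Quotient.mk _ z := by
        rw [RingEquiv.symm_apply_eq]
        rfl
      change Ideal.Quotient.lift _ φ' hφJ (e1.symm (φ z)) = _
      rw [h1]
      rfl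
    obtain ⟨ψ, hψ⟩ := G.lift T' (φ''.comp (algebraMap B₀ _)) (by
      intro a
      change φ'' (algebraMap B₀ _ (algebraMap A B₀ a)) = _
      rw [← IsScalarTower.algebraMap_apply A B₀, ← φ.commutes, hφ'', hφA,
        IsScalarTower.algebraMap_apply A (ResidueField A) K]
      rfl) (by
      intro b
      obtain ⟨z, hz⟩ := hφ (algebraMap B₀ _ b)
      have h1 := hφ' z
      rw [hT₀c, hχL, hz, hlam₁, ← hφ'', hz] at h1
      exact h1)
    refine ⟨ψ, fun z => ?_⟩
    have h2 : (ψ : L →+* T').comp lam₁ = φ'' := by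
      refine IsLocalization.ringHom_ext (Submonoid.powers f) ?_
      ext b
      change ψ (lam₁ (algebraMap B₀ _ b)) = φ'' (algebraMap B₀ _ b)
      rw [hlam₁, hψ]
      rfl
    rw [← hφ'', ← h2]
    rfl)
  -- the prime
  let p : Ideal E₀ := RingHom.ker ((G.ρ : L →+* K).comp (χL : E₀ →+* L))
  have hpp : p.IsPrime := RingHom.ker_isPrime _
  have hp : ∀ z, z ∈ p ↔ G.ρ (χL z) = 0 := fun z => Iff.rfl
  have hρf : ∀ b, G.ρ (lam₁ (algebraMap B₀ _ b)) = 0 ↔ b ∈ P := by
    intro b
    rw [hlam₁, G.ker]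
  have hflat : Module.Flat A (Localization.AtPrime p ⧸
      (RingHom.ker φ).map (algebraMap E₀ (Localization.AtPrime p))) := by
    have hfu' : IsUnit (algebraMap B₀ (Localization.AtPrime P) f) :=
      IsLocalization.map_units (Localization.AtPrime P) (⟨f, hf⟩ : P.primeCompl)
    let γ : Localization.Away f →+* Localization.AtPrime P := IsLocalization.Away.lift f hfu'
    have hγ : ∀ b, γ (algebraMap B₀ _ b) = algebraMap B₀ _ b := fun b =>
      IsLocalization.Away.lift_eq f hfu' b
    let β : E₀ →ₐ[A] Localization.AtPrime P :=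
      { toRingHom := γ.comp (φ : E₀ →+* Localization.Away f)
        commutes' := fun a => by
          change γ (φ (algebraMap A E₀ a)) = _
          rw [φ.commutes, IsScalarTower.algebraMap_apply A B₀, hγ,
            ← IsScalarTower.algebraMap_apply] }
    have hβ : ∀ z, β z = γ (φ z) := fun z => rfl
    have hsurj : ∀ (z : E₀), ∃ (m : ℕ) (b : B₀), φ z * algebraMap B₀ _ f ^ m =
        algebraMap B₀ _ b := fun z => IsLocalization.Away.surj f (φ z)
    refine flat_quot β p _ ?_ ?_ ?_ ?_
    · intro z hz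
      obtain ⟨m, b, hb⟩ := hsurj z
      have h1 : b ∉ P := by
        rw [← hρf, ← hb, map_mul, map_mul, map_pow, map_pow]
        refine mul_ne_zero hz (pow_ne_zero _ ?_)
        rw [Ne, hρf]
        exact hf
      have h2 := congrArg γ hb
      rw [map_mul, map_pow, hγ, hγ] at h2
      have h3 : IsUnit (algebraMap B₀ (Localization.AtPrime P) b) :=
        IsLocalization.map_units (Localization.AtPrime P) (⟨b, h1⟩ : P.primeCompl)
      rw [← h2] at h3
      exact isUnit_of_mul_isUnit_left h3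
    · intro b
      obtain ⟨b₁, s₁, rfl⟩ := IsLocalization.exists_mk'_eq P.primeCompl b
      obtain ⟨z, hz⟩ := hφ (algebraMap B₀ _ b₁)
      obtain ⟨s, hs⟩ := hφ (algebraMap B₀ _ (s₁ : B₀))
      refine ⟨z, s, ?_, ?_⟩
      · rw [hp, hχL, hs, hρf]
        exact s₁.2
      · rw [hβ, hβ, hz, hs, hγ, hγ, mul_comm]
        exact IsLocalization.mk'_spec _ _ _
    · intro z hz
      obtain ⟨m, b, hb⟩ := hsurj z
      have h2 := congrArg γ hb
      rw [map_mul, map_pow, hγ, hγ] at h2
      rw [hβ] at hz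
      rw [hz, zero_mul] at h2
      obtain ⟨⟨t, ht⟩, htb⟩ := (IsLocalization.map_eq_zero_iff P.primeCompl
        (Localization.AtPrime P) b).1 h2.symm
      obtain ⟨t', ht'⟩ := hφ (algebraMap B₀ _ t)
      refine ⟨t', ?_, ?_⟩
      · rw [hp, hχL, ht', hρf]
        exact ht
      · rw [RingHom.mem_ker, map_mul, ht']
        have hfu2 : IsUnit (algebraMap B₀ (Localization.Away f) f ^ m) :=
          (IsLocalization.Away.algebraMap_isUnit f).pow m
        refine hfu2.mul_left_injective ?_
        change algebraMap B₀ _ t * φ z * algebraMap B₀ _ f ^ m = 0 * _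
        rw [mul_assoc, hb, ← map_mul, zero_mul]
        have : t * b = 0 := htb
        rw [this, map_zero]
    · intro z hz
      rw [hβ, (RingHom.mem_ker).1 hz, map_zero]
  have hmap := T3.map_eq_span T₀ q hpi hTX p (fun z => by rw [hp, hT₀c]) (RingHom.ker φ) hJ F hF
    hJF
  obtain ⟨s, hs, hs2⟩ := exists_mul_mem (RingHom.ker φ) hJ p F hmap.le
  obtain ⟨χ, hχ1, hχ2, hχ3⟩ := exists_away φ hφ F s hF hs2
  have hσs : π (θ₀ s) ≠ 0 := by
    rw [hθ₀, hθπ]
    exact hs
  obtain ⟨θ, hθ⟩ := Change.exists_lift_away θ₀ s (hH.isUnit_of_ne_zero _ hσs)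
  have heX := Change.etaleX_away he₀ s
  have hBe : Algebra.Etale B₀ (Localization.Away (φ s)) := by
    have h1 : Algebra.Etale B₀ (Localization.Away f) := Algebra.Etale.of_isLocalizationAway f
    have h2 : Algebra.Etale (Localization.Away f) (Localization.Away (φ s)) :=
      Algebra.Etale.of_isLocalizationAway (φ s)
    exact Algebra.Etale.comp B₀ (Localization.Away f) _
  have hus : IsUnit (((G.ρ : L →+* K).comp lam₁) (φ s)) := isUnit_iff_ne_zero.2 hs
  let τ : Localization.Away (φ s) →+* K := IsLocalization.Away.lift (φ s) hus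
  have hτ : ∀ b, τ (algebraMap _ _ b) = G.ρ (lam₁ b) := fun b =>
    IsLocalization.Away.lift_eq (φ s) hus b
  refine ⟨Localization.Away s, Localization.Away (φ s), H, inferInstance, inferInstance,
    inferInstance, inferInstance, inferInstance, inferInstance, inferInstance, inferInstance,
    χ, θ, π, fun i => algebraMap E₀ _ (e₀ i), algebraMap E₀ _ F, T, heX, hBe, hχ2, hχ3, ?_,
    ?_, ?_, hπA, τ, ?_, ?_⟩
  · refine hH.hull.of_etale _ heX θ.toRingHom ?_
    rw [comp_aevalX]
    congr 2
    funext i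
    rw [hθ]
    exact hθe i
  · have h1 : (fun i => θ (algebraMap E₀ _ (e₀ i))) = xH := by
      funext i
      rw [hθ]
      exact hθe i
    rw [h1]
    exact hT
  · rw [hθ]
    exact hFo
  · have h1 : τ.comp (χ : Localization.Away s →+* Localization.Away (φ s)) =
        π.comp (θ : Localization.Away s →+* H) := by
      refine IsLocalization.ringHom_ext (Submonoid.powers s) ?_
      ext z
      change τ (χ (algebraMap E₀ _ z)) = π (θ (algebraMap E₀ _ z))
      rw [hχ1, hτ, hθ, hθ₀, hθπ]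
      rfl
    exact fun z => congr($h1 z)
  · intro b
    rw [IsScalarTower.algebraMap_apply B₀ (Localization.Away f), hτ, hρf]

/-- Étale neighbourhoods surjecting onto unramified algebras. -/
theorem exists_std {A B₀ : Type u} [CommRing A] [CommRing B₀] [Algebra A B₀]
    [Algebra.FiniteType A B₀] {N : ℕ} (x : Fin N → B₀) (P : Ideal B₀) [P.IsPrime]
    (hu : letI := algX (A := A) x; Algebra.IsUnramifiedAt (MvPolynomial (Fin N) A) P) :
    ∃ f ∉ P, ∃ (E₀ : Type u) (_ : CommRing E₀) (_ : Algebra A E₀) (e₀ : Fin N → E₀)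
      (φ : E₀ →ₐ[A] Localization.Away f), EtaleX A e₀ ∧ Function.Surjective φ ∧
      ∀ i, φ (e₀ i) = algebraMap B₀ _ (x i) := by
  let _ : Algebra (MvPolynomial (Fin N) A) B₀ := algX (A := A) x
  have htow : IsScalarTower A (MvPolynomial (Fin N) A) B₀ := towerX (A := A) x
  have hft : Algebra.FiniteType (MvPolynomial (Fin N) A) B₀ :=
    Algebra.FiniteType.of_restrictScalars_finiteType A _ _
  have hu' : Algebra.IsUnramifiedAt (MvPolynomial (Fin N) A) P := hu
  obtain ⟨f, hf, hstd⟩ := Algebra.IsUnramifiedAt.exists_hasStandardEtaleSurjectionOn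
    (R := MvPolynomial (Fin N) A) P
  obtain ⟨E₀, _, _, hE, φ, hφ⟩ : ∃ (E₀ : Type u) (_ : CommRing E₀)
      (_ : Algebra (MvPolynomial (Fin N) A) E₀) (_ : Algebra.Etale (MvPolynomial (Fin N) A) E₀)
      (φ : E₀ →ₐ[MvPolynomial (Fin N) A] Localization.Away f), Function.Surjective φ := by
    obtain ⟨Pr, φ, hφ⟩ := hstd
    exact ⟨Pr.Ring, inferInstance, inferInstance, inferInstance, φ, hφ⟩
  have htow2 : ∀ p : MvPolynomial (Fin N) A, algebraMap (MvPolynomial (Fin N) A)
      (Localization.Away f) p = algebraMap B₀ _ (MvPolynomial.aeval x p) := by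
    intro p
    rw [IsScalarTower.algebraMap_apply (MvPolynomial (Fin N) A) B₀ (Localization.Away f)]
    rfl
  let _ : Algebra A E₀ :=
    ((algebraMap (MvPolynomial (Fin N) A) E₀).comp MvPolynomial.C).toAlgebra
  have hae : (MvPolynomial.aeval (fun i => algebraMap (MvPolynomial (Fin N) A) E₀
      (MvPolynomial.X i)) : MvPolynomial (Fin N) A →ₐ[A] E₀).toRingHom =
      algebraMap (MvPolynomial (Fin N) A) E₀ := by
    ext i
    · change MvPolynomial.aeval _ (MvPolynomial.C i) = _
      rw [MvPolynomial.aeval_C]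
      rfl
    · change MvPolynomial.aeval _ (MvPolynomial.X i) = _
      rw [MvPolynomial.aeval_X]
  refine ⟨f, hf, E₀, inferInstance, inferInstance,
    fun i => algebraMap (MvPolynomial (Fin N) A) E₀ (MvPolynomial.X i),
    { toRingHom := φ.toRingHom, commutes' := fun a => ?_ }, ?_, hφ, fun i => ?_⟩
  · change φ (algebraMap (MvPolynomial (Fin N) A) E₀ (MvPolynomial.C a)) = _
    rw [φ.commutes, htow2, MvPolynomial.aeval_C, ← IsScalarTower.algebraMap_apply]
  · rw [EtaleX, hae, RingHom.etale_algebraMap]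
    exact hE
  · change φ (algebraMap (MvPolynomial (Fin N) A) E₀ (MvPolynomial.X i)) = _
    rw [φ.commutes, htow2, MvPolynomial.aeval_X]

/-- **Presentation.** -/
theorem exists_pres {A : Type u} [CommRing A] [IsLocalRing A] [IsSepClosed (ResidueField A)]
    {B₀ : Type u} [CommRing B₀]
    [Algebra A B₀] [Algebra.FinitePresentation A B₀] {P : Ideal B₀} [P.IsMaximal]
    (hP : (maximalIdeal A).map (algebraMap A B₀) ≤ P)
    [Module.Flat A (Localization.AtPrime P)] (n : ℕ)
    (hq : VanCyc.IsOrdQuadPt (VanCyc.fibHom A (Localization.AtPrime P)) n) :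
    ∃ (E B' H : Type u) (_ : CommRing E) (_ : CommRing B') (_ : CommRing H) (_ : Algebra A E)
      (_ : Algebra A B') (_ : Algebra A H) (_ : Algebra B₀ B') (_ : IsScalarTower A B₀ B')
      (χ : E →ₐ[A] B') (θ : E →ₐ[A] H) (π : H →+* AlgebraicClosure (ResidueField A))
      (e : Fin (n + 1) → E) (F : E)
      (T : H →+* MvPowerSeries (Fin (n + 1)) (AlgebraicClosure (ResidueField A))),
      EtaleX A e ∧ Algebra.Etale B₀ B' ∧ Function.Surjective χ ∧
      (∀ y, χ y = 0 ↔ y ∈ Ideal.span {F}) ∧ IsHullAt θ.toRingHom π ∧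
      IsTaylor A π (fun i => θ (e i)) T ∧ OrdQuadSeries (T (θ F)) ∧
      (∀ a, π (algebraMap A H a) = algebraMap A (AlgebraicClosure (ResidueField A)) a) ∧
      ∃ τ : B' →+* AlgebraicClosure (ResidueField A),
        (∀ z, τ (χ z) = π (θ z)) ∧ ∀ b, τ (algebraMap B₀ B' b) = 0 ↔ b ∈ P := by
  obtain ⟨L, _, _, _, _, ⟨G⟩, hqL⟩ := exists_geom A B₀ P hP n hq
  have hr := Cot.spanFinrank_le n hqL
  obtain ⟨x, hx⟩ := Cot.exists_coord (ι := B₀)
    (fun b => G.lam b - algebraMap _ L (G.ρ (G.lam b)))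
    (fun b => by
      rw [← G.ρ_eq_zero, map_sub, AlgHom.commutes]
      exact sub_self _)
    (by
      refine G.gen.trans (Ideal.span_mono ?_)
      rintro _ ⟨b, rfl⟩
      exact ⟨b, rfl⟩) (n + 1) hr
  have hu : letI := algX (A := A) x
      Algebra.IsUnramifiedAt (MvPolynomial (Fin (n + 1)) A) P := by
    let _ : Algebra (MvPolynomial (Fin (n + 1)) A) B₀ := algX (A := A) x
    have htow : IsScalarTower A (MvPolynomial (Fin (n + 1)) A) B₀ := towerX (A := A) x
    refine Unram.isUnramifiedAt G ?_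
    rw [hx]
    congr 2
    funext i
    rw [algebraMap_algX, MvPolynomial.aeval_X]
    rfl
  obtain ⟨f, hf, E₀, _, _, e₀, φ, he₀, hφ, hφe⟩ := exists_std x P hu
  have : ExpChar (AlgebraicClosure (ResidueField A)) (ringExpChar (AlgebraicClosure (ResidueField A))) :=
    inferInstance
  exact pres_gen (ringExpChar (AlgebraicClosure (ResidueField A))) (fun c => by
    have h1 : ExpChar (ResidueField A) (ringExpChar (AlgebraicClosure (ResidueField A))) :=
      (algebraMap (ResidueField A) (AlgebraicClosure (ResidueField A))).expChar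
        (algebraMap (ResidueField A) (AlgebraicClosure (ResidueField A))).injective _
    obtain ⟨e, y, hy⟩ := IsPurelyInseparable.pow_mem (ResidueField A)
      (ringExpChar (AlgebraicClosure (ResidueField A))) c
    obtain ⟨a, rfl⟩ := residue_surjective y
    exact ⟨e, a, by rw [← hy]; exact (IsScalarTower.algebraMap_apply A (ResidueField A) _ a).symm⟩)
    G n hqL x hx f hf e₀ he₀ φ hφ hφe

end Groth.Agent.Vancyc.H696.Pres
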