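import Groth.Agent.Vancyc.H696.NFH
import Groth.Agent.Vancyc.H696.Pres

/-!
The normal form of ordinary quadratic singularities of even dimension in residue characteristic two, over a strictly
henselian local ring.
-/

set_option autoImplicit false
universe u v w

noncomputable section

namespace Groth.Agent.Vancyc.H696.NFDeg

open TensorProduct IsLocalRing VanCyc Matrix
open Groth.Agent.Vancyc.H696.HullAt Groth.Agent.Vancyc.H696.Coord
open Groth.Agent.Vancyc.H696.Taylor Groth.Agent.Vancyc.H696.Restrict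
open Groth.Agent.Vancyc.H694.StdT Groth.Agent.Vancyc.H696.Change
open Groth.Agent.Vancyc.H696.EtaleQuot

/-- Shrinking an étale algebra until a family of elements becomes a coordinate system. -/
theorem exists_delta {A : Type u} {H K : Type u} [CommRing A] [CommRing H] [Field K] [Algebra A H]
    {ι : Type} [Fintype ι] [DecidableEq ι] {π : H →+* K} {x : ι → H} (h : IsCoord A π x)
    {E : Type u} [CommRing E] [Algebra A E] {e : ι → E} (he : EtaleX A e) (θ : E →ₐ[A] H)
    (hθ : ∀ i, θ (e i) = x i) (w : ι → E)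
    (hdet : IsUnit (Matrix.of fun i j => h.d i (θ (w j))).det) :
    ∃ δ : E, IsUnit (θ δ) ∧ EtaleX A (fun i => algebraMap E (Localization.Away δ) (w i)) := by
  let δ : E := (Matrix.of fun i j => he.d i (w j)).det
  have hδ : θ δ = (Matrix.of fun i j => h.d i (θ (w j))).det := by
    change θ.toRingHom (Matrix.det _) = _
    rw [RingHom.map_det]
    congr 1
    ext i j
    simp only [RingHom.mapMatrix_apply, Matrix.map_apply, Matrix.of_apply]
    exact h.d_map he θ hθ i (w j)
  refine ⟨δ, by rw [hδ]; exact hdet, ?_⟩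
  have he' := etaleX_away he δ
  refine he'.of_det _ ?_
  have h1 : (Matrix.of fun i j => he'.d i (algebraMap E (Localization.Away δ) (w j))).det =
      algebraMap E (Localization.Away δ) δ := by
    change _ = (algebraMap E (Localization.Away δ)) (Matrix.det _)
    rw [RingHom.map_det]
    congr 1
    ext i j
    simp only [RingHom.mapMatrix_apply, Matrix.map_apply, Matrix.of_apply]
    exact (EtaleX.d_map he he' (IsScalarTower.toAlgHom A E (Localization.Away δ))
      (fun i => rfl) i (w j)).symm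
  rw [h1]
  exact IsLocalization.Away.algebraMap_isUnit δ

/-- Descent of the normal form to an étale algebra. -/
theorem exists_descent {A : Type u} {H K κ : Type u} [CommRing A] [CommRing H] [Field K]
    [Field κ] [Algebra A H] (m : ℕ) {π : H →+* K} {π' : H →+* κ}
    {E : Type u} [CommRing E] [Algebra A E] {e : Fin (2 * m + 1) → E} (he : EtaleX A e)
    (θ : E →ₐ[A] H) (hθ : IsHullAt θ.toRingHom π)
    (h : IsCoord A π' (fun i => θ (e i))) (F : E) (i₀ : Fin (2 * m + 1)) (b c : A) (V : H)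
    (z : Fin (2 * m) → H) (hV : IsUnit V)
    (hrel : V * θ F = θ (e i₀) ^ 2 + algebraMap A H b * θ (e i₀) + algebraMap A H c +
        ∑ i : Fin m, z (lo m i) * z (hi m i))
    (hz : IsCoord A π' (Sum.elim (fun _ : Unit => θ (e i₀)) z)) :
    ∃ (E' : Type u) (_ : CommRing E') (_ : Algebra A E') (γ : E →ₐ[A] E') (θ' : E' →ₐ[A] H)
      (V' : E') (w : Fin (2 * m + 1) → E'), γ.toRingHom.Etale ∧ (∀ s, θ' (γ s) = θ s) ∧
      EtaleX A w ∧ IsUnit V' ∧ (∀ i : Fin (2 * m), θ' (w i.succ) = z i) ∧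
      V' * γ F = w 0 ^ 2 + algebraMap A E' b * w 0 + algebraMap A E' c +
        ∑ i : Fin m, w (lo m i).succ * w (hi m i).succ := by
  classical
  obtain ⟨Vi, hVi⟩ := hV.exists_right_inv
  -- first étale algebra: containing the elements
  obtain ⟨E₁, _, g₁, θ₁, hg₁, hθ₁, hs₁⟩ := hθ.exists_etale
    (insert V (insert Vi (Finset.univ.image z)))
  obtain ⟨V₁, hV₁⟩ : ∃ V₁, θ₁ V₁ = V := hs₁ (by simp)
  obtain ⟨W₁, hW₁⟩ : ∃ W₁, θ₁ W₁ = Vi := hs₁ (by simp)
  have hz₁ : ∀ i, ∃ z₁, θ₁ z₁ = z i := fun i => hs₁ (by simp)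
  choose z₁ hz₁ using hz₁
  have hθ₁' : ∀ s, θ₁ (g₁ s) = θ s := fun s => congr($hθ₁ s)
  -- second: the first relation
  obtain ⟨E₂, _, g₂, θ₂, hg₂, hθ₂, hrel₂⟩ := hθ.exists_etale_eq_zero g₁ hg₁ θ₁ hθ₁
    (V₁ * g₁ F - (g₁ (e i₀) ^ 2 + g₁ (algebraMap A E b) * g₁ (e i₀) + g₁ (algebraMap A E c) +
      ∑ i : Fin m, z₁ (lo m i) * z₁ (hi m i))) (by
      rw [map_sub, map_mul, map_add, map_add, map_add, map_mul, map_pow, map_sum, hV₁,
        hθ₁', hθ₁', hθ₁', hθ₁', θ.commutes, θ.commutes, hrel, sub_eq_zero]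
      congr 1
      refine Finset.sum_congr rfl fun i _ => ?_
      rw [map_mul, hz₁, hz₁])
  have hθ₂' : ∀ s, θ₂ (g₂ s) = θ₁ s := fun s => congr($hθ₂ s)
  -- third: the second relation
  obtain ⟨E₃, _, g₃, θ₃, hg₃, hθ₃, hrel₃⟩ := hθ.exists_etale_eq_zero (g₂.comp g₁) hg₂ θ₂
    (by rw [← RingHom.comp_assoc, hθ₂, hθ₁]) (g₂ (V₁ * W₁ - 1)) (by
      rw [hθ₂', map_sub, map_mul, hV₁, hW₁, hVi, map_one, sub_self])
  have hθ₃' : ∀ s, θ₃ (g₃ s) = θ₂ s := fun s => congr($hθ₃ s)
  let G : E →+* E₃ := g₃.comp (g₂.comp g₁)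
  have hG : ∀ s, G s = g₃ (g₂ (g₁ s)) := fun s => rfl
  have hθG : ∀ s, θ₃ (G s) = θ s := fun s => by rw [hG, hθ₃', hθ₂', hθ₁']
  let _ : Algebra A E₃ := (G.comp (algebraMap A E)).toAlgebra
  let G' : E →ₐ[A] E₃ := { toRingHom := G, commutes' := fun a => rfl }
  let θ₃' : E₃ →ₐ[A] H :=
    { toRingHom := θ₃
      commutes' := fun a => by
        change θ₃ (G (algebraMap A E a)) = _
        rw [hθG, θ.commutes] }
  have he₃ : EtaleX A (fun i => G' (e i)) := he.comp G' hg₃
  -- coordinates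
  let w₃ : Fin (2 * m + 1) → E₃ := Fin.cons (G (e i₀)) (fun i => g₃ (g₂ (z₁ i)))
  have hw₃0 : w₃ 0 = G (e i₀) := rfl
  have hw₃s : ∀ i : Fin (2 * m), w₃ i.succ = g₃ (g₂ (z₁ i)) := fun i => rfl
  have hwH : IsCoord A π' (fun i => θ₃' (w₃ i)) := by
    have h1 := isCoord_reindex hz (NFH.idx (0 : Fin (2 * m + 1))).symm
    have h2 : (fun i => Sum.elim (fun _ : Unit => θ (e i₀)) z
        ((NFH.idx (0 : Fin (2 * m + 1))).symm i)) = fun i => θ₃' (w₃ i) := by
      funext i
      refine Fin.cases ?_ (fun i => ?_) i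
      · have h3 : (NFH.idx (0 : Fin (2 * m + 1))).symm 0 = Sum.inl () := by
          rw [Equiv.symm_apply_eq, NFH.idx_inl]
        rw [h3, hw₃0]
        exact (hθG _).symm
      · have h3 : (NFH.idx (0 : Fin (2 * m + 1))).symm i.succ = Sum.inr i := by
          rw [Equiv.symm_apply_eq, NFH.idx_inr]
          simp
        rw [h3, hw₃s]
        change z i = θ₃ (g₃ (g₂ (z₁ i)))
        rw [hθ₃', hθ₂', hz₁]
    rw [h2] at h1
    exact h1
  obtain ⟨δ, hδ, hw⟩ := exists_delta h he₃ θ₃' (fun i => hθG (e i)) w₃ (isUnit_det h hwH)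
  obtain ⟨θ', hθ'⟩ := exists_lift_away θ₃' δ hδ
  have hloc : (algebraMap E₃ (Localization.Away δ)).Etale := by
    rw [RingHom.etale_algebraMap]
    exact Algebra.Etale.of_isLocalizationAway δ
  refine ⟨Localization.Away δ, inferInstance, inferInstance,
    (IsScalarTower.toAlgHom A E₃ (Localization.Away δ)).comp G', θ',
    algebraMap E₃ _ (g₃ (g₂ V₁)), fun i => algebraMap E₃ _ (w₃ i), etale_comp _ _ hg₃ hloc,
    fun s => ?_, hw, ?_, fun i => ?_, ?_⟩
  · change θ' (algebraMap E₃ _ (G s)) = _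
    rw [hθ']
    exact hθG s
  · refine IsUnit.map _ ?_
    rw [isUnit_iff_exists_inv]
    refine ⟨g₃ (g₂ W₁), ?_⟩
    rw [map_sub, map_sub, map_one, map_one, sub_eq_zero, map_mul, map_mul] at hrel₃
    exact hrel₃
  · rw [hθ', hw₃s]
    change θ₃ (g₃ (g₂ (z₁ i))) = z i
    rw [hθ₃', hθ₂', hz₁]
  · rw [map_sub, sub_eq_zero] at hrel₂
    have h1 : algebraMap E₃ (Localization.Away δ) (g₃ (g₂ (V₁ * g₁ F))) =
        algebraMap E₃ (Localization.Away δ) (g₃ (g₂ (g₁ (e i₀) ^ 2 +
          g₁ (algebraMap A E b) * g₁ (e i₀) + g₁ (algebraMap A E c) +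
            ∑ i : Fin m, z₁ (lo m i) * z₁ (hi m i)))) := by rw [hrel₂]
    change algebraMap E₃ (Localization.Away δ) (g₃ (g₂ V₁)) *
      algebraMap E₃ (Localization.Away δ) (G F) = algebraMap E₃ (Localization.Away δ) (w₃ 0) ^ 2 +
      algebraMap A (Localization.Away δ) b * algebraMap E₃ (Localization.Away δ) (w₃ 0) +
      algebraMap A (Localization.Away δ) c +
      ∑ i : Fin m, algebraMap E₃ (Localization.Away δ) (w₃ (lo m i).succ) *
        algebraMap E₃ (Localization.Away δ) (w₃ (hi m i).succ)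
    rw [hw₃0]
    simp only [hw₃s]
    rw [← map_mul, hG, ← map_mul, ← map_mul, h1]
    simp only [map_add, map_mul, map_pow, map_sum]
    rfl

theorem aeval_degQuadPoly {A E : Type u} [CommRing A] [IsLocalRing A] [CommRing E] [Algebra A E]
    (m : ℕ) (b c : A) (w : Fin (2 * m + 1) → E) :
    MvPolynomial.aeval w (degQuadPoly A (stdT A m) b c) =
      w 0 ^ 2 + algebraMap A E b * w 0 + algebraMap A E c +
        ∑ i : Fin m, w (lo m i).succ * w (hi m i).succ := by
  rw [degQuadPoly, map_add, map_add, map_add, map_mul, map_pow, MvPolynomial.aeval_X,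
    MvPolynomial.aeval_C, MvPolynomial.aeval_C, MvPolynomial.aeval_rename, quadPoly_stdT, map_sum]
  congr 1
  refine Finset.sum_congr rfl fun i _ => ?_
  rw [map_mul, MvPolynomial.aeval_X, MvPolynomial.aeval_X]
  rfl

/-- The quotient by the equation. -/
theorem exists_quot {A : Type u} [CommRing A] [IsLocalRing A] {B₀ B' E E' H K : Type u}
    [CommRing B₀] [CommRing B'] [CommRing E] [CommRing E'] [CommRing H] [Field K]
    [Algebra A B₀] [Algebra A B'] [Algebra A E] [Algebra A E'] [Algebra A H] [Algebra B₀ B']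
    [IsScalarTower A B₀ B'] (hB : Algebra.Etale B₀ B') (P : Ideal B₀) (χ : E →ₐ[A] B')
    (hχs : Function.Surjective χ) (F : E) (hχF : ∀ y, χ y = 0 ↔ y ∈ Ideal.span {F})
    (γ : E →ₐ[A] E') (hγ : γ.toRingHom.Etale) (π : H →+* K) (θ : E →ₐ[A] H) (θ' : E' →ₐ[A] H)
    (hθ : ∀ s, θ' (γ s) = θ s) (hπm : ∀ a ∈ maximalIdeal A, π (algebraMap A H a) = 0)
    (τ : B' →+* K) (hτ : ∀ z, τ (χ z) = π (θ z)) (hτP : ∀ b, τ (algebraMap B₀ B' b) = 0 ↔ b ∈ P)
    (m : ℕ) (b c : A) (V' : E') (hV' : IsUnit V') (w : Fin (2 * m + 1) → E') (hw : EtaleX A w)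
    (hwπ : ∀ i : Fin (2 * m), π (θ' (w i.succ)) = 0)
    (hrel : V' * γ F = w 0 ^ 2 + algebraMap A E' b * w 0 + algebraMap A E' c +
        ∑ i : Fin m, w (lo m i).succ * w (hi m i).succ)
    (q : ℕ) [ExpChar K q] (hpi : ∀ y : K, ∃ (e : ℕ) (a : A), y ^ q ^ e = π (algebraMap A H a)) :
    ∃ (B'' : Type u) (_ : CommRing B'') (_ : Algebra A B'') (_ : Algebra B₀ B'')
      (_ : IsScalarTower A B₀ B'') (_ : Algebra.Etale B₀ B'') (P' : Ideal B'') (_ : P'.IsPrime)
      (psi : degQuadRing A (stdT A m) b c →ₐ[A] B''),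
      P'.comap (algebraMap B₀ B'') = P ∧ psi.toRingHom.Etale ∧
      sideIdeal A (stdT A m) b c ≤ P'.comap psi ∧
      ∀ y : B'', ∃ x : B₀, y - algebraMap B₀ B'' x ∈ P' := by
  have hF : χ F = 0 := (hχF F).2 (Ideal.mem_span_singleton_self F)
  let I : Ideal E := Ideal.span {F}
  let I' : Ideal E' := Ideal.span {γ F}
  have hI' : I' = I.map γ.toRingHom := by
    rw [Ideal.map_span, Set.image_singleton]
    rfl
  have hle : I ≤ I'.comap γ.toRingHom := by
    rw [hI']
    exact Ideal.le_comap_map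
  let gb : E ⧸ I →+* E' ⧸ I' := Ideal.quotientMap I' γ.toRingHom hle
  have hgb : gb.Etale := etale_quotientMap γ.toRingHom hγ I I' hI'
  have hgbm : ∀ z, gb (Ideal.Quotient.mk I z) = Ideal.Quotient.mk I' (γ z) := fun z => rfl
  -- `B' ≃ E / F`
  have hker : I = RingHom.ker (χ : E →+* B') := by
    ext y
    exact (hχF y).symm
  let e1 : E ⧸ I ≃+* B' := (Ideal.quotEquivOfEq hker).trans
    (RingHom.quotientKerEquivOfSurjective (f := (χ : E →+* B')) hχs)
  have he1 : ∀ z, e1 (Ideal.Quotient.mk I z) = χ z := fun z => rfl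
  have he1s : ∀ z, e1.symm (χ z) = Ideal.Quotient.mk I z := fun z => by
    rw [RingEquiv.symm_apply_eq, he1]
  let ζ : B' →+* E' ⧸ I' := gb.comp e1.symm.toRingHom
  have hζ : ∀ z, ζ (χ z) = Ideal.Quotient.mk I' (γ z) := by
    intro z
    change gb (e1.symm (χ z)) = _
    rw [he1s, hgbm]
  have he1e : e1.symm.toRingHom.Etale := by
    let _ := e1.symm.toRingHom.toAlgebra
    have : Algebra.Etale B' (E ⧸ I) :=
      Algebra.Etale.of_equiv (AlgEquiv.ofBijective (Algebra.ofId B' (E ⧸ I)) e1.symm.bijective)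
    exact this
  have hζe : ζ.Etale := etale_comp _ _ he1e hgb
  let _ : Algebra B₀ (E' ⧸ I') := (ζ.comp (algebraMap B₀ B')).toAlgebra
  have hBe : Algebra.Etale B₀ (E' ⧸ I') := by
    have h1 : (algebraMap B₀ B').Etale := RingHom.etale_algebraMap.2 hB
    exact etale_comp _ _ h1 hζe
  have htow : IsScalarTower A B₀ (E' ⧸ I') := IsScalarTower.of_algebraMap_eq fun a => by
    change Ideal.Quotient.mk I' (algebraMap A E' a) = ζ (algebraMap B₀ B' (algebraMap A B₀ a))
    rw [← IsScalarTower.algebraMap_apply A B₀ B', ← χ.commutes, hζ, γ.commutes]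
  -- the point
  have hπF : ∀ z ∈ I', (π.comp (θ' : E' →+* H)) z = 0 := by
    intro z hz
    have h1 : I' ≤ RingHom.ker (π.comp (θ' : E' →+* H)) := by
      rw [Ideal.span_le, Set.singleton_subset_iff]
      change π (θ' (γ F)) = 0
      rw [hθ, ← hτ, hF, map_zero]
    exact h1 hz
  let p : E' ⧸ I' →+* K := Ideal.Quotient.lift I' (π.comp (θ' : E' →+* H)) hπF
  have hp : ∀ z, p (Ideal.Quotient.mk I' z) = π (θ' z) := fun z => rfl
  have hpζ : ∀ y, p (ζ y) = τ y := by
    intro y
    obtain ⟨z, rfl⟩ := hχs y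
    rw [hζ, hp, hθ, hτ]
  -- the map from the model
  let J : Ideal (MvPolynomial (Fin (2 * m + 1)) A) := Ideal.span {degQuadPoly A (stdT A m) b c}
  let W : MvPolynomial (Fin (2 * m + 1)) A →ₐ[A] E' := MvPolynomial.aeval w
  have hJ : I' = J.map W.toRingHom := by
    rw [Ideal.map_span, Set.image_singleton]
    change Ideal.span {γ F} = Ideal.span {MvPolynomial.aeval w (degQuadPoly A (stdT A m) b c)}
    rw [aeval_degQuadPoly, ← hrel, Ideal.span_singleton_mul_left_unit hV']
  have hJle : J ≤ I'.comap W.toRingHom := by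
    rw [hJ]
    exact Ideal.le_comap_map
  let psi : degQuadRing A (stdT A m) b c →ₐ[A] E' ⧸ I' :=
    { toRingHom := Ideal.quotientMap I' W.toRingHom hJle
      commutes' := fun a => by
        change Ideal.Quotient.mk I' (W (algebraMap A _ a)) = Ideal.Quotient.mk I' (algebraMap A E' a)
        rw [W.commutes] }
  have hpsi : ∀ f, psi (Ideal.Quotient.mk _ f) = Ideal.Quotient.mk I' (W f) := fun f => rfl
  have hpsie : psi.toRingHom.Etale := etale_quotientMap W.toRingHom hw J I' hJ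
  refine ⟨E' ⧸ I', inferInstance, inferInstance, inferInstance, htow, hBe, RingHom.ker p,
    RingHom.ker_isPrime p, psi, ?_, hpsie, ?_, ?_⟩
  · ext y
    rw [Ideal.mem_comap, RingHom.mem_ker]
    change p (ζ (algebraMap B₀ B' y)) = 0 ↔ _
    rw [hpζ, hτP]
  · rw [sideIdeal, Ideal.map_le_iff_le_comap, sup_le_iff]
    constructor
    · rw [Ideal.map_le_iff_le_comap]
      intro a ha
      change p (psi (Ideal.Quotient.mk _ (MvPolynomial.C a))) = 0
      rw [hpsi, hp]
      change π (θ' (MvPolynomial.aeval w (MvPolynomial.C a))) = 0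
      rw [MvPolynomial.aeval_C, θ'.commutes]
      exact hπm a ha
    · rw [Ideal.span_le]
      rintro _ ⟨i, rfl⟩
      change p (psi (Ideal.Quotient.mk _ (MvPolynomial.X (Fin.succ i)))) = 0
      rw [hpsi, hp]
      change π (θ' (MvPolynomial.aeval w (MvPolynomial.X (Fin.succ i)))) = 0
      rw [MvPolynomial.aeval_X]
      exact hwπ i
  · intro y
    obtain ⟨r, hr⟩ := range_eq (algebraMap B₀ (E' ⧸ I')) (RingHom.etale_algebraMap.2 hBe) p q
      (fun y => by
        obtain ⟨e, a, ha⟩ := hpi y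
        refine ⟨e, algebraMap A B₀ a, ?_⟩
        rw [ha, ← IsScalarTower.algebraMap_apply]
        change _ = p (Ideal.Quotient.mk I' (algebraMap A E' a))
        rw [hp, θ'.commutes]) y
    exact ⟨r, by rw [RingHom.mem_ker, map_sub, hr, sub_self]⟩

/-- **Normal form, residue characteristic two, even dimension, strictly henselian base.** -/
theorem nfDeg (A : Type u) [CommRing A] [HenselianLocalRing A] [IsSepClosed (ResidueField A)]
    [CharP (ResidueField A) 2] (B0 : Type u) [CommRing B0] [Algebra A B0]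
    [Algebra.FinitePresentation A B0] (P : Ideal B0) [P.IsMaximal]
    (hP : (maximalIdeal A).map (algebraMap A B0) ≤ P) [Module.Flat A (Localization.AtPrime P)]
    (m : ℕ) (hq : VanCyc.IsOrdQuadPt (VanCyc.fibHom A (Localization.AtPrime P)) (2 * m)) :
    ∃ b c : A, b ∈ maximalIdeal A ∧
      ∃ (B' : Type u) (_ : CommRing B') (_ : Algebra A B') (_ : Algebra B0 B')
        (_ : IsScalarTower A B0 B') (_ : Algebra.Etale B0 B') (P' : Ideal B') (_ : P'.IsPrime)
        (psi : VanCyc.degQuadRing A (stdT A m) b c →ₐ[A] B'),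
        P'.comap (algebraMap B0 B') = P ∧ psi.toRingHom.Etale ∧
        VanCyc.sideIdeal A (stdT A m) b c ≤ P'.comap psi ∧
        ∀ y : B', ∃ x : B0, y - algebraMap B0 B' x ∈ P' := by
  obtain ⟨E, B', H, _, _, _, _, _, _, _, _, χ, θ, π, e, F, T, he, hB, hχs, hχF, hθ, hT, hFo, hπA,
    τ, hτ, hτP⟩ := Pres.exists_pres hP (2 * m) hq
  have : CharP (AlgebraicClosure (ResidueField A)) 2 :=
    charP_of_injective_algebraMap (algebraMap (ResidueField A)
      (AlgebraicClosure (ResidueField A))).injective 2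
  have hprime : Fact (Nat.Prime 2) := ⟨Nat.prime_two⟩
  have hexp : ExpChar (AlgebraicClosure (ResidueField A)) 2 := ExpChar.prime Nat.prime_two
  have hexpk : ExpChar (ResidueField A) 2 := ExpChar.prime Nat.prime_two
  have hpi : ∀ y : AlgebraicClosure (ResidueField A), ∃ (e : ℕ) (a : A),
      y ^ 2 ^ e = algebraMap A (AlgebraicClosure (ResidueField A)) a := by
    intro y
    obtain ⟨e, y', hy'⟩ := IsPurelyInseparable.pow_mem (ResidueField A) 2 y
    obtain ⟨a, rfl⟩ := residue_surjective y'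
    exact ⟨e, a, by rw [← hy']; exact (IsScalarTower.algebraMap_apply A (ResidueField A) _ a).symm⟩
  have hxcoord : IsCoord A π (fun i => θ (e i)) :=
    IsHullAt.of_etale_base _ he hθ (comp_aevalX (A := A) e θ)
  have hHh : HenselianLocalRing H := hxcoord.henselianLocalRing
  let j : ResidueField H →+* AlgebraicClosure (ResidueField A) :=
    Ideal.Quotient.lift (maximalIdeal H) π
      (fun a ha => (hxcoord.mem_maximalIdeal_iff a).1 ha)
  have hj : ∀ s, j (residue H s) = π s := fun s => rfl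
  have hcomp : j.comp (residue H) = π := RingHom.ext hj
  have hx' : IsCoord A (residue H) (fun i => θ (e i)) := restrict hxcoord j (residue H) hj
  rw [← hcomp] at hT
  obtain ⟨i₀, b, c, V, z, hb, hV, hzπ, hrel, hzc⟩ := NFH.exists_normal m hx' j
    (fun a => by rw [hj, hπA]) residue_surjective hpi hT (θ F) hFo
  obtain ⟨E', _, _, γ, θ', V', w, hγ, hθ', hw, hV', hwz, hrel'⟩ := exists_descent m he θ hθ hx' F
    i₀ b c V z hV hrel hzc
  refine ⟨b, c, hb, ?_⟩
  have hmK : ∀ a ∈ maximalIdeal A,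
      algebraMap A (AlgebraicClosure (ResidueField A)) a = 0 := by
    intro a ha
    rw [IsScalarTower.algebraMap_apply A (ResidueField A)]
    have : algebraMap A (ResidueField A) a = 0 := (residue_eq_zero_iff a).2 ha
    rw [this, map_zero]
  exact exists_quot hB P χ hχs F hχF γ hγ π θ θ' hθ' (fun a ha => by rw [hπA, hmK a ha]) τ hτ hτP
    m b c V' hV' w hw (fun i => by rw [hwz, ← hj, hzπ, map_zero]) hrel' 2
    (fun y => by
      obtain ⟨e, a, ha⟩ := hpi y
      exact ⟨e, a, by rw [ha, hπA]⟩)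

end Groth.Agent.Vancyc.H696.NFDeg
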