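import Mathlib.RingTheory.Henselian
import Mathlib.Algebra.Polynomial.Lifts

/-!
Quotients of henselian local rings.
-/

set_option autoImplicit false
universe u v

namespace Groth.Agent.Vancyc.H696.HensTools

open IsLocalRing Polynomial

/-- A local quotient of a henselian local ring is henselian. -/
theorem henselianLocalRing_of_surjective {R : Type u} {S : Type v} [CommRing R] [CommRing S]
    [HenselianLocalRing R] [IsLocalRing S] (φ : R →+* S) (hφ : Function.Surjective φ) :
    HenselianLocalRing S := by
  have hloc : IsLocalHom φ := IsLocalHom.of_surjective φ hφ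
  refine ⟨fun f hf a₀ h1 h2 => ?_⟩
  obtain ⟨g, hg, -, hgm⟩ := lifts_and_natDegree_eq_and_monic (f := φ) (p := f)
    (by rw [lifts_iff_coeff_lifts]; exact fun n => hφ _) hf
  obtain ⟨b₀, rfl⟩ := hφ a₀
  have h3 : φ (g.eval b₀) = f.eval (φ b₀) := by rw [← hg, eval_map_apply]
  have h4 : φ (g.derivative.eval b₀) = f.derivative.eval (φ b₀) := by
    rw [← hg, derivative_map, eval_map_apply]
  obtain ⟨b, hb1, hb2⟩ := HenselianLocalRing.is_henselian g hgm b₀
    (by
      rw [mem_maximalIdeal, mem_nonunits_iff] at h1 ⊢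
      intro h
      exact h1 (h3 ▸ h.map φ))
    ((isUnit_map_iff φ _).mp (h4 ▸ h2))
  refine ⟨φ b, ?_, ?_⟩
  · rw [IsRoot, ← hg, eval_map_apply, hb1.eq_zero, map_zero]
  · rw [mem_maximalIdeal, mem_nonunits_iff, ← map_sub] at *
    intro hu
    exact hb2 ((isUnit_map_iff φ _).mp hu)

/-- A proper quotient of a henselian local ring is henselian. -/
theorem henselianLocalRing_quotient (R : Type u) [CommRing R] [HenselianLocalRing R] (J : Ideal R)
    (hJ : J ≠ ⊤) : HenselianLocalRing (R ⧸ J) := by
  have hnt : Nontrivial (R ⧸ J) := Ideal.Quotient.nontrivial_iff.mpr hJ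
  have hloc : IsLocalRing (R ⧸ J) :=
    IsLocalRing.of_surjective' (Ideal.Quotient.mk J) Ideal.Quotient.mk_surjective
  exact henselianLocalRing_of_surjective (Ideal.Quotient.mk J) Ideal.Quotient.mk_surjective

end Groth.Agent.Vancyc.H696.HensTools
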