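import Groth.Agent.Vancyc.H696.Coord
import Mathlib.FieldTheory.PurelyInseparable.Basic
import Mathlib.RingTheory.Unramified.Field
import Mathlib.RingTheory.Ideal.Quotient.Operations

/-!
Universal property of hulls with respect to henselian local rings with a surjection onto a field, and surjectivity of a
base onto a purely inseparable residue field.
-/

set_option autoImplicit false

universe u v w

noncomputable section

namespace Groth.Agent.Vancyc.H696.Univ

open MvPolynomial
open Groth.Agent.Vancyc.H696.HullAt Groth.Agent.Vancyc.H696.Coord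

/-- The residue field of a local ring with a surjection onto a field. -/
theorem exists_tau {T : Type w} [CommRing T] [IsLocalRing T] {L : Type v} [Field L] (p : T →+* L)
    (hp : Function.Surjective p) :
    ∃ τ : L ≃+* IsLocalRing.ResidueField T, ∀ s, τ (p s) = IsLocalRing.residue T s := by
  have hker : RingHom.ker p = IsLocalRing.maximalIdeal T :=
    IsLocalRing.eq_maximalIdeal (RingHom.ker_isMaximal_of_surjective p hp)
  let e1 : T ⧸ RingHom.ker p ≃+* L := RingHom.quotientKerEquivOfSurjective hp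
  let e2 : T ⧸ RingHom.ker p ≃+* IsLocalRing.ResidueField T := Ideal.quotEquivOfEq hker
  refine ⟨e1.symm.trans e2, fun s => ?_⟩
  have h1 : e1 (Ideal.Quotient.mk _ s) = p s := RingHom.quotientKerEquivOfSurjective_apply_mk hp s
  rw [← h1, RingEquiv.trans_apply, e1.symm_apply_apply]
  rfl

section Hull

variable {R H K : Type u} [CommRing R] [CommRing H] [Field K] {f : R →+* H} {π : H →+* K}

/-- Universal property, with a surjection onto a field. -/
theorem existsUnique_of_surj (h : IsHullAt f π) {T : Type w} [CommRing T] [HenselianLocalRing T]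
    {L : Type v} [Field L] (p : T →+* L) (hp : Function.Surjective p) (τ : K →+* L) (g : R →+* T)
    (hg : ∀ r, p (g r) = τ (π (f r))) :
    ∃! φ : H →+* T, φ.comp f = g ∧ ∀ s, p (φ s) = τ (π s) := by
  obtain ⟨e, he⟩ := exists_tau p hp
  obtain ⟨φ, ⟨h1, h2⟩, h3⟩ := h.existsUnique g (e.toRingHom.comp τ) (fun r => by
    rw [← he, hg]
    rfl)
  have key : ∀ (ψ : H →+* T) (s : H), p (ψ s) = τ (π s) ↔
      IsLocalRing.residue T (ψ s) = (e.toRingHom.comp τ) (π s) := fun ψ s => by
    rw [← he]
    exact e.injective.eq_iff.symm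
  refine ⟨φ, ⟨h1, fun s => (key φ s).mpr (h2 s)⟩, fun ψ hψ => h3 ψ ⟨hψ.1, fun s => ?_⟩⟩
  exact (key ψ s).mp (hψ.2 s)

theorem hom_ext_of_surj (h : IsHullAt f π) {T : Type w} [CommRing T] [HenselianLocalRing T]
    {L : Type v} [Field L] (p : T →+* L) (hp : Function.Surjective p) (τ : K →+* L)
    (φ ψ : H →+* T) (h1 : φ.comp f = ψ.comp f) (h2 : ∀ s, p (φ s) = τ (π s))
    (h3 : ∀ s, p (ψ s) = τ (π s)) : φ = ψ := by
  obtain ⟨g, -, hg⟩ := existsUnique_of_surj h p hp τ (φ.comp f) fun r => h2 _
  rw [hg φ ⟨rfl, h2⟩, hg ψ ⟨h1.symm, h3⟩]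

end Hull

section Coord

variable {A : Type u} {H K : Type u} [CommRing A] [CommRing H] [Field K] [Algebra A H]
  {ι : Type} {π : H →+* K} {x : ι → H}

theorem coord_existsUnique (h : IsCoord A π x) {T : Type w} [CommRing T] [HenselianLocalRing T]
    [Algebra A T] {L : Type v} [Field L] (p : T →+* L) (hp : Function.Surjective p) (τ : K →+* L)
    (t : ι → T) (hA : ∀ a, p (algebraMap A T a) = τ (π (algebraMap A H a)))
    (ht : ∀ i, p (t i) = τ (π (x i))) :
    ∃! g : H →ₐ[A] T, (∀ i, g (x i) = t i) ∧ ∀ s, p (g s) = τ (π s) := by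
  obtain ⟨e, he⟩ := exists_tau p hp
  obtain ⟨φ, ⟨h1, h2⟩, h3⟩ := h.existsUnique (T := T) (e.toRingHom.comp τ) t
    (fun a => by rw [← he, hA]; rfl) (fun i => by rw [← he, ht]; rfl)
  have key : ∀ (ψ : H →ₐ[A] T) (s : H), p (ψ s) = τ (π s) ↔
      IsLocalRing.residue T (ψ s) = (e.toRingHom.comp τ) (π s) := fun ψ s => by
    rw [← he]
    exact e.injective.eq_iff.symm
  refine ⟨φ, ⟨h1, fun s => (key φ s).mpr (h2 s)⟩, fun ψ hψ => h3 ψ ⟨hψ.1, fun s => ?_⟩⟩
  exact (key ψ s).mp (hψ.2 s)

theorem coord_hom_ext (h : IsCoord A π x) {T : Type w} [CommRing T] [HenselianLocalRing T]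
    [Algebra A T] {L : Type v} [Field L] (p : T →+* L) (hp : Function.Surjective p) (τ : K →+* L)
    (φ ψ : H →ₐ[A] T) (h1 : ∀ i, φ (x i) = ψ (x i)) (h2 : ∀ s, p (φ s) = τ (π s))
    (h3 : ∀ s, p (ψ s) = τ (π s)) : φ = ψ := by
  obtain ⟨g, -, hg⟩ := coord_existsUnique h p hp τ (fun i => φ (x i))
    (fun a => by rw [← h2, φ.commutes]) (fun i => h2 _)
  rw [hg φ ⟨fun i => rfl, h2⟩, hg ψ ⟨fun i => (h1 i).symm, h3⟩]

/-- Existence of hulls of polynomial rings. -/
theorem exists_isCoord (A : Type u) [CommRing A] (K : Type u) [Field K] {ι : Type}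
    (ρ : MvPolynomial ι A →+* K) :
    ∃ (H : Type u) (_ : CommRing H) (_ : Algebra A H) (π : H →+* K) (x : ι → H),
      IsCoord A π x ∧ ∀ p, π (aeval x p) = ρ p := by
  let _ := ρ.toAlgebra
  obtain ⟨H, _, _, π, h⟩ := Groth.Agent.Hensel.Hull.exists_isHull (MvPolynomial ι A) K
  have h' := IsHullAt.of_isHull h
  let _ : Algebra A H := ((algebraMap (MvPolynomial ι A) H).comp C).toAlgebra
  have hx : (aeval (fun i => algebraMap (MvPolynomial ι A) H (X i)) :
      MvPolynomial ι A →ₐ[A] H).toRingHom = algebraMap (MvPolynomial ι A) H := by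
    ext i
    · simp [RingHom.algebraMap_toAlgebra]
    · simp
  refine ⟨H, inferInstance, inferInstance, π, fun i => algebraMap (MvPolynomial ι A) H (X i),
    ?_, fun p => ?_⟩
  · rw [IsCoord, hx]
    exact h'
  · have := congr($hx p)
    refine (congrArg π this).trans ?_
    exact π.commutes p

end Coord

section Insep

/-- An unramified algebra with purely inseparable residue field: the base surjects onto it. -/
theorem surjective_of_etale {R D K : Type*} [CommRing R] [CommRing D] [Field K] (f : R →+* D)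
    (hf : f.Etale) (g : D →+* K) (hg : Function.Surjective g) (q : ℕ) [ExpChar K q]
    (hq : ∀ y : K, ∃ (e : ℕ) (r : R), y ^ q ^ e = g (f r)) :
    Function.Surjective (g.comp f) := by
  let k₀ : Subring K := (g.comp f).range
  have hmem : ∀ r, g (f r) ∈ k₀ := fun r => ⟨r, rfl⟩
  have hinv : ∀ y : K, y ∈ k₀ → y⁻¹ ∈ k₀ := by
    intro y hy
    by_cases hy0 : y = 0
    · rw [hy0, inv_zero]
      exact k₀.zero_mem
    obtain ⟨e, r, hr⟩ := hq y⁻¹
    have hpos : 0 < q ^ e := pow_pos (expChar_pos K q) e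
    have h1 : y⁻¹ = y ^ (q ^ e - 1) * (y⁻¹) ^ q ^ e := by
      have : q ^ e = (q ^ e - 1) + 1 := by omega
      conv_rhs => rw [this, pow_succ, Nat.add_sub_cancel]
      rw [← mul_assoc, ← mul_pow, mul_inv_cancel₀ hy0, one_pow, one_mul]
    rw [h1, hr]
    exact k₀.mul_mem (k₀.pow_mem hy _) (hmem r)
  let F : Subfield K := { k₀ with inv_mem' := hinv }
  have hF : ∀ r, g (f r) ∈ F := hmem
  let _ : Algebra R D := f.toAlgebra
  let _ : Algebra D K := g.toAlgebra
  let _ : Algebra R K := (g.comp f).toAlgebra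
  have : IsScalarTower R D K := IsScalarTower.of_algebraMap_eq fun r => rfl
  have : Algebra.Etale R D := hf
  have : Algebra.FormallyUnramified D K := Algebra.FormallyUnramified.of_surjective
    (Algebra.ofId D K) hg
  have : Algebra.FormallyUnramified R K := Algebra.FormallyUnramified.comp R D K
  have hft : Algebra.FiniteType R K := by
    have : Algebra.FiniteType D K := Algebra.FiniteType.of_surjective (Algebra.ofId D K) hg
    exact Algebra.FiniteType.trans (S := D) inferInstance inferInstance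
  let _ : Algebra R F := ((g.comp f).codRestrict F hF).toAlgebra
  have : IsScalarTower R F K := IsScalarTower.of_algebraMap_eq fun r => rfl
  have : Algebra.FormallyUnramified F K := Algebra.FormallyUnramified.of_restrictScalars R F K
  have : Algebra.FiniteType F K := Algebra.FiniteType.of_restrictScalars_finiteType R F K
  have hsep : Algebra.IsSeparable F K := Algebra.FormallyUnramified.isSeparable F K
  have : ExpChar F q := (algebraMap F K).expChar (algebraMap F K).injective q
  have hpi : IsPurelyInseparable F K := by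
    rw [isPurelyInseparable_iff_pow_mem F q]
    intro y
    obtain ⟨e, r, hr⟩ := hq y
    exact ⟨e, ⟨g (f r), hF r⟩, hr.symm⟩
  intro y
  obtain ⟨z, hz⟩ := IsPurelyInseparable.surjective_algebraMap_of_isSeparable F K y
  obtain ⟨r, hr⟩ := z.2
  exact ⟨r, hr.trans hz⟩

end Insep

end Groth.Agent.Vancyc.H696.Univ
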