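import Groth.Agent.Vancyc.H696.Taylor
import Groth.Agent.Vancyc.H696.Change
import Mathlib.FieldTheory.PurelyInseparable.Basic
import Mathlib.FieldTheory.IsAlgClosed.AlgebraicClosure

/-!
Hulls and their residue fields; reindexing of coordinates.
-/

set_option autoImplicit false

universe u v w

noncomputable section

namespace Groth.Agent.Vancyc.H696.Restrict

open MvPolynomial IsLocalRing
open Groth.Agent.Vancyc.H696.HullAt Groth.Agent.Vancyc.H696.Coord Groth.Agent.Vancyc.H696.Taylor
open Groth.Agent.Hensel.Hull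

section Hull

variable {R H K κ : Type u} [CommRing R] [CommRing H] [Field K] [Field κ] {f : R →+* H}
  {π : H →+* K}

/-- Shrinking the field of a hull. -/
theorem restrict (h : IsHullAt f π) (j : κ →+* K) (π' : H →+* κ) (hj : ∀ s, j (π' s) = π s) :
    IsHullAt f π' := by
  have hinj := j.injective
  let _ := f.toAlgebra
  let _ : Algebra R κ := (π'.comp f).toAlgebra
  refine { isUnit_of_ne_zero := fun s hs => ?_, exists_lift := ?_, lazard := ?_ }
  · refine h.isUnit_of_ne_zero s ?_
    rw [← hj]
    exact (map_ne_zero j).2 hs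
  · intro E _ _ _ σ
    obtain ⟨φ, h1, h2⟩ := h.exists_lift (algebraMap R E) (RingHom.etale_algebraMap.2 inferInstance)
      (j.comp (σ : E →+* κ)) (by
        ext r
        change j (σ (algebraMap R E r)) = π (f r)
        rw [σ.commutes, ← hj]
        rfl)
    refine ⟨{ toRingHom := φ, commutes' := fun r => congr($h1 r) }, ?_⟩
    ext e
    apply hinj
    have h3 := congr($h2 e)
    change π (φ e) = j (σ e) at h3
    change j (π' (φ e)) = j (σ e)
    rw [hj, h3]
  · intro P _ _ hP φ
    obtain ⟨E, _, ψ, χ, h1, h2⟩ := h.lazard (algebraMap R P)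
      (RingHom.finitePresentation_algebraMap.2 hP) (φ : P →+* H) φ.comp_algebraMap
    let _ : Algebra R E := (ψ.comp (algebraMap R P)).toAlgebra
    have hE : Algebra.Etale R E := h1
    refine ⟨E, inferInstance, inferInstance, hE, { toRingHom := ψ, commutes' := fun r => rfl },
      { toRingHom := χ, commutes' := fun r => ?_ }, ?_⟩
    · change χ (ψ (algebraMap R P r)) = algebraMap R H r
      rw [← φ.commutes]
      exact congr($h2 _)
    · ext x
      exact congr($h2 x)

end Hull

/-- The image of an étale algebra in a field purely inseparable over the base. -/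
theorem range_eq {R D K : Type*} [CommRing R] [CommRing D] [Field K] (f : R →+* D)
    (hf : f.Etale) (g : D →+* K) (q : ℕ) [ExpChar K q]
    (hq : ∀ y : K, ∃ (e : ℕ) (r : R), y ^ q ^ e = g (f r)) (d : D) : ∃ r, g d = g (f r) := by
  have hinv : ∀ y : K, y ∈ g.range → y⁻¹ ∈ g.range := by
    intro y hy
    by_cases hy0 : y = 0
    · rw [hy0, inv_zero]
      exact g.range.zero_mem
    obtain ⟨e, r, hr⟩ := hq y⁻¹
    have hpos : 0 < q ^ e := pow_pos (expChar_pos K q) e
    have h1 : y⁻¹ = y ^ (q ^ e - 1) * (y⁻¹) ^ q ^ e := by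
      have : q ^ e = (q ^ e - 1) + 1 := by omega
      conv_rhs => rw [this, pow_succ, Nat.add_sub_cancel]
      rw [← mul_assoc, ← mul_pow, mul_inv_cancel₀ hy0, one_pow, one_mul]
    rw [h1, hr]
    exact g.range.mul_mem (g.range.pow_mem hy _) ⟨f r, rfl⟩
  let F : Subfield K := { g.range with inv_mem' := hinv }
  let g' : D →+* F := g.codRestrict F fun x => ⟨x, rfl⟩
  have hg' : ∀ x, (g' x : K) = g x := fun x => rfl
  have : ExpChar F q := (algebraMap F K).expChar (algebraMap F K).injective q
  have hs := Univ.surjective_of_etale f hf g' (by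
    rintro ⟨y, x, rfl⟩
    exact ⟨x, rfl⟩) q (by
    intro y
    obtain ⟨e, r, hr⟩ := hq y
    exact ⟨e, r, Subtype.ext hr⟩)
  obtain ⟨r, hr⟩ := hs (g' d)
  exact ⟨r, congrArg Subtype.val hr.symm⟩

/-- The base surjects to the residue field of the hull. -/
theorem exists_residue_eq {R H K : Type u} [CommRing R] [CommRing H] [Field K] {f : R →+* H}
    {π : H →+* K} (h : IsHullAt f π) (q : ℕ) [ExpChar K q]
    (hq : ∀ y : K, ∃ (e : ℕ) (r : R), y ^ q ^ e = π (f r)) (s : H) : ∃ r, π s = π (f r) := by
  obtain ⟨E, _, g, χ, hg, hχ, hs⟩ := h.exists_etale {s}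
  obtain ⟨d, rfl⟩ := hs (by simp : s ∈ _)
  have hχ' : ∀ r, χ (g r) = f r := fun r => congr($hχ r)
  obtain ⟨r, hr⟩ := range_eq g hg (π.comp χ) q (fun y => by
    obtain ⟨e, r, hr⟩ := hq y
    exact ⟨e, r, by rw [hr, ← hχ']; rfl⟩) d
  exact ⟨r, hr.trans (by rw [← hχ']; rfl)⟩

section Coord

variable {A : Type u} {H K : Type u} [CommRing A] [CommRing H] [Field K] [Algebra A H]
  {ι ι' : Type} {π : H →+* K} {x : ι → H}

/-- Reindexing. -/
theorem isCoord_reindex (h : IsCoord A π x) (ε : ι' ≃ ι) : IsCoord A π (fun i => x (ε i)) := by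
  have h1 : (rename ε : MvPolynomial ι' A →ₐ[A] MvPolynomial ι A).toRingHom.Etale := by
    have h2 : Function.Bijective (rename ε : MvPolynomial ι' A →ₐ[A] MvPolynomial ι A) :=
      (renameEquiv A ε).bijective
    let _ := (rename ε : MvPolynomial ι' A →ₐ[A] MvPolynomial ι A).toRingHom.toAlgebra
    have : Algebra.Etale (MvPolynomial ι' A) (MvPolynomial ι A) :=
      Algebra.Etale.of_equiv (AlgEquiv.ofBijective (Algebra.ofId _ _) h2)
    exact this
  refine IsHullAt.of_etale_base _ h1 h ?_
  ext i
  · simp
  · simp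

theorem etaleX_reindex {E : Type u} [CommRing E] [Algebra A E] {e : ι → E} (he : EtaleX A e)
    (ε : ι' ≃ ι) : EtaleX A (fun i => e (ε i)) := by
  have h1 : (rename ε : MvPolynomial ι' A →ₐ[A] MvPolynomial ι A).toRingHom.Etale := by
    have h2 : Function.Bijective (rename ε : MvPolynomial ι' A →ₐ[A] MvPolynomial ι A) :=
      (renameEquiv A ε).bijective
    let _ := (rename ε : MvPolynomial ι' A →ₐ[A] MvPolynomial ι A).toRingHom.toAlgebra
    have : Algebra.Etale (MvPolynomial ι' A) (MvPolynomial ι A) :=
      Algebra.Etale.of_equiv (AlgEquiv.ofBijective (Algebra.ofId _ _) h2)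
    exact this
  have h3 := etale_comp _ _ h1 he
  have h4 : ((aeval e : MvPolynomial ι A →ₐ[A] E).toRingHom.comp
      (rename ε : MvPolynomial ι' A →ₐ[A] MvPolynomial ι A).toRingHom) =
      (aeval (fun i => e (ε i)) : MvPolynomial ι' A →ₐ[A] E).toRingHom := by
    ext i
    · simp
    · simp
  rw [h4] at h3
  exact h3

theorem d_reindex (h : IsCoord A π x) (ε : ι' ≃ ι) (i : ι') (s : H) :
    (isCoord_reindex h ε).d i s = h.d (ε i) s := by
  classical
  have : (isCoord_reindex h ε).d i = h.d (ε i) := by
    refine (isCoord_reindex h ε).der_ext _ _ fun j => ?_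
    rw [IsCoord.d_x, h.d_x]
    simp
  rw [this]

/-- The Jacobian of a change of coordinates is invertible. -/
theorem isUnit_det [Fintype ι] [DecidableEq ι] (h : IsCoord A π x) {z : ι → H}
    (hz : IsCoord A π z) : IsUnit (Matrix.of fun i j => h.d i (z j)).det := by
  have h1 : (Matrix.of fun i j => hz.d i (x j)) * (Matrix.of fun i j => h.d i (z j)) = 1 := by
    ext i j
    rw [Matrix.mul_apply, Matrix.one_apply, ← hz.d_x i j, h.der_eq_sum (hz.d i) (z j)]
    refine Finset.sum_congr rfl fun k _ => ?_
    rw [Matrix.of_apply, Matrix.of_apply, smul_eq_mul, mul_comm]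
  have h2 := congrArg Matrix.det h1
  rw [Matrix.det_mul, Matrix.det_one] at h2
  exact IsUnit.of_mul_eq_one_right _ h2

end Coord

section Taylor

variable {A : Type u} {H K κ : Type u} [CommRing A] [CommRing H] [Field K] [Field κ] [Algebra A H]
  {ι : Type} {π₁ : H →+* κ} {x : ι → H}

theorem exists_taylor' [Finite ι] (h : IsCoord A π₁ x) (j : κ →+* K) :
    ∃ T, IsTaylor A (j.comp π₁) x T := by
  have hh := henselian_pow K ι
  let _ : Algebra A (MvPowerSeries ι K) :=
    ((MvPowerSeries.C (σ := ι)).comp ((j.comp π₁).comp (algebraMap A H))).toAlgebra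
  have hA : ∀ a, algebraMap A (MvPowerSeries ι K) a =
    MvPowerSeries.C (j (π₁ (algebraMap A H a))) := fun a => rfl
  obtain ⟨T, ⟨h1, h2⟩, -⟩ := Univ.coord_existsUnique h (T := MvPowerSeries ι K)
    (MvPowerSeries.constantCoeff (σ := ι) (R := K))
    (fun c => ⟨MvPowerSeries.C c, MvPowerSeries.constantCoeff_C c⟩) j
    (fun i => MvPowerSeries.C (j (π₁ (x i))) + MvPowerSeries.X i)
    (fun a => by rw [hA, MvPowerSeries.constantCoeff_C])
    (fun i => by
      rw [map_add, MvPowerSeries.constantCoeff_C, MvPowerSeries.constantCoeff_X, add_zero])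
  exact ⟨T.toRingHom, fun a => T.commutes a, h1, h2⟩

/-- Compatibility with partial derivatives. -/
theorem map_d' {π : H →+* K} (h : IsCoord A π₁ x) {T : H →+* MvPowerSeries ι K}
    (hT : IsTaylor A π x T) (i : ι) (z : H) :
    T (h.d i z) = MvPowerSeries.pderiv K i (T z) := by
  classical
  let _ : Algebra A (MvPowerSeries ι K) :=
    ((MvPowerSeries.C (σ := ι)).comp (π.comp (algebraMap A H))).toAlgebra
  let _ : Algebra H (MvPowerSeries ι K) := T.toAlgebra
  have : IsScalarTower A H (MvPowerSeries ι K) :=
    IsScalarTower.of_algebraMap_eq fun a => (hT.alg a).symm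
  let D1 : Derivation A H (MvPowerSeries ι K) :=
    { toFun := fun z => T (h.d i z)
      map_add' := fun z w => by rw [map_add, map_add]
      map_smul' := fun a z => by
        rw [Derivation.map_smul, Algebra.smul_def, map_mul, hT.alg]
        exact (Algebra.smul_def a (T (h.d i z))).symm
      map_one_eq_zero' := by
        change T (h.d i 1) = 0
        rw [Derivation.map_one_eq_zero, map_zero]
      leibniz' := fun z w => by
        change T (h.d i (z * w)) = _
        rw [Derivation.leibniz, map_add, smul_eq_mul, smul_eq_mul, map_mul, map_mul]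
        rfl }
  let D2 : Derivation A H (MvPowerSeries ι K) :=
    { toFun := fun z => MvPowerSeries.pderiv K i (T z)
      map_add' := fun z w => by rw [map_add, map_add]
      map_smul' := fun a z => by
        rw [Algebra.smul_def, map_mul, hT.alg, Derivation.leibniz, MvPowerSeries.pderiv_C,
          smul_zero, add_zero]
        exact (Algebra.smul_def a (MvPowerSeries.pderiv K i (T z))).symm
      map_one_eq_zero' := by
        change MvPowerSeries.pderiv K i (T 1) = 0
        rw [map_one, Derivation.map_one_eq_zero]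
      leibniz' := fun z w => by
        change MvPowerSeries.pderiv K i (T (z * w)) = _
        rw [map_mul, Derivation.leibniz]
        rfl }
  have hD : D1 = D2 := by
    refine h.der_ext D1 D2 fun j => ?_
    change T (h.d i (x j)) = MvPowerSeries.pderiv K i (T (x j))
    rw [h.d_x, hT.map_x, map_add, MvPowerSeries.pderiv_C, zero_add]
    split_ifs with hij
    · rw [map_one, hij, MvPowerSeries.pderiv_X_self]
    · rw [map_zero, MvPowerSeries.pderiv_X_of_ne (Ne.symm hij)]
  exact congr($hD z)

end Taylor

/-- Subfields of an algebraic closure over which it is purely inseparable are separably closed. -/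
theorem isSepClosed_of_pow {κ K : Type u} [Field κ] [Field K] [IsAlgClosed K] (j : κ →+* K)
    (q : ℕ) [ExpChar K q] (hq : ∀ y : K, ∃ (e : ℕ) (c : κ), y ^ q ^ e = j c) : IsSepClosed κ := by
  let _ : Algebra κ K := j.toAlgebra
  have h1 : ExpChar κ q := j.expChar j.injective q
  have h2 : IsPurelyInseparable κ K := by
    rw [isPurelyInseparable_iff_pow_mem κ q]
    intro y
    obtain ⟨e, c, hc⟩ := hq y
    exact ⟨e, c, hc.symm⟩
  have h3 : IsAlgClosure κ K := ⟨inferInstance, inferInstance⟩
  exact (isSepClosed_iff_isPurelyInseparable_algebraicClosure κ K).2 h2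

end Groth.Agent.Vancyc.H696.Restrict
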