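import Groth.Agent.Vancyc.H696.Psi
import Groth.Agent.Vancyc.H696.Restrict
import Groth.Agent.Vancyc.H694.OrdNondeg

/-!
An ordinary quadratic equation restricted to the critical curve has order exactly two.
-/

set_option autoImplicit false
universe u v w

noncomputable section

namespace Groth.Agent.Vancyc.H696.Curve

open TensorProduct IsLocalRing VanCyc Matrix
open Groth.Agent.Ega41.MvPS Groth.Agent.Vancyc.H696.T0 Groth.Agent.Vancyc.H696.T1
open Groth.Agent.Vancyc.H696.Psi Groth.Agent.Vancyc.H694.OrdNondeg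

/-- The linear part of a derivative. -/
theorem coeff_pderiv_eq {K : Type u} [Field K] {N : ℕ} (f : MvPowerSeries (Fin N) K)
    (i l : Fin N) : MvPowerSeries.coeff (Finsupp.single l 1) (MvPowerSeries.pderiv K i f) =
      polarMatrix (quadPart f) i l := by
  rw [MvPowerSeries.coeff_pderiv]
  unfold polarMatrix
  by_cases h : i = l
  · subst h
    rw [if_pos rfl, ← Finsupp.single_add]
    simp only [quadPart, if_true, Finsupp.single_eq_same, Nat.cast_one]
    norm_num
    rw [mul_comm]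
  · rw [if_neg h, Finsupp.single_eq_of_ne h, Nat.cast_zero, zero_add, mul_one]
    split_ifs with h2
    · simp only [quadPart, if_neg h, if_pos h2]
      rw [add_comm]
    · have h3 : l < i := lt_of_le_of_ne (not_lt.1 h2) (Ne.symm h)
      simp only [quadPart, if_neg (Ne.symm h), if_pos h3]

theorem L_pderiv {K : Type u} [Field K] {N : ℕ} (f : MvPowerSeries (Fin N) K)
    (i : Fin N) (v : Fin N → K) : Groth.Agent.Vancyc.H678.P2Lin.L (MvPowerSeries.pderiv K i f) v =
      (polarMatrix (quadPart f)).mulVec v i := by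
  rw [Groth.Agent.Vancyc.H678.P2Lin.L, mulVec, dotProduct]
  exact Finset.sum_congr rfl fun l _ => by rw [coeff_pderiv_eq]

theorem constantCoeff_pderiv {K : Type u} [Field K] {N : ℕ} (f : MvPowerSeries (Fin N) K)
    (hf : NoLowTerms f) (i : Fin N) :
    MvPowerSeries.constantCoeff (MvPowerSeries.pderiv K i f) = 0 := by
  rw [← MvPowerSeries.coeff_zero_eq_constantCoeff_apply, MvPowerSeries.coeff_pderiv, zero_add,
    hf.2, zero_mul]

theorem constantCoeff_pderiv_pderiv {K : Type u} [Field K] {N : ℕ}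
    (f : MvPowerSeries (Fin N) K) (i l : Fin N) :
    MvPowerSeries.constantCoeff (MvPowerSeries.pderiv K l (MvPowerSeries.pderiv K i f)) =
      polarMatrix (quadPart f) i l := by
  rw [← MvPowerSeries.coeff_zero_eq_constantCoeff_apply, MvPowerSeries.coeff_pderiv, zero_add,
    coeff_pderiv_eq]
  simp

variable {A D K : Type u} [CommRing A] [CommRing D] [Field K]
  [Algebra A D] [Algebra A K]
  {N : ℕ} [Algebra (MvPolynomial (Fin N) A) D]
  [IsScalarTower A (MvPolynomial (Fin N) A) D]
  [Algebra.FormallyUnramified (MvPolynomial (Fin N) A) D]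
  (T : D →ₐ[A] MvPowerSeries (Fin N) K) (Tσ : D →ₐ[A] MvPowerSeries Unit K)

theorem exists_sq [CharP K 2]
    (hc : ∀ z, MvPowerSeries.constantCoeff (Tσ z) = MvPowerSeries.constantCoeff (T z))
    (hT : ∀ i, T (algebraMap (MvPolynomial (Fin N) A) D (MvPolynomial.X i)) =
    MvPowerSeries.C (MvPowerSeries.constantCoeff
      (T (algebraMap (MvPolynomial (Fin N) A) D (MvPolynomial.X i)))) + MvPowerSeries.X i)
    (F : D) (dF : Fin N → D) (hdF : ∀ i, T (dF i) = MvPowerSeries.pderiv K i (T F))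
    (hF : OrdQuadSeries (T F)) (i₀ : Fin N) (hi₀ : β Tσ i₀ = 1)
    (hcrit : ∀ i, i ≠ i₀ → Tσ (dF i) = 0) :
    ∃ s, Tσ F = s * MvPowerSeries.X () ^ 2 ∧ MvPowerSeries.constantCoeff s ≠ 0 := by
  set a := quadPart (T F) with ha
  have h1 : ∀ i, i ≠ i₀ → (polarMatrix a).mulVec (β Tσ) i = 0 := by
    intro i hi
    rw [← L_pderiv, ← hdF, ← coeff_one T Tσ hc hT _ (by
      rw [hdF]
      exact constantCoeff_pderiv _ hF.1 i), hcrit i hi, map_zero]
  have h2 : (β Tσ) ⬝ᵥ (polarMatrix a).mulVec (β Tσ) = 0 := by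
    rw [← two_mul_quadEval]
    have : (2 : K) = 0 := CharTwo.two_eq_zero
    rw [this, zero_mul]
  have h3 : (polarMatrix a).mulVec (β Tσ) i₀ = 0 := by
    rw [dotProduct, Finset.sum_eq_single i₀ (fun i _ hi => by rw [h1 i hi, mul_zero])
      (fun h => absurd (Finset.mem_univ _) h), hi₀, one_mul] at h2
    exact h2
  have h4 : (polarMatrix a).mulVec (β Tσ) = 0 := by
    funext i
    by_cases hi : i = i₀
    · rw [hi]
      exact h3
    · exact h1 i hi
  have h5 : quadEval a (β Tσ) ≠ 0 := by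
    intro h6
    have h7 := hF.2 _ h6 h4
    rw [h7] at hi₀
    exact zero_ne_one hi₀
  obtain ⟨s, hs1, hs2⟩ := exists_eq_mul_X_sq (Tσ F) (by rw [hc, hF.1.1]) (by
    rw [coeff_one T Tσ hc hT F hF.1.1, Groth.Agent.Vancyc.H678.P2Lin.L]
    exact Finset.sum_eq_zero fun i _ => by rw [hF.1.2, zero_mul])
  refine ⟨s, hs1, ?_⟩
  rw [hs2, coeff_two T Tσ hc hT F hF.1]
  exact h5

end Groth.Agent.Vancyc.H696.Curve
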