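import Groth.Agent.Vancyc.H694.OrdNondeg
import Mathlib.LinearAlgebra.Matrix.ToLinearEquiv

/-!
Ordinary quadratic forms in an odd number of variables in characteristic two: the radical of the polar form is a line, and
there is a coordinate hyperplane complementary to it.
-/

set_option autoImplicit false
universe u

open VanCyc Matrix Groth.Agent.Vancyc.H694.OrdNondeg

namespace Groth.Agent.Vancyc.H696.Deg

variable {k : Type u} [Field k] [IsAlgClosed k] {N : ℕ}

/-- Two vectors of the radical of an ordinary form in characteristic two are proportional. -/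
theorem radical_line (h2 : (2 : k) = 0) {a : Fin N → Fin N → k} (ha : QuadOrd a)
    (v w : Fin N → k) (hv : (polarMatrix a).mulVec v = 0) (hw : (polarMatrix a).mulVec w = 0)
    (hv0 : v ≠ 0) : ∃ c : k, w = c • v := by
  have hqv : quadEval a v ≠ 0 := fun h => hv0 (ha v h hv)
  obtain ⟨lam, hl⟩ := IsAlgClosed.exists_pow_nat_eq (quadEval a w) (n := 2) (by norm_num)
  obtain ⟨mu, hmu⟩ := IsAlgClosed.exists_pow_nat_eq (quadEval a v) (n := 2) (by norm_num)
  have hmu0 : mu ≠ 0 := by
    rintro rfl
    apply hqv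
    rw [← hmu]
    ring
  have h1 : lam • v + mu • w = 0 := by
    apply ha
    · rw [quadEval_add, quadEval_smul, quadEval_smul, mulVec_smul, hw, smul_zero, dotProduct_zero,
        add_zero, hl, hmu]
      linear_combination (quadEval a w * quadEval a v) * h2
    · rw [mulVec_add, mulVec_smul, mulVec_smul, hv, hw, smul_zero, smul_zero, add_zero]
  refine ⟨-(mu⁻¹ * lam), ?_⟩
  have h3 : mu • w = -(lam • v) := by
    rw [eq_neg_iff_add_eq_zero, add_comm]
    exact h1
  calc w = mu⁻¹ • mu • w := by rw [smul_smul, inv_mul_cancel₀ hmu0, one_smul]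
    _ = -(mu⁻¹ * lam) • v := by rw [h3, smul_neg, smul_smul, neg_smul]

/-- A coordinate hyperplane complementary to the radical. -/
theorem exists_index (h2 : (2 : k) = 0) (m : ℕ) {a : Fin (2 * m + 1) → Fin (2 * m + 1) → k}
    (ha : QuadOrd a) :
    ∃ i₀ : Fin (2 * m + 1),
      IsUnit (Matrix.of fun i j : Fin (2 * m) =>
        polarMatrix a (i₀.succAbove i) (i₀.succAbove j)).det := by
  have hdet : (polarMatrix a).det = 0 := det_polar_char_two h2 ⟨m, rfl⟩ a
  obtain ⟨v, hv0, hv⟩ := exists_mulVec_eq_zero_iff.2 hdet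
  obtain ⟨i₀, hi₀⟩ := Function.ne_iff.1 hv0
  refine ⟨i₀, ?_⟩
  rw [isUnit_iff_ne_zero]
  intro h
  obtain ⟨w, hw0, hw⟩ := exists_mulVec_eq_zero_iff.2 h
  let w' : Fin (2 * m + 1) → k := i₀.insertNth 0 w
  have hw'0 : w' i₀ = 0 := Fin.insertNth_apply_same _ _ _
  have hw's : ∀ i, w' (i₀.succAbove i) = w i := fun i => Fin.insertNth_apply_succAbove _ _ _ _
  have h1 : ∀ i, (polarMatrix a).mulVec w' (i₀.succAbove i) = 0 := by
    intro i
    have := congr_fun hw i
    rw [mulVec, dotProduct, Pi.zero_apply] at this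
    rw [mulVec, dotProduct, Fin.sum_univ_succAbove _ i₀, hw'0, mul_zero, zero_add, ← this]
    refine Finset.sum_congr rfl fun j _ => ?_
    rw [hw's, Matrix.of_apply]
  have h3 : v ⬝ᵥ (polarMatrix a).mulVec w' = 0 := by
    rw [dotProduct_mulVec]
    have : v ᵥ* polarMatrix a = 0 := by
      ext j
      have := congr_fun hv j
      rw [mulVec, dotProduct, Pi.zero_apply] at this
      rw [vecMul, dotProduct, Pi.zero_apply, ← this]
      refine Finset.sum_congr rfl fun i _ => ?_
      rw [mul_comm, polarMatrix_symm]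
    rw [this, zero_dotProduct]
  have h4 : (polarMatrix a).mulVec w' i₀ = 0 := by
    rw [dotProduct, Fin.sum_univ_succAbove _ i₀] at h3
    simp only [h1, mul_zero, Finset.sum_const_zero, add_zero] at h3
    exact (mul_eq_zero.1 h3).resolve_left hi₀
  have h5 : (polarMatrix a).mulVec w' = 0 := by
    ext i
    rcases eq_or_ne i i₀ with rfl | hne
    · exact h4
    · obtain ⟨j, rfl⟩ := Fin.exists_succAbove_eq hne
      exact h1 j
  obtain ⟨c, hc⟩ := radical_line h2 ha v w' hv h5 hv0
  have hc0 : c = 0 := by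
    have := congr_fun hc i₀
    rw [hw'0, Pi.smul_apply, smul_eq_mul] at this
    exact (mul_eq_zero.1 this.symm).resolve_right hi₀
  apply hw0
  ext i
  rw [← hw's, hc, hc0]
  simp

end Groth.Agent.Vancyc.H696.Deg
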