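import Groth.Agent.Vancyc.H696.Coord
import Mathlib.RingTheory.Ideal.Quotient.Operations
import Mathlib.RingTheory.TensorProduct.Quotient

/-!
Étale algebras modulo ideals of the base; setting part of a system of étale coordinates equal to zero.
-/

set_option autoImplicit false

universe u v w

noncomputable section

namespace Groth.Agent.Vancyc.H696.EtaleQuot

open MvPolynomial Groth.Agent.Vancyc.H696.Coord

theorem etale_quotientMap {R : Type u} {E : Type v} [CommRing R] [CommRing E] (g : R →+* E)
    (hg : g.Etale) (I : Ideal R) (I' : Ideal E) (hI : I' = I.map g) :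
    (Ideal.quotientMap I' g (by rw [hI]; exact Ideal.le_comap_map) : R ⧸ I →+* E ⧸ I').Etale := by
  subst hI
  let _ := g.toAlgebra
  have : Algebra.Etale R E := hg
  have h1 : Algebra.Etale (R ⧸ I) (E ⧸ I.map (algebraMap R E)) :=
    Algebra.Etale.of_equiv (Algebra.TensorProduct.quotIdealMapEquivQuotTensor E I).symm
  rw [← RingHom.etale_algebraMap] at h1
  exact h1

theorem bijective_rename_inl (A : Type u) [CommRing A] (ι₀ J : Type) :
    Function.Bijective ((Ideal.Quotient.mk (Ideal.span (Set.range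
      fun j : J => (X (Sum.inr j) : MvPolynomial (ι₀ ⊕ J) A)))).comp
        (rename (Sum.inl : ι₀ → ι₀ ⊕ J) : MvPolynomial ι₀ A →ₐ[A] _).toRingHom) := by
  set I := Ideal.span (Set.range fun j : J => (X (Sum.inr j) : MvPolynomial (ι₀ ⊕ J) A)) with hI
  let ρ : MvPolynomial (ι₀ ⊕ J) A ⧸ I →+* MvPolynomial ι₀ A :=
    Ideal.Quotient.lift I (aeval (Sum.elim X 0) : MvPolynomial (ι₀ ⊕ J) A →ₐ[A] _).toRingHom (by
      intro a ha
      have : I ≤ RingHom.ker (aeval (Sum.elim X 0) :
          MvPolynomial (ι₀ ⊕ J) A →ₐ[A] MvPolynomial ι₀ A).toRingHom := by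
        rw [hI, Ideal.span_le]
        rintro _ ⟨j, rfl⟩
        simp [RingHom.mem_ker]
      exact this ha)
  constructor
  · refine Function.LeftInverse.injective (g := ρ) fun p => ?_
    change aeval (Sum.elim X 0) (rename Sum.inl p) = p
    rw [aeval_rename]
    have : (Sum.elim X 0 : ι₀ ⊕ J → MvPolynomial ι₀ A) ∘ Sum.inl = X := by
      ext i
      simp
    rw [this, aeval_X_left]
    rfl
  · intro y
    obtain ⟨p, rfl⟩ := Ideal.Quotient.mk_surjective y
    induction p using MvPolynomial.induction_on with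
    | C a => exact ⟨C a, by simp⟩
    | add p q hp hq =>
      obtain ⟨a, ha⟩ := hp
      obtain ⟨b, hb⟩ := hq
      exact ⟨a + b, by rw [map_add, map_add, ha, hb]⟩
    | mul_X p i hp =>
      obtain ⟨a, ha⟩ := hp
      rcases i with i | j
      · exact ⟨a * X i, by rw [map_mul, map_mul, ha]; simp⟩
      · refine ⟨0, ?_⟩
        have hj : (X (Sum.inr j) : MvPolynomial (ι₀ ⊕ J) A) ∈ I := Ideal.subset_span ⟨j, rfl⟩
        rw [map_zero, map_mul, Ideal.Quotient.eq_zero_iff_mem.mpr hj, mul_zero]

theorem quotientMap_mk' {R : Type u} {E : Type v} [CommRing R] [CommRing E] (g : R →+* E)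
    (I : Ideal R) (I' : Ideal E) (h : I ≤ I'.comap g) (r : R) :
    Ideal.quotientMap I' g h (Ideal.Quotient.mk I r) = Ideal.Quotient.mk I' (g r) := rfl

/-- Setting part of a system of étale coordinates equal to zero. -/
theorem etaleX_quotient {A : Type u} [CommRing A] {E : Type v} [CommRing E] [Algebra A E]
    {ι₀ J : Type} {w : ι₀ ⊕ J → E} (hw : EtaleX A w) :
    EtaleX A (fun i => Ideal.Quotient.mk (Ideal.span (Set.range fun j : J => w (Sum.inr j)))
      (w (Sum.inl i))) := by
  set I' := Ideal.span (Set.range fun j : J => w (Sum.inr j)) with hI'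
  set I := Ideal.span (Set.range fun j : J => (X (Sum.inr j) : MvPolynomial (ι₀ ⊕ J) A)) with hI
  have hmap : I' = I.map (aeval w : MvPolynomial (ι₀ ⊕ J) A →ₐ[A] E).toRingHom := by
    rw [hI, Ideal.map_span, ← Set.range_comp, hI']
    congr 2
    ext j
    simp
  have h1 := etale_quotientMap _ hw I I' hmap
  have h2 := RingHom.Etale.of_bijective (bijective_rename_inl A ι₀ J)
  have h3 := etale_comp _ _ h2 h1
  rw [EtaleX]
  convert h3 using 1
  refine MvPolynomial.ringHom_ext (fun a => ?_) (fun i => ?_)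
  · change aeval _ (C a) = Ideal.Quotient.mk I' (aeval w (rename Sum.inl (C a)))
    simp
  · change aeval _ (X i) = Ideal.Quotient.mk I' (aeval w (rename Sum.inl (X i)))
    simp

end Groth.Agent.Vancyc.H696.EtaleQuot
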