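import Groth.Agent.Vancyc.H696.LocL
import Mathlib.RingTheory.Jacobson.Ring
import Mathlib.RingTheory.Localization.Submodule

/-!
The local ring of the geometric fibre at a point: package.
-/

set_option autoImplicit false
universe u

open IsLocalRing TensorProduct

set_option linter.dupNamespace false

namespace Groth.Agent.Vancyc.H696.Geom

open Groth.Agent.Vancyc.H696.LocL

/-- The data of a local ring of the geometric fibre above a point. -/
structure Geom (A : Type u) [CommRing A] [IsLocalRing A] (B₀ : Type u) [CommRing B₀] [Algebra A B₀]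
    (P : Ideal B₀) (K : Type u) [Field K] [Algebra (ResidueField A) K] (L : Type u) [CommRing L]
    [IsLocalRing L] [Algebra K L] where
  lam : B₀ →+* L
  ρ : L →ₐ[K] K
  lam_alg : ∀ a, lam (algebraMap A B₀ a) = algebraMap K L (algebraMap _ K (residue A a))
  ρ_eq_zero : ∀ z, ρ z = 0 ↔ z ∈ maximalIdeal L
  ker : ∀ b, ρ (lam b) = 0 ↔ b ∈ P
  gen : maximalIdeal L ≤ Ideal.span {z | ∃ b, z = lam b - algebraMap K L (ρ (lam b))}
  lift : ∀ (T : Type u) [CommRing T] [IsLocalRing T] [Algebra K T] (φ : B₀ →+* T),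
    (∀ a, φ (algebraMap A B₀ a) = algebraMap K T (algebraMap _ K (residue A a))) →
    (∀ b, φ b - algebraMap K T (ρ (lam b)) ∈ maximalIdeal T) →
    ∃ ψ : L →ₐ[K] T, ∀ b, ψ (lam b) = φ b

/-- Generic construction. -/
theorem exists_geom_gen {A : Type u} [CommRing A] [IsLocalRing A] {B₀ : Type u} [CommRing B₀]
    [Algebra A B₀] {P : Ideal B₀} {K : Type u} [Field K] [Algebra (ResidueField A) K]
    [Algebra.IsIntegral (ResidueField A) K] [IsAlgClosed K] {O : Type u} [CommRing O]
    [IsLocalRing O] [Algebra (ResidueField A) O] (γ : B₀ →+* O)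
    (hγ : ∀ a, γ (algebraMap A B₀ a) = algebraMap (ResidueField A) O (residue A a))
    (hγP : ∀ b, γ b ∈ maximalIdeal O ↔ b ∈ P)
    (hfrac : ∀ o : O, ∃ b s : B₀, IsUnit (γ s) ∧ γ s * o = γ b)
    (hint : ∀ b, ((residue O).comp (algebraMap (ResidueField A) O)).IsIntegralElem
      (residue O (γ b)))
    (hlift : ∀ (T : Type u) [CommRing T] (φ : B₀ →+* T), (∀ a ∈ maximalIdeal A,
      φ (algebraMap A B₀ a) = 0) → (∀ y ∉ P, IsUnit (φ y)) → ∃ φ2 : O →+* T, ∀ b, φ2 (γ b) = φ b)
    (M : Ideal (K ⊗[ResidueField A] O)) [M.IsMaximal] :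
    Nonempty (Geom A B₀ P K (Localization.AtPrime M)) := by
  obtain ⟨ρ, hρ, hρP, hgen⟩ := exists_gen γ hfrac hint M
  refine ⟨{ lam := lam γ M
            ρ := ρ
            lam_alg := fun a => lam_alg γ M _ _ (hγ a)
            ρ_eq_zero := hρ
            ker := fun b => (hρP b).trans (hγP b)
            gen := hgen
            lift := ?_ }⟩
  intro T _ _ _ φ hφ hφ2
  obtain ⟨φ2, hφ2'⟩ := hlift T φ (fun a ha => by
    rw [hφ, (residue_eq_zero_iff a).2 ha, map_zero, map_zero]) (fun y hy => by
    by_contra h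
    have h1 : φ y ∈ maximalIdeal T := h
    have h2 := Ideal.sub_mem _ h1 (hφ2 y)
    rw [sub_sub_cancel] at h2
    have h3 : ρ (lam γ M y) = 0 := by
      by_contra h4
      exact h2 ((isUnit_iff_ne_zero.2 h4).map (algebraMap K T))
    exact hy ((hγP y).1 ((hρP y).1 h3)))
  obtain ⟨ψ, hψ⟩ := exists_lift γ hfrac M ρ φ2
    (fun a => by
      obtain ⟨a, rfl⟩ := residue_surjective a
      rw [← hφ, ← hγ, hφ2']) (fun b => by
      rw [hφ2']
      exact hφ2 b)
  refine ⟨ψ, fun b => ?_⟩
  rw [← hφ2']
  exact hψ _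

theorem exists_geom_mid {A : Type u} [CommRing A] [IsLocalRing A] {B₀ : Type u} [CommRing B₀]
    [Algebra A B₀] [Algebra.FiniteType A B₀] (P : Ideal B₀) [P.IsMaximal]
    (hP : (maximalIdeal A).map (algebraMap A B₀) ≤ P) {K : Type u} [Field K]
    [Algebra (ResidueField A) K]
    [Algebra.IsIntegral (ResidueField A) K] [IsAlgClosed K] {O : Type u} [CommRing O]
    [IsLocalRing O] [Algebra (ResidueField A) O] (q : Localization.AtPrime P →+* O)
    (hq0 : Function.Surjective q)
    (hqa : ∀ a, q (algebraMap A _ a) = algebraMap (ResidueField A) _ (residue A a))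
    (hqlift : ∀ (T : Type u) [CommRing T] (φ : Localization.AtPrime P →+* T),
      (∀ z ∈ (maximalIdeal A).map (algebraMap A (Localization.AtPrime P)), φ z = 0) →
      ∃ φ2 : O →+* T, ∀ b, φ2 (q b) = φ b)
    (M : Ideal (K ⊗[ResidueField A] O)) [M.IsMaximal] :
    Nonempty (Geom A B₀ P K (Localization.AtPrime M)) := by
  have hqloc : IsLocalHom q := IsLocalHom.of_surjective q hq0
  have hγP : ∀ b, q (algebraMap B₀ (Localization.AtPrime P) b) ∈ maximalIdeal O ↔ b ∈ P := by
    intro b
    rw [← IsLocalization.AtPrime.to_map_mem_maximal_iff (Localization.AtPrime P) P]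
    rw [mem_maximalIdeal, mem_maximalIdeal, mem_nonunits_iff, mem_nonunits_iff, not_iff_not]
    exact isUnit_map_iff q _
  refine exists_geom_gen (q.comp (algebraMap B₀ (Localization.AtPrime P))) ?_ hγP ?_ ?_ ?_ M
  · intro a
    rw [RingHom.comp_apply, ← IsScalarTower.algebraMap_apply, hqa]
  · intro o
    obtain ⟨z, rfl⟩ := hq0 o
    obtain ⟨b, s, rfl⟩ := IsLocalization.exists_mk'_eq P.primeCompl z
    refine ⟨b, s, (IsLocalization.map_units (Localization.AtPrime P) s).map q, ?_⟩
    change q _ * q _ = q _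
    rw [← map_mul, mul_comm, IsLocalization.mk'_spec]
  · intro b
    have h0 : ∀ a ∈ maximalIdeal A, ((Ideal.Quotient.mk P).comp (algebraMap A B₀)) a = 0 := by
      intro a ha
      exact Ideal.Quotient.eq_zero_iff_mem.2 (hP (Ideal.mem_map_of_mem _ ha))
    let f : ResidueField A →+* B₀ ⧸ P := Ideal.Quotient.lift (maximalIdeal A) _ h0
    let _ : Algebra (ResidueField A) (B₀ ⧸ P) := f.toAlgebra
    let _ : Field (B₀ ⧸ P) := Ideal.Quotient.field P
    have : IsScalarTower A (ResidueField A) (B₀ ⧸ P) :=
      IsScalarTower.of_algebraMap_eq fun a => rfl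
    have h1 : Algebra.FiniteType A (B₀ ⧸ P) := inferInstance
    have h2 : Algebra.FiniteType (ResidueField A) (B₀ ⧸ P) :=
      Algebra.FiniteType.of_restrictScalars_finiteType A _ _
    have h3 : Module.Finite (ResidueField A) (B₀ ⧸ P) :=
      finite_of_finite_type_of_isJacobsonRing _ _
    have h4 : IsIntegral (ResidueField A) (Ideal.Quotient.mk P b) :=
      Algebra.IsIntegral.isIntegral _
    have h5 : ∀ b ∈ P, (residue O).comp (q.comp (algebraMap B₀ (Localization.AtPrime P))) b = 0 := by
      intro b hb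
      exact (residue_eq_zero_iff _).2 ((hγP b).2 hb)
    let g : B₀ ⧸ P →+* ResidueField O := Ideal.Quotient.lift P _ h5
    have h6 := RingHom.IsIntegralElem.map (f := algebraMap (ResidueField A) (B₀ ⧸ P)) h4 g
    have h7 : g.comp (algebraMap (ResidueField A) (B₀ ⧸ P)) =
        (residue O).comp (algebraMap (ResidueField A) O) := by
      refine Ideal.Quotient.ringHom_ext ?_
      ext a
      change residue O (q (algebraMap B₀ _ (algebraMap A B₀ a))) =
        residue O (algebraMap _ O (residue A a))
      rw [← IsScalarTower.algebraMap_apply, hqa]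
    rw [h7] at h6
    exact h6
  · intro T _ φ h0 hu
    let φ1 : Localization.AtPrime P →+* T :=
      IsLocalization.lift (M := P.primeCompl) (fun y => hu y y.2)
    have hφ1 : ∀ b, φ1 (algebraMap B₀ _ b) = φ b := fun b => IsLocalization.lift_eq _ b
    obtain ⟨φ2, hφ2⟩ := hqlift T φ1 (by
      intro z hz
      have : (maximalIdeal A).map (algebraMap A (Localization.AtPrime P)) ≤ RingHom.ker φ1 := by
        rw [Ideal.map_le_iff_le_comap]
        intro a ha
        change φ1 (algebraMap A _ a) = 0
        rw [IsScalarTower.algebraMap_apply A B₀, hφ1, h0 a ha]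
      exact this hz)
    exact ⟨φ2, fun b => (hφ2 _).trans (hφ1 b)⟩

/-- Existence. -/
theorem exists_geom (A : Type u) [CommRing A] [IsLocalRing A] (B₀ : Type u) [CommRing B₀]
    [Algebra A B₀] [Algebra.FiniteType A B₀] (P : Ideal B₀) [P.IsMaximal]
    (hP : (maximalIdeal A).map (algebraMap A B₀) ≤ P) (n : ℕ)
    (hq : VanCyc.IsOrdQuadPt (VanCyc.fibHom A (Localization.AtPrime P)) n) :
    ∃ (L : Type u) (_ : CommRing L) (_ : IsLocalRing L) (_ : IsNoetherianRing L)
      (_ : Algebra (AlgebraicClosure (ResidueField A)) L),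
      Nonempty (Geom A B₀ P (AlgebraicClosure (ResidueField A)) L) ∧
      VanCyc.IsOrdQuadSing (AlgebraicClosure (ResidueField A)) L n := by
  let _ : Algebra (ResidueField A) (VanCyc.fibQuot A (Localization.AtPrime P)) :=
    (VanCyc.fibHom A (Localization.AtPrime P)).toAlgebra
  have htow : IsScalarTower A (ResidueField A) (VanCyc.fibQuot A (Localization.AtPrime P)) :=
    IsScalarTower.of_algebraMap_eq fun a => rfl
  -- `O` is local
  have hle : (maximalIdeal A).map (algebraMap A (Localization.AtPrime P)) ≤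
      maximalIdeal (Localization.AtPrime P) := by
    rw [IsScalarTower.algebraMap_eq A B₀ (Localization.AtPrime P), ← Ideal.map_map,
      ← Localization.AtPrime.map_eq_maximalIdeal]
    exact Ideal.map_mono hP
  have hnt : Nontrivial (VanCyc.fibQuot A (Localization.AtPrime P)) := by
    refine Ideal.Quotient.nontrivial_iff.2 ?_
    intro h
    rw [h] at hle
    exact (maximalIdeal.isMaximal (Localization.AtPrime P)).ne_top (top_le_iff.1 hle)
  have hloc : IsLocalRing (VanCyc.fibQuot A (Localization.AtPrime P)) :=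
    IsLocalRing.of_surjective' (Ideal.Quotient.mk _) Ideal.Quotient.mk_surjective
  have hN : ∀ (M : Ideal (AlgebraicClosure (ResidueField A) ⊗[ResidueField A]
      (VanCyc.fibQuot A (Localization.AtPrime P)))) [M.IsMaximal],
      IsNoetherianRing (Localization.AtPrime M) := by
    intro M _
    have h1 : Algebra.EssFiniteType A (Localization.AtPrime P) :=
      Algebra.EssFiniteType.comp A B₀ _
    have h2 : Algebra.EssFiniteType A (VanCyc.fibQuot A (Localization.AtPrime P)) := inferInstance
    have h3 : Algebra.EssFiniteType (ResidueField A)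
        (VanCyc.fibQuot A (Localization.AtPrime P)) :=
      Algebra.EssFiniteType.of_comp A (ResidueField A) _
    exact isNoetherianRing_loc M
  have hnt2 : Nontrivial (AlgebraicClosure (ResidueField A) ⊗[ResidueField A]
      (VanCyc.fibQuot A (Localization.AtPrime P))) := nontrivial_tensor
  obtain ⟨M, hM⟩ := Ideal.exists_maximal (AlgebraicClosure (ResidueField A) ⊗[ResidueField A]
      (VanCyc.fibQuot A (Localization.AtPrime P)))
  refine ⟨Localization.AtPrime M, inferInstance, inferInstance, hN M, inferInstance, ?_, hq M⟩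
  clear hN hq
  refine exists_geom_mid P hP (Ideal.Quotient.mk _) Ideal.Quotient.mk_surjective (fun a => rfl) ?_ M
  intro T _ φ h
  exact ⟨Ideal.Quotient.lift _ φ h, fun b => rfl⟩

end Groth.Agent.Vancyc.H696.Geom
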