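import Groth.Agent.Hensel.Hull
import Mathlib.RingTheory.FinitePresentation
import Mathlib.RingTheory.Etale.Basic

/-!
Hulls (colimits of all étale algebras over a field) and étale base algebras: a hull of `R` is a hull of every
étale `R`-algebra over it, and conversely.
-/

set_option autoImplicit false

universe u

namespace Groth.Agent.Vancyc.H696.HullEtale

open scoped TensorProduct
open Groth.Agent.Hensel.Hull

variable {R S K : Type u} [CommRing R] [CommRing S] [Field K] [Algebra R S] [Algebra R K]

/-- A hull of `R` is a hull of every étale `R`-algebra mapping to it. -/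
theorem isHull_of_etale {π : S →ₐ[R] K} (h : IsHull R S K π) (R' : Type u) [CommRing R']
    [Algebra R R'] [Algebra.Etale R R'] [Algebra R' S] [IsScalarTower R R' S] [Algebra R' K]
    (π' : S →ₐ[R'] K) (hπ : ∀ s, π' s = π s) : IsHull R' S K π' := by
  have htow : IsScalarTower R R' K := IsScalarTower.of_algebraMap_eq fun r => by
    rw [← π'.commutes, ← IsScalarTower.algebraMap_apply R R' S, hπ, π.commutes]
  refine ⟨fun s hs => h.isUnit_of_ne_zero s (by rwa [← hπ]), ?_, ?_⟩
  · intro E _ _ _ σ
    let _ : Algebra R E := ((algebraMap R' E).comp (algebraMap R R')).toAlgebra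
    have : IsScalarTower R R' E := IsScalarTower.of_algebraMap_eq fun r => rfl
    have : Algebra.Etale R E := Algebra.Etale.comp R R' E
    obtain ⟨φ, hφ⟩ := h.exists_lift E (σ.restrictScalars R)
    have h1 : φ.comp (IsScalarTower.toAlgHom R R' E) = IsScalarTower.toAlgHom R R' S := by
      refine h.algHom_eq _ _ ?_
      ext x
      have h2 := congr($hφ (algebraMap R' E x))
      have h3 : σ (algebraMap R' E x) = algebraMap R' K x := σ.commutes x
      have h4 : π (algebraMap R' S x) = algebraMap R' K x := by rw [← hπ, π'.commutes]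
      exact (h2.trans h3).trans h4.symm
    refine ⟨{ toRingHom := φ.toRingHom, commutes' := fun x => congr($h1 x) }, ?_⟩
    ext x
    exact (hπ _).trans congr($hφ x)
  · intro P _ _ _ φ
    let _ : Algebra R P := ((algebraMap R' P).comp (algebraMap R R')).toAlgebra
    have : IsScalarTower R R' P := IsScalarTower.of_algebraMap_eq fun r => rfl
    have : Algebra.FinitePresentation R P := Algebra.FinitePresentation.trans R R' P
    obtain ⟨E, _, _, _, ψ, χ, hχ⟩ := h.lazard P (φ.restrictScalars R)
    let _ : Algebra R' E := (ψ.toRingHom.comp (algebraMap R' P)).toAlgebra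
    have : IsScalarTower R R' E := IsScalarTower.of_algebraMap_eq fun r => by
      change algebraMap R E r = ψ (algebraMap R' P (algebraMap R R' r))
      rw [← IsScalarTower.algebraMap_apply, ψ.commutes]
    have : Algebra.Etale R' E := Algebra.Etale.of_restrictScalars R R' E
    refine ⟨E, inferInstance, inferInstance, inferInstance,
      { toRingHom := ψ.toRingHom, commutes' := fun x => rfl },
      { toRingHom := χ.toRingHom, commutes' := fun x => ?_ }, ?_⟩
    · have := congr($hχ (algebraMap R' P x))
      exact this.trans (φ.commutes x)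
    · ext x
      exact congr($hχ x)

/-- A hull of an étale `R`-algebra is a hull of `R`. -/
theorem isHull_of_etale_base (R' : Type u) [CommRing R'] [Algebra R R'] [Algebra.Etale R R']
    [Algebra R' S] [IsScalarTower R R' S] [Algebra R' K] [IsScalarTower R R' K] {π' : S →ₐ[R'] K}
    (h : IsHull R' S K π') (π : S →ₐ[R] K) (hπ : ∀ s, π s = π' s) : IsHull R S K π := by
  refine ⟨fun s hs => h.isUnit_of_ne_zero s (by rwa [← hπ]), ?_, ?_⟩
  · intro E _ _ _ σ
    let τ : R' ⊗[R] E →ₐ[R'] K := Algebra.TensorProduct.lift (Algebra.ofId R' K) σ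
      (fun _ _ => Commute.all _ _)
    obtain ⟨φ, hφ⟩ := h.exists_lift (R' ⊗[R] E) τ
    refine ⟨(φ.restrictScalars R).comp Algebra.TensorProduct.includeRight, ?_⟩
    ext x
    have h1 := congr($hφ (1 ⊗ₜ[R] x))
    refine (hπ _).trans (h1.trans ?_)
    simp [τ]
  · intro P _ _ _ φ
    let φ' : R' ⊗[R] P →ₐ[R'] S := Algebra.TensorProduct.lift (Algebra.ofId R' S) φ
      (fun _ _ => Commute.all _ _)
    obtain ⟨E, _, _, _, ψ, χ, hχ⟩ := h.lazard (R' ⊗[R] P) φ'
    let _ : Algebra R E := ((algebraMap R' E).comp (algebraMap R R')).toAlgebra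
    have : IsScalarTower R R' E := IsScalarTower.of_algebraMap_eq fun r => rfl
    have : Algebra.Etale R E := Algebra.Etale.comp R R' E
    refine ⟨E, inferInstance, inferInstance, inferInstance,
      (ψ.restrictScalars R).comp Algebra.TensorProduct.includeRight, χ.restrictScalars R, ?_⟩
    ext x
    have h1 := congr($hχ (1 ⊗ₜ[R] x))
    refine h1.trans ?_
    simp [φ']

end Groth.Agent.Vancyc.H696.HullEtale
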