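import Groth.Agent.Hensel.HullLocal
import Groth.Agent.Hensel.LazardGlue
import Groth.Agent.Vancyc.H696.HullEtale
import Mathlib.RingTheory.RingHom.Etale
import Mathlib.RingTheory.RingHom.FinitePresentation

/-!
Hulls (colimits of étale algebras over a field) in terms of ring homomorphisms: `HullAt f π` for `f : R → H` and
`π : H → K`.
-/

set_option autoImplicit false

universe u w

noncomputable section

namespace Groth.Agent.Vancyc.H696.HullAt

open Groth.Agent.Hensel.Hull Groth.Agent.Vancyc.H696.HullEtale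

variable {R H K : Type u} [CommRing R] [CommRing H] [Field K]

/-- `H` is the colimit of all étale `R`-algebras over `K`. -/
def IsHullAt (f : R →+* H) (π : H →+* K) : Prop :=
  letI := f.toAlgebra
  letI := (π.comp f).toAlgebra
  IsHull R H K { toRingHom := π, commutes' := fun _ => rfl }

/-- From the algebra version. -/
theorem IsHullAt.of_isHull {a0 : Algebra R H} {b0 : Algebra R K} {π : H →ₐ[R] K}
    (h : IsHull R H K π) : IsHullAt (algebraMap R H) (π : H →+* K) := by
  have h1 : (algebraMap R H).toAlgebra = a0 := Algebra.algebra_ext _ _ fun r => rfl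
  have h2 : ((π : H →+* K).comp (algebraMap R H)).toAlgebra = b0 :=
    Algebra.algebra_ext _ _ fun r => π.commutes r
  have key : ∀ (a : Algebra R H) (b : Algebra R K) (_ : a = a0)
      (_ : b = b0) (hc : ∀ r, (π : H →+* K) (@algebraMap _ _ _ _ a r) =
        @algebraMap _ _ _ _ b r),
      @IsHull R H K _ _ _ a b (@AlgHom.mk _ _ _ _ _ _ a b (π : H →+* K) hc) := by
    intro a b ha hb hc
    subst ha hb
    exact h
  exact key _ _ h1 h2 _

variable {f : R →+* H} {π : H →+* K}

theorem IsHullAt.isUnit_of_ne_zero (h : IsHullAt f π) (s : H) (hs : π s ≠ 0) : IsUnit s :=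
  letI := f.toAlgebra
  letI := (π.comp f).toAlgebra
  IsHull.isUnit_of_ne_zero h s hs

theorem IsHullAt.henselianLocalRing (h : IsHullAt f π) : HenselianLocalRing H :=
  letI := f.toAlgebra
  letI := (π.comp f).toAlgebra
  IsHull.henselianLocalRing h

theorem IsHullAt.mem_maximalIdeal_iff [IsLocalRing H] (h : IsHullAt f π) (s : H) :
    s ∈ IsLocalRing.maximalIdeal H ↔ π s = 0 :=
  letI := f.toAlgebra
  letI := (π.comp f).toAlgebra
  IsHull.mem_maximalIdeal_iff h s

theorem IsHullAt.lazard' (h : IsHullAt f π) :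
    letI := f.toAlgebra
    Groth.Agent.Hensel.LazardGlue.Lazard R H :=
  letI := f.toAlgebra
  letI := (π.comp f).toAlgebra
  fun P _ _ _ φ => IsHull.lazard h P φ

theorem IsHullAt.formallyEtale (h : IsHullAt f π) : f.FormallyEtale :=
  letI := f.toAlgebra
  Groth.Agent.Hensel.LazardGlue.formallyEtale h.lazard'

/-- Lifting of maps from étale algebras. -/
theorem IsHullAt.exists_lift (h : IsHullAt f π) {E : Type u} [CommRing E] (g : R →+* E)
    (hg : g.Etale) (σ : E →+* K) (hσ : σ.comp g = π.comp f) :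
    ∃ φ : E →+* H, φ.comp g = f ∧ π.comp φ = σ := by
  let _ := f.toAlgebra
  let _ := (π.comp f).toAlgebra
  let _ := g.toAlgebra
  have hE : Algebra.Etale R E := hg
  obtain ⟨φ, hφ⟩ := IsHull.exists_lift h E { toRingHom := σ, commutes' := fun r => congr($hσ r) }
  refine ⟨φ.toRingHom, ?_, ?_⟩
  · ext r
    exact φ.commutes r
  · ext e
    exact congr($hφ e)

/-- Maps from finitely presented algebras factor through étale algebras. -/
theorem IsHullAt.lazard (h : IsHullAt f π) {P : Type u} [CommRing P] (p : R →+* P)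
    (hp : p.FinitePresentation) (φ : P →+* H) (hφ : φ.comp p = f) :
    ∃ (E : Type u) (_ : CommRing E) (ψ : P →+* E) (χ : E →+* H),
      (ψ.comp p).Etale ∧ χ.comp ψ = φ := by
  let _ := f.toAlgebra
  let _ := (π.comp f).toAlgebra
  let _ := p.toAlgebra
  have hP : Algebra.FinitePresentation R P := hp
  obtain ⟨E, _, _, hE, ψ, χ, hχ⟩ := IsHull.lazard h P
    { toRingHom := φ, commutes' := fun r => congr($hφ r) }
  refine ⟨E, inferInstance, ψ.toRingHom, χ.toRingHom, ?_, ?_⟩
  · rw [show ψ.toRingHom.comp p = algebraMap R E from ψ.comp_algebraMap,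
      RingHom.etale_algebraMap]
    exact hE
  · ext x
    exact congr($hχ x)

/-- Finite families of elements come from étale algebras. -/
theorem IsHullAt.exists_etale (h : IsHullAt f π) (s : Finset H) :
    ∃ (E : Type u) (_ : CommRing E) (g : R →+* E) (χ : E →+* H),
      g.Etale ∧ χ.comp g = f ∧ (s : Set H) ⊆ Set.range χ := by
  let _ := f.toAlgebra
  let _ := (π.comp f).toAlgebra
  obtain ⟨E, _, _, hE, χ, hχ⟩ := IsHull.exists_etale_finset h s
  exact ⟨E, inferInstance, algebraMap R E, χ.toRingHom, RingHom.etale_algebraMap.mpr hE,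
    χ.comp_algebraMap, hχ⟩

/-- An element of an étale algebra dying in the hull dies in some étale algebra. -/
theorem IsHullAt.exists_etale_eq_zero (h : IsHullAt f π) {B : Type u} [CommRing B] (g : R →+* B)
    (hg : g.Etale) (φ : B →+* H) (hφ : φ.comp g = f) (b : B) (hb : φ b = 0) :
    ∃ (E : Type u) (_ : CommRing E) (ψ : B →+* E) (χ : E →+* H),
      (ψ.comp g).Etale ∧ χ.comp ψ = φ ∧ ψ b = 0 := by
  let _ := f.toAlgebra
  let _ := (π.comp f).toAlgebra
  let _ := g.toAlgebra
  have hE : Algebra.Etale R B := hg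
  obtain ⟨E, _, _, hE, ψ, χ, hχ, h0⟩ := IsHull.exists_etale_eq_zero h
    { toRingHom := φ, commutes' := fun r => congr($hφ r) } b hb
  refine ⟨E, inferInstance, ψ.toRingHom, χ.toRingHom, ?_, ?_, h0⟩
  · rw [show ψ.toRingHom.comp g = algebraMap R E from ψ.comp_algebraMap,
      RingHom.etale_algebraMap]
    exact hE
  · ext x
    exact congr($hχ x)

/-- Universal property with respect to henselian local rings. -/
theorem IsHullAt.existsUnique (h : IsHullAt f π) {T : Type w} [CommRing T] [HenselianLocalRing T]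
    (g : R →+* T) (τ : K →+* IsLocalRing.ResidueField T)
    (hτ : ∀ r, τ (π (f r)) = IsLocalRing.residue T (g r)) :
    ∃! φ : H →+* T, φ.comp f = g ∧ ∀ s, IsLocalRing.residue T (φ s) = τ (π s) := by
  let _ := f.toAlgebra
  let _ := (π.comp f).toAlgebra
  let _ := g.toAlgebra
  obtain ⟨φ, hφ, hu⟩ := IsHull.existsUnique_algHom (T := T) τ h hτ
  refine ⟨φ.toRingHom, ⟨?_, hφ⟩, fun φ' hφ' => ?_⟩
  · ext r
    exact φ.commutes r
  · have := hu { toRingHom := φ', commutes' := fun r => congr($(hφ'.1) r) } hφ'.2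
    rw [← this]

/-- Uniqueness, in a convenient form. -/
theorem IsHullAt.hom_ext (h : IsHullAt f π) {T : Type w} [CommRing T] [HenselianLocalRing T]
    (φ ψ : H →+* T) (h1 : φ.comp f = ψ.comp f) (τ : K →+* IsLocalRing.ResidueField T)
    (h2 : ∀ s, IsLocalRing.residue T (φ s) = τ (π s))
    (h3 : ∀ s, IsLocalRing.residue T (ψ s) = τ (π s)) : φ = ψ := by
  obtain ⟨g, -, hg⟩ := h.existsUnique (φ.comp f) τ fun r => (h2 _).symm
  rw [hg φ ⟨rfl, h2⟩, hg ψ ⟨h1.symm, h3⟩]

/-- A hull of `R` is a hull of every étale `R`-algebra mapping to it. -/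
theorem IsHullAt.of_etale (h : IsHullAt f π) {R' : Type u} [CommRing R'] (φ : R →+* R')
    (hφ : φ.Etale) (g : R' →+* H) (hg : g.comp φ = f) : IsHullAt g π := by
  let _ := f.toAlgebra
  let _ := (π.comp f).toAlgebra
  let _ := φ.toAlgebra
  let _ := g.toAlgebra
  let _ := (π.comp g).toAlgebra
  have : Algebra.Etale R R' := hφ
  have : IsScalarTower R R' H := IsScalarTower.of_algebraMap_eq fun r => (congr($hg r)).symm
  exact isHull_of_etale (π := { toRingHom := π, commutes' := fun _ => rfl }) h R'
    { toRingHom := π, commutes' := fun _ => rfl } fun s => rfl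

/-- A hull of an étale `R`-algebra is a hull of `R`. -/
theorem IsHullAt.of_etale_base {R' : Type u} [CommRing R'] (φ : R →+* R')
    (hφ : φ.Etale) {g : R' →+* H} (h : IsHullAt g π) (hg : g.comp φ = f) : IsHullAt f π := by
  let _ := f.toAlgebra
  let _ := (π.comp f).toAlgebra
  let _ := φ.toAlgebra
  let _ := g.toAlgebra
  let _ := (π.comp g).toAlgebra
  have : Algebra.Etale R R' := hφ
  have : IsScalarTower R R' H := IsScalarTower.of_algebraMap_eq fun r => (congr($hg r)).symm
  have : IsScalarTower R R' K := IsScalarTower.of_algebraMap_eq fun r =>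
    (congr(π ($hg r))).symm
  exact isHull_of_etale_base R' (π' := { toRingHom := π, commutes' := fun _ => rfl }) h
    { toRingHom := π, commutes' := fun _ => rfl } fun s => rfl

end Groth.Agent.Vancyc.H696.HullAt
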