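import Groth.Agent.Vancyc.H696.Morse
import Groth.Agent.Vancyc.H696.Restrict
import Groth.Agent.Sga67.QuadSplit
import Groth.Agent.Vancyc.H694.StdT

/-!
Linear changes of coordinates, and the hyperbolic form in split coordinates.
-/

set_option autoImplicit false

universe u v w

noncomputable section

namespace Groth.Agent.Vancyc.H696.Lin

open MvPolynomial Matrix
open Groth.Agent.Vancyc.H696.HullAt Groth.Agent.Vancyc.H696.Coord
open Groth.Agent.Vancyc.H696.Change Groth.Agent.Sga67.QuadSplit

variable {A : Type u} {H K : Type u} [CommRing A] [CommRing H] [Field K] [Algebra A H]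
  {ι₀ J : Type} {π : H →+* K}

/-- A linear change of part of the coordinates. -/
theorem isCoord_linear [Fintype ι₀] [DecidableEq ι₀] [Fintype J] [DecidableEq J] {x₀ : ι₀ → H}
    {y : J → H} (h : IsCoord A π (Sum.elim x₀ y)) (hy : ∀ i, π (y i) = 0) (G : Matrix J J H)
    (hG : IsUnit G.det) : IsCoord A π (Sum.elim x₀ (G.mulVec y)) := by
  refine isCoord_of_det h _ ?_
  have hd : ∀ i k, h.d (Sum.inr i) (G.mulVec y k) =
      G k i + ∑ l, y l * h.d (Sum.inr i) (G k l) := by
    intro i k
    have h1 : ∀ l, h.d (Sum.inr i) (y l) = if i = l then 1 else 0 := by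
      intro l
      have := h.d_x (Sum.inr i) (Sum.inr l)
      simpa using this
    rw [mulVec, dotProduct, map_sum]
    simp only [Derivation.leibniz, smul_eq_mul, h1, Finset.sum_add_distrib,
      mul_ite, mul_one, mul_zero, Finset.sum_ite_eq, Finset.mem_univ, if_true]
  have : (Matrix.of fun i k => h.d i (Sum.elim x₀ (G.mulVec y) k)) =
      Matrix.fromBlocks 1 (Matrix.of fun i k => h.d (Sum.inl i) (G.mulVec y k)) 0
        (Matrix.of fun i k => h.d (Sum.inr i) (G.mulVec y k)) := by
    ext i k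
    rcases i with i | i <;> rcases k with k | k
    · have := h.d_x (Sum.inl i) (Sum.inl k)
      simpa [Matrix.one_apply] using this
    · simp
    · have := h.d_x (Sum.inr i) (Sum.inl k)
      simpa using this
    · simp
  rw [this, Matrix.det_fromBlocks_zero₂₁, Matrix.det_one, one_mul]
  refine h.isUnit_of_ne_zero _ ?_
  rw [RingHom.map_det]
  have h2 : π.mapMatrix (Matrix.of fun i k => h.d (Sum.inr i) (G.mulVec y k)) =
      (π.mapMatrix G)ᵀ := by
    ext i k
    rw [RingHom.mapMatrix_apply, Matrix.map_apply, Matrix.of_apply, hd, map_add, map_sum,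
      Finset.sum_eq_zero (fun l _ => by rw [map_mul, hy, zero_mul]), add_zero]
    rfl
  rw [h2, Matrix.det_transpose, ← RingHom.map_det]
  exact (hG.map π).ne_zero

/-- Split coordinates. -/
theorem exists_split {m : ℕ} {R : Type u} [CommRing R]
    (a : Matrix (Fin (2 * m)) (Fin (2 * m)) R) (h : Split a (Fin m)) (y : Fin (2 * m) → R) :
    ∃ G : Matrix (Fin (2 * m)) (Fin (2 * m)) R, IsUnit G.det ∧
      ∑ i, ∑ k, a i k * y i * y k = ∑ i : Fin m,
        G.mulVec y (Groth.Agent.Vancyc.H694.StdT.lo m i) *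
          G.mulVec y (Groth.Agent.Vancyc.H694.StdT.hi m i) := by
  obtain ⟨g, g', h1, h2, d, h3⟩ := h
  let ε : Fin m ⊕ Fin m ≃ Fin (2 * m) := finSumFinEquiv.trans (finCongr (two_mul m).symm)
  have hεl : ∀ i, ε (Sum.inl i) = Groth.Agent.Vancyc.H694.StdT.lo m i := fun i => by
    ext
    simp [ε, Groth.Agent.Vancyc.H694.StdT.lo]
  have hεr : ∀ i, ε (Sum.inr i) = Groth.Agent.Vancyc.H694.StdT.hi m i := fun i => by
    ext
    simp [ε, Groth.Agent.Vancyc.H694.StdT.hi, Nat.add_comm]
  refine ⟨g'.submatrix ε.symm id, ?_, ?_⟩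
  · have h4 : (g'.submatrix ε.symm id) * (g.submatrix id ε.symm) = 1 := by
      have h5 : (g'.submatrix ε.symm id) * (g.submatrix id ε.symm) =
          (g' * g).submatrix ε.symm ε.symm := by
        ext i j
        rfl
      rw [h5, h2, Matrix.submatrix_one_equiv]
    have h5 := congrArg Matrix.det h4
    rw [Matrix.det_mul, Matrix.det_one] at h5
    exact IsUnit.of_mul_eq_one _ h5
  · set z : Fin m ⊕ Fin m → R := g'.mulVec y with hz
    have hz' : ∀ i, (g'.submatrix ε.symm id).mulVec y (ε i) = z i := by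
      intro i
      simp [hz, Matrix.mulVec, dotProduct]
    have hy : y = g.mulVec z := by
      rw [hz, Matrix.mulVec_mulVec, h1, Matrix.one_mulVec]
    have h4 : ∑ i, ∑ k, a i k * y i * y k = y ⬝ᵥ a.mulVec y := by
      simp only [dotProduct, Matrix.mulVec, Finset.mul_sum]
      refine Finset.sum_congr rfl fun i _ => Finset.sum_congr rfl fun k _ => ?_
      ring
    have h5 : gᵀ * a * g = Matrix.fromBlocks 0 1 0 0 + (d - dᵀ) := by
      rw [← h3]
      abel
    have h8 : ∀ v, (g.mulVec v) ⬝ᵥ a.mulVec (g.mulVec v) = v ⬝ᵥ (gᵀ * a * g).mulVec v := by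
      intro v
      rw [← Matrix.mulVec_mulVec, ← Matrix.mulVec_mulVec,
        Matrix.dotProduct_mulVec v gᵀ, Matrix.vecMul_transpose]
    have h6 : y ⬝ᵥ a.mulVec y = z ⬝ᵥ (gᵀ * a * g).mulVec z := by
      rw [← h8, ← hy]
    have h7 : z ⬝ᵥ (d - dᵀ).mulVec z = 0 := by
      rw [Matrix.sub_mulVec, dotProduct_sub, Matrix.mulVec_transpose, dotProduct_comm z (z ᵥ* d),
        ← Matrix.dotProduct_mulVec, sub_self]
    rw [h4, h6, h5, Matrix.add_mulVec, dotProduct_add, h7, add_zero]
    simp only [← hεl, ← hεr, hz']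
    simp [dotProduct, Matrix.mulVec, Fintype.sum_sum_type, Matrix.one_apply]

end Groth.Agent.Vancyc.H696.Lin
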