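import Groth.Prelude.Def_QuadSing
import Mathlib.RingTheory.IntegralClosure.Algebra.Basic
import Mathlib.RingTheory.Ideal.GoingUp
import Mathlib.FieldTheory.IsAlgClosed.AlgebraicClosure
import Mathlib.RingTheory.EssentialFiniteness
import Mathlib.RingTheory.LocalRing.ResidueField.Basic
import Mathlib.RingTheory.Jacobson.Ring
import Mathlib.RingTheory.Nullstellensatz
import Mathlib.RingTheory.Localization.Submodule
import Mathlib.RingTheory.Flat.Basic

/-!
The local ring of the geometric fibre at a point.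
-/

set_option autoImplicit false
universe u

open IsLocalRing TensorProduct

namespace Groth.Agent.Vancyc.H696.LocL

section Near

variable {K L : Type u} [Field K] [CommRing L] [IsLocalRing L] [Algebra K L]

/-- Elements congruent to a constant modulo `I`. -/
def near (I : Ideal L) : Subalgebra K L :=
  (⊥ : Subalgebra K (L ⧸ I)).comap (Ideal.Quotient.mkₐ K I)

omit [IsLocalRing L] in
theorem mem_near (I : Ideal L) (z : L) :
    z ∈ near (K := K) I ↔ ∃ c : K, z - algebraMap K L c ∈ I := by
  rw [near, Subalgebra.mem_comap, Algebra.mem_bot]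
  constructor
  · rintro ⟨c, hc⟩
    refine ⟨c, ?_⟩
    rw [← Ideal.Quotient.eq_zero_iff_mem, map_sub, sub_eq_zero]
    exact hc.symm
  · rintro ⟨c, hc⟩
    refine ⟨c, ?_⟩
    rw [← Ideal.Quotient.eq_zero_iff_mem, map_sub, sub_eq_zero] at hc
    exact hc.symm

theorem inv_mem_near (I : Ideal L) (hI : I ≤ maximalIdeal L) (z w : L) (hz : z ∈ near (K := K) I)
    (hw : z * w = 1) : w ∈ near (K := K) I := by
  rw [mem_near] at hz ⊢
  obtain ⟨c, hc⟩ := hz
  have hc0 : c ≠ 0 := by
    rintro rfl
    rw [map_zero, sub_zero] at hc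
    have : (1 : L) ∈ maximalIdeal L := hw ▸ Ideal.mul_mem_right w _ (hI hc)
    exact (Ideal.ne_top_iff_one _).1 (maximalIdeal.isMaximal L).ne_top this
  refine ⟨c⁻¹, ?_⟩
  have h1 : algebraMap K L c * algebraMap K L c⁻¹ = 1 := by
    rw [← map_mul, mul_inv_cancel₀ hc0, map_one]
  have : w - algebraMap K L c⁻¹ =
      -(w * algebraMap K L c⁻¹) * (z - algebraMap K L c) := by
    linear_combination (algebraMap K L c⁻¹) * hw - w * h1
  rw [this]
  exact Ideal.mul_mem_left _ _ hc

end Near

section Gen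

variable {k K O C : Type u} [Field k] [Field K] [Algebra k K] [CommRing O]
  [Algebra k O] [CommRing C] (γ : C →+* O)

variable (K) in
/-- The map from `C` to the tensor product. -/
noncomputable def lam0 : C →+* K ⊗[k] O :=
  (Algebra.TensorProduct.includeRight (R := k) (A := K) (B := O)).toRingHom.comp γ

/-- The map from `C` to the local ring. -/
noncomputable def lam (M : Ideal (K ⊗[k] O)) [M.IsPrime] : C →+* Localization.AtPrime M :=
  (algebraMap (K ⊗[k] O) (Localization.AtPrime M)).comp (lam0 K γ)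

theorem eq_top_of_mem (hfrac : ∀ o : O, ∃ b s : C, IsUnit (γ s) ∧ γ s * o = γ b)
    (M : Ideal (K ⊗[k] O)) [M.IsPrime] (S : Subalgebra K (Localization.AtPrime M))
    (hinv : ∀ z w, z ∈ S → z * w = 1 → w ∈ S) (hS : ∀ b, lam γ M b ∈ S) : S = ⊤ := by
  have h1 : ∀ o : O, algebraMap (K ⊗[k] O) (Localization.AtPrime M)
      (Algebra.TensorProduct.includeRight o) ∈ S := by
    intro o
    obtain ⟨b, s, hs, hb⟩ := hfrac o
    have hu : IsUnit (lam γ M s) :=
      hs.map ((algebraMap (K ⊗[k] O) (Localization.AtPrime M)).comp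
        (Algebra.TensorProduct.includeRight (R := k) (A := K) (B := O)).toRingHom)
    obtain ⟨w, hw⟩ := hu.exists_right_inv
    have h2 : lam γ M s * algebraMap (K ⊗[k] O) (Localization.AtPrime M)
        (Algebra.TensorProduct.includeRight o) = lam γ M b := by
      change algebraMap (K ⊗[k] O) (Localization.AtPrime M)
        (Algebra.TensorProduct.includeRight (γ s)) * _ =
        algebraMap (K ⊗[k] O) (Localization.AtPrime M)
        (Algebra.TensorProduct.includeRight (γ b))
      rw [← map_mul, ← map_mul, hb]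
    have h3 : algebraMap (K ⊗[k] O) (Localization.AtPrime M)
        (Algebra.TensorProduct.includeRight o) = w * lam γ M b := by
      rw [← h2]
      linear_combination (-algebraMap (K ⊗[k] O) (Localization.AtPrime M)
        (Algebra.TensorProduct.includeRight o)) * hw
    rw [h3]
    exact S.mul_mem (hinv _ _ (hS s) hw) (hS b)
  have h2 : ∀ x : K ⊗[k] O, algebraMap (K ⊗[k] O) (Localization.AtPrime M) x ∈ S := by
    intro x
    induction x with
    | zero => rw [map_zero]; exact S.zero_mem
    | add x y hx hy => rw [map_add]; exact S.add_mem hx hy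
    | tmul c o =>
      have h4 : c ⊗ₜ[k] o = algebraMap K (K ⊗[k] O) c * Algebra.TensorProduct.includeRight o := by
        simp
      rw [h4, map_mul, ← IsScalarTower.algebraMap_apply]
      exact S.mul_mem (S.algebraMap_mem c) (h1 o)
  rw [eq_top_iff]
  intro z _
  obtain ⟨x, s, rfl⟩ := IsLocalization.exists_mk'_eq M.primeCompl z
  have hu : IsUnit (algebraMap (K ⊗[k] O) (Localization.AtPrime M) s) :=
    IsLocalization.map_units _ s
  obtain ⟨w, hw⟩ := hu.exists_right_inv
  have h3 : IsLocalization.mk' (Localization.AtPrime M) x s =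
      w * algebraMap (K ⊗[k] O) (Localization.AtPrime M) x := by
    have h5 := IsLocalization.mk'_spec (Localization.AtPrime M) x s
    rw [← h5]
    linear_combination (-IsLocalization.mk' (Localization.AtPrime M) x s) * hw
  rw [h3]
  exact S.mul_mem (hinv _ _ (h2 _) hw) (h2 x)

/-- `O → K ⊗ O` is integral. -/
theorem isIntegral_includeRight [Algebra.IsIntegral k K] :
    (Algebra.TensorProduct.includeRight (R := k) (A := K) (B := O)).toRingHom.IsIntegral := by
  intro z
  induction z with
  | zero => exact RingHom.isIntegralElem_zero _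
  | add x y hx hy => exact hx.add _ hy
  | tmul c o =>
    have h4 : c ⊗ₜ[k] o = algebraMap K (K ⊗[k] O) c * Algebra.TensorProduct.includeRight o := by
      simp
    rw [h4]
    refine RingHom.IsIntegralElem.mul _ ?_ (RingHom.isIntegralElem_map _)
    obtain ⟨p, hp, hpc⟩ := Algebra.IsIntegral.isIntegral (R := k) c
    refine ⟨p.map (algebraMap k O), hp.map _, ?_⟩
    rw [Polynomial.eval₂_map]
    have h5 : (Algebra.TensorProduct.includeRight (R := k) (A := K) (B := O)).toRingHom.comp
        (algebraMap k O) = (algebraMap K (K ⊗[k] O)).comp (algebraMap k K) := by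
      ext a
      simp [Algebra.algebraMap_eq_smul_one]
    rw [h5, ← Polynomial.hom_eval₂, hpc, map_zero]

theorem comap_eq [Algebra.IsIntegral k K] [IsLocalRing O] (M : Ideal (K ⊗[k] O)) [M.IsMaximal] :
    M.comap (Algebra.TensorProduct.includeRight (R := k) (A := K) (B := O)).toRingHom =
      maximalIdeal O :=
  IsLocalRing.eq_maximalIdeal
    (Ideal.isMaximal_comap_of_isIntegral_of_isMaximal' _ isIntegral_includeRight M)

/-- Constants modulo the maximal ideal. -/
theorem exists_const [Algebra.IsIntegral k K] [IsAlgClosed K] [IsLocalRing O]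
    (hint : ∀ b, ((residue O).comp (algebraMap k O)).IsIntegralElem (residue O (γ b)))
    (M : Ideal (K ⊗[k] O)) [M.IsMaximal] (b : C) :
    ∃ c : K, lam γ M b - algebraMap K _ c ∈ maximalIdeal (Localization.AtPrime M) := by
  obtain ⟨p, hp, hpb⟩ := hint b
  have h1 : Polynomial.eval₂ (algebraMap k O) (γ b) p ∈ maximalIdeal O := by
    rw [← residue_eq_zero_iff, Polynomial.hom_eval₂]
    exact hpb
  have h2 : Polynomial.eval₂ ((algebraMap K (Localization.AtPrime M)).comp (algebraMap k K))
      (lam γ M b) p ∈ maximalIdeal (Localization.AtPrime M) := by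
    have h5 : (Algebra.TensorProduct.includeRight (R := k) (A := K) (B := O)).toRingHom.comp
        (algebraMap k O) = (algebraMap K (K ⊗[k] O)).comp (algebraMap k K) := by
      ext a
      simp [Algebra.algebraMap_eq_smul_one]
    have h6 : (algebraMap K (Localization.AtPrime M)).comp (algebraMap k K) =
        ((algebraMap (K ⊗[k] O) (Localization.AtPrime M)).comp
        (Algebra.TensorProduct.includeRight (R := k) (A := K) (B := O)).toRingHom).comp
        (algebraMap k O) := by
      rw [RingHom.comp_assoc, h5, ← RingHom.comp_assoc,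
        ← IsScalarTower.algebraMap_eq K (K ⊗[k] O) (Localization.AtPrime M)]
    rw [h6]
    change Polynomial.eval₂ _ (((algebraMap (K ⊗[k] O) (Localization.AtPrime M)).comp
        (Algebra.TensorProduct.includeRight (R := k) (A := K) (B := O)).toRingHom) (γ b)) p ∈ _
    rw [← Polynomial.hom_eval₂, RingHom.comp_apply]
    have h7 : (Algebra.TensorProduct.includeRight (R := k) (A := K) (B := O)).toRingHom
        (Polynomial.eval₂ (algebraMap k O) (γ b) p) ∈ M := by
      rw [← Ideal.mem_comap, comap_eq]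
      exact h1
    rwa [← IsLocalization.AtPrime.to_map_mem_maximal_iff (Localization.AtPrime M) M] at h7
  have h3 : (p.map (algebraMap k K)).Splits := IsAlgClosed.splits _
  obtain ⟨s, hs⟩ := (Polynomial.splits_iff_exists_multiset.1 h3)
  have h4 : (p.map (algebraMap k K)).leadingCoeff = 1 := hp.map _
  rw [h4, Polynomial.C_1, one_mul] at hs
  rw [← Polynomial.eval₂_map, hs, Polynomial.eval₂_multiset_prod, Multiset.map_map] at h2
  obtain ⟨y, hy, hy2⟩ := ((maximalIdeal.isMaximal _).isPrime.multiset_prod_mem_iff_exists_mem _).1 h2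
  obtain ⟨c, hc, rfl⟩ := Multiset.mem_map.1 hy
  refine ⟨c, ?_⟩
  simpa using hy2

/-- Lifting. -/
theorem exists_lift [IsLocalRing O]
    (hfrac : ∀ o : O, ∃ b s : C, IsUnit (γ s) ∧ γ s * o = γ b)
    (M : Ideal (K ⊗[k] O)) [M.IsPrime] (ρ : Localization.AtPrime M →ₐ[K] K)
    {T : Type u} [CommRing T] [IsLocalRing T] [Algebra K T]
    (φ : O →+* T) (hφ : ∀ a, φ (algebraMap k O a) = algebraMap K T (algebraMap k K a))
    (hφ2 : ∀ b, φ (γ b) - algebraMap K T (ρ (lam γ M b)) ∈ maximalIdeal T) :
    ∃ ψ : Localization.AtPrime M →ₐ[K] T, ∀ o, ψ (algebraMap (K ⊗[k] O) _ (1 ⊗ₜ o)) = φ o := by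
  let _ : Algebra k T := ((algebraMap K T).comp (algebraMap k K)).toAlgebra
  have : IsScalarTower k K T := IsScalarTower.of_algebraMap_eq fun _ => rfl
  let φ' : O →ₐ[k] T := { φ with commutes' := hφ }
  let ψ₀ : K ⊗[k] O →ₐ[K] T := Algebra.TensorProduct.lift (Algebra.ofId K T) φ'
    (fun _ _ => Commute.all _ _)
  have hψ₀ : ∀ o, ψ₀ (1 ⊗ₜ o) = φ o := fun o => by
    simp [ψ₀, φ']
  -- the two residue maps
  let r1 : K ⊗[k] O →ₐ[K] ResidueField T := (IsScalarTower.toAlgHom K T (ResidueField T)).comp ψ₀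
  let r2 : K ⊗[k] O →ₐ[K] ResidueField T := (Algebra.ofId K (ResidueField T)).comp
    (ρ.comp (IsScalarTower.toAlgHom K (K ⊗[k] O) (Localization.AtPrime M)))
  have hr : ∀ b, r1 (1 ⊗ₜ γ b) = r2 (1 ⊗ₜ γ b) := by
    intro b
    have h1 := hφ2 b
    rw [← residue_eq_zero_iff, map_sub, sub_eq_zero] at h1
    change residue T (ψ₀ (1 ⊗ₜ γ b)) = _
    rw [hψ₀, h1]
    rfl
  have hr2 : ∀ o, r1 (1 ⊗ₜ o) = r2 (1 ⊗ₜ o) := by
    intro o
    obtain ⟨b, s, hs, hb⟩ := hfrac o
    have hu : IsUnit (r1 (1 ⊗ₜ γ s)) := by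
      have := hs.map ((r1 : K ⊗[k] O →+* ResidueField T).comp
        (Algebra.TensorProduct.includeRight (R := k) (A := K) (B := O)).toRingHom)
      exact this
    refine hu.mul_left_cancel ?_
    have h2 : ∀ r : K ⊗[k] O →ₐ[K] ResidueField T,
        r (1 ⊗ₜ γ s) * r (1 ⊗ₜ o) = r (1 ⊗ₜ γ b) := by
      intro r
      rw [← map_mul, Algebra.TensorProduct.tmul_mul_tmul, one_mul, hb]
    rw [h2 r1, hr b, hr s, h2 r2]
  have hr3 : r1 = r2 := by
    ext o
    exact hr2 o
  have hunit : ∀ y : M.primeCompl, IsUnit (ψ₀ y) := by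
    intro y
    have h1 : residue T (ψ₀ y) ≠ 0 := by
      change r1 y ≠ 0
      rw [hr3]
      have h3 : IsUnit (algebraMap (K ⊗[k] O) (Localization.AtPrime M) y) :=
        IsLocalization.map_units _ y
      exact (h3.map ((Algebra.ofId K (ResidueField T)).comp ρ)).ne_zero
    rwa [Ne, residue_eq_zero_iff, mem_maximalIdeal, mem_nonunits_iff, not_not] at h1
  refine ⟨IsLocalization.liftAlgHom (M := M.primeCompl) (f := ψ₀) hunit, fun o => ?_⟩
  rw [IsLocalization.liftAlgHom_apply, IsLocalization.lift_eq]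
  exact hψ₀ o

end Gen

theorem exists_residue {K L : Type u} [Field K] [CommRing L] [IsLocalRing L] [Algebra K L]
    (h : ∀ z : L, ∃ c : K, z - algebraMap K L c ∈ maximalIdeal L) :
    ∃ ρ : L →ₐ[K] K, ∀ z, ρ z = 0 ↔ z ∈ maximalIdeal L := by
  have hbij : Function.Bijective (Algebra.ofId K (L ⧸ maximalIdeal L)) := by
    constructor
    · exact (algebraMap K (L ⧸ maximalIdeal L)).injective
    · intro y
      obtain ⟨z, rfl⟩ := Ideal.Quotient.mk_surjective y
      obtain ⟨c, hc⟩ := h z
      refine ⟨c, ?_⟩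
      rw [← Ideal.Quotient.eq_zero_iff_mem, map_sub, sub_eq_zero] at hc
      exact hc.symm
  let e := AlgEquiv.ofBijective _ hbij
  refine ⟨e.symm.toAlgHom.comp (Ideal.Quotient.mkₐ K (maximalIdeal L)), fun z => ?_⟩
  change e.symm _ = 0 ↔ _
  rw [EmbeddingLike.map_eq_zero_iff]
  exact Ideal.Quotient.eq_zero_iff_mem

/-- Generic version of the data. -/
theorem exists_abstract {K L C : Type u} [Field K] [CommRing L] [IsLocalRing L] [Algebra K L]
    [CommRing C] (f : C →+* L)
    (htop : ∀ S : Subalgebra K L, (∀ z w, z ∈ S → z * w = 1 → w ∈ S) → (∀ b, f b ∈ S) → S = ⊤)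
    (hc : ∀ b, ∃ c : K, f b - algebraMap K L c ∈ maximalIdeal L) :
    ∃ ρ : L →ₐ[K] K, (∀ z, ρ z = 0 ↔ z ∈ maximalIdeal L) ∧
      maximalIdeal L ≤ Ideal.span {z | ∃ b, z = f b - algebraMap K L (ρ (f b))} := by
  choose c hc using hc
  let I : Ideal L := Ideal.span (Set.range fun b => f b - algebraMap K L (c b))
  have hI : I ≤ maximalIdeal _ := by
    rw [Ideal.span_le]
    rintro _ ⟨b, rfl⟩
    exact hc b
  have hS : near (K := K) I = ⊤ := by
    refine htop _ (fun z w hz hw => inv_mem_near I hI z w hz hw) fun b => ?_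
    rw [mem_near]
    exact ⟨c b, Ideal.subset_span ⟨b, rfl⟩⟩
  have hS' : ∀ z : L, ∃ c : K, z - algebraMap K L c ∈ I := by
    intro z
    rw [← mem_near, hS]
    exact Algebra.mem_top
  obtain ⟨ρ, hρ⟩ := exists_residue (K := K) (L := L) fun z => by
    obtain ⟨c, hc⟩ := hS' z
    exact ⟨c, hI hc⟩
  have hρc : ∀ b, ρ (f b) = c b := by
    intro b
    have := (hρ _).2 (hc b)
    rwa [map_sub, sub_eq_zero, AlgHom.commutes] at this
  refine ⟨ρ, hρ, ?_⟩
  intro z hz
  obtain ⟨c', hc'⟩ := hS' z
  have h1 : c' = 0 := by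
    have h2 : algebraMap K L c' ∈ maximalIdeal _ := by
      have := Ideal.sub_mem _ hz (hI hc')
      rwa [sub_sub_cancel] at this
    rw [← hρ, AlgHom.commutes] at h2
    exact h2
  rw [h1, map_zero, sub_zero] at hc'
  refine Ideal.span_mono ?_ hc'
  rintro _ ⟨b, rfl⟩
  exact ⟨b, by rw [hρc]⟩

theorem exists_gen {k K O C : Type u} [Field k] [Field K] [Algebra k K] [CommRing O]
    [Algebra k O] [CommRing C] (γ : C →+* O)
    [Algebra.IsIntegral k K] [IsAlgClosed K] [IsLocalRing O]
    (hfrac : ∀ o : O, ∃ b s : C, IsUnit (γ s) ∧ γ s * o = γ b)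
    (hint : ∀ b, ((residue O).comp (algebraMap k O)).IsIntegralElem (residue O (γ b)))
    (M : Ideal (K ⊗[k] O)) [M.IsMaximal] :
    ∃ ρ : Localization.AtPrime M →ₐ[K] K,
      (∀ z, ρ z = 0 ↔ z ∈ maximalIdeal (Localization.AtPrime M)) ∧
      (∀ b, ρ (lam γ M b) = 0 ↔ γ b ∈ maximalIdeal O) ∧
      maximalIdeal (Localization.AtPrime M) ≤
        Ideal.span {z | ∃ b, z = lam γ M b - algebraMap K _ (ρ (lam γ M b))} := by
  obtain ⟨ρ, h1, h2⟩ := exists_abstract (K := K) (lam γ M)
    (fun S h3 h4 => eq_top_of_mem γ hfrac M S h3 h4) (exists_const γ hint M)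
  refine ⟨ρ, h1, fun b => ?_, h2⟩
  rw [h1]
  change algebraMap (K ⊗[k] O) (Localization.AtPrime M) _ ∈ _ ↔ _
  rw [IsLocalization.AtPrime.to_map_mem_maximal_iff (Localization.AtPrime M) M,
    ← comap_eq (k := k) (K := K) (O := O) M]
  rfl

theorem isNoetherianRing_loc {k K O : Type u} [Field k] [Field K] [Algebra k K] [CommRing O]
    [Algebra k O] [Algebra.EssFiniteType k O] (M : Ideal (K ⊗[k] O)) [M.IsPrime] :
    IsNoetherianRing (Localization.AtPrime M) := by
  have h4 : Algebra.EssFiniteType K (K ⊗[k] O) := inferInstance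
  have h5 : Algebra.EssFiniteType K (Localization.AtPrime M) :=
    Algebra.EssFiniteType.comp K (K ⊗[k] O) _
  exact Algebra.EssFiniteType.isNoetherianRing K _

theorem nontrivial_tensor {k K O : Type u} [Field k] [Field K] [Algebra k K] [CommRing O]
    [Algebra k O] [Nontrivial O] : Nontrivial (K ⊗[k] O) :=
  (Algebra.TensorProduct.includeRight_injective (R := k) (A := K) (B := O)
    (algebraMap k K).injective).nontrivial

theorem lam_alg {k K O C : Type u} [Field k] [Field K] [Algebra k K] [CommRing O]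
    [Algebra k O] [CommRing C] (γ : C →+* O) (M : Ideal (K ⊗[k] O)) [M.IsPrime] (b : C) (a : k)
    (h : γ b = algebraMap k O a) :
    lam γ M b = algebraMap K (Localization.AtPrime M) (algebraMap k K a) := by
  change algebraMap (K ⊗[k] O) (Localization.AtPrime M) (1 ⊗ₜ (γ b)) = _
  have h1 : (1 : K) ⊗ₜ[k] (algebraMap k O a) = algebraMap K (K ⊗[k] O) (algebraMap k K a) := by
    rw [Algebra.TensorProduct.algebraMap_apply, Algebra.algebraMap_eq_smul_one,
      TensorProduct.tmul_smul, TensorProduct.smul_tmul', ← Algebra.algebraMap_eq_smul_one]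
    rfl
  rw [h, h1]
  exact (IsScalarTower.algebraMap_apply K (K ⊗[k] O) (Localization.AtPrime M) _).symm

end Groth.Agent.Vancyc.H696.LocL
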