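import Groth.Agent.Vancyc.H696.Section
import Groth.Agent.Vancyc.H696.HensTools

/-!
The Morse expansion of `F` along a critical section.
-/

set_option autoImplicit false

universe u v w

noncomputable section

namespace Groth.Agent.Vancyc.H696.Morse

open MvPolynomial
open Groth.Agent.Vancyc.H696.HullAt Groth.Agent.Vancyc.H696.Coord Groth.Agent.Vancyc.H696.Univ
open Groth.Agent.Vancyc.H696.Change Groth.Agent.Vancyc.H696.Section
open Groth.Agent.Vancyc.H696.HensTools

variable {A H K : Type u} [CommRing A] [CommRing H] [Field K] [Algebra A H]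
  {ι₀ J : Type} {π : H →+* K} {x : ι₀ ⊕ J → H}
  {A₁ : Type u} [CommRing A₁] [Algebra A A₁] {π₁ : A₁ →+* K} {x₁ : ι₀ → A₁}

/-- Derivations in the directions `J` kill the hull in the remaining coordinates. -/
theorem d_j (h : IsCoord A π x) (h₁ : IsCoord A π₁ x₁) (j : A₁ →ₐ[A] H)
    (hjx : ∀ i, j (x₁ i) = x (Sum.inl i)) (k : J) (a : A₁) : h.d (Sum.inr k) (j a) = 0 := by
  classical
  let _ : Algebra A₁ H := j.toRingHom.toAlgebra
  have : IsScalarTower A A₁ H := IsScalarTower.of_algebraMap_eq fun a => (j.commutes a).symm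
  let d' : Derivation A A₁ H := Derivation.mk'
    ((h.d (Sum.inr k)).toLinearMap.comp j.toLinearMap)
    (fun a b => by
      change h.d (Sum.inr k) (j (a * b)) = j a * h.d (Sum.inr k) (j b) +
        j b * h.d (Sum.inr k) (j a)
      rw [map_mul, Derivation.leibniz]
      rfl)
  have hd : d' = 0 := h₁.der_ext d' 0 fun i => by
    change h.d (Sum.inr k) (j (x₁ i)) = 0
    rw [hjx, h.d_x, if_neg (by simp)]
  exact congr($hd a)

/-- The new coordinates vanishing along the section. -/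
def yv (x : ι₀ ⊕ J → H) (j : A₁ →ₐ[A] H) (σ : H →ₐ[A] A₁) (i : J) : H :=
  x (Sum.inr i) - j (σ (x (Sum.inr i)))

theorem σ_yv (j : A₁ →ₐ[A] H) (σ : H →ₐ[A] A₁) (hσj : ∀ a, σ (j a) = a) (i : J) :
    σ (yv x j σ i) = 0 := by
  rw [yv, map_sub, hσj, sub_self]

theorem π_yv (j : A₁ →ₐ[A] H) (σ : H →ₐ[A] A₁) (hπj : ∀ a, π (j a) = π₁ a)
    (hπσ : ∀ s, π₁ (σ s) = π s) (i : J) : π (yv x j σ i) = 0 := by
  rw [yv, map_sub, hπj, hπσ, sub_self]

theorem d_yv [DecidableEq J] (h : IsCoord A π x) (h₁ : IsCoord A π₁ x₁) (j : A₁ →ₐ[A] H)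
    (σ : H →ₐ[A] A₁) (hjx : ∀ i, j (x₁ i) = x (Sum.inl i)) (k i : J) :
    h.d (Sum.inr k) (yv x j σ i) = if k = i then 1 else 0 := by
  classical
  rw [yv, map_sub, d_j h h₁ j hjx, sub_zero, h.d_x]
  simp

theorem isCoord_yv [Fintype ι₀] [DecidableEq ι₀] [Fintype J] [DecidableEq J]
    (h : IsCoord A π x) (h₁ : IsCoord A π₁ x₁) (j : A₁ →ₐ[A] H)
    (σ : H →ₐ[A] A₁) (hjx : ∀ i, j (x₁ i) = x (Sum.inl i)) :
    IsCoord A π (Sum.elim (fun i => x (Sum.inl i)) (yv x j σ)) := by
  refine isCoord_of_det h _ ?_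
  have : (Matrix.of fun i k => h.d i (Sum.elim (fun i => x (Sum.inl i)) (yv x j σ) k)) =
      Matrix.fromBlocks 1 (Matrix.of fun i k => h.d (Sum.inl i) (yv x j σ k)) 0
        (1 : Matrix J J H) := by
    ext i k
    rcases i with i | i <;> rcases k with k | k
    · simp [h.d_x, Matrix.one_apply]
    · simp
    · simp [h.d_x]
    · simp [d_yv h h₁ j σ hjx, Matrix.one_apply]
  rw [this, Matrix.det_fromBlocks_zero₂₁, Matrix.det_one, Matrix.det_one, one_mul]
  exact isUnit_one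

/-- The kernel of the section is generated by the new coordinates. -/
theorem sub_mem [Fintype ι₀] [DecidableEq ι₀] [Fintype J] [DecidableEq J]
    (h : IsCoord A π x) (h₁ : IsCoord A π₁ x₁) (j : A₁ →ₐ[A] H)
    (σ : H →ₐ[A] A₁) (hπs : Function.Surjective π) (hjx : ∀ i, j (x₁ i) = x (Sum.inl i))
    (hσj : ∀ a, σ (j a) = a) (hπj : ∀ a, π (j a) = π₁ a) (hπσ : ∀ s, π₁ (σ s) = π s) (s : H) :
    s - j (σ s) ∈ Ideal.span (Set.range (yv x j σ)) := by
  set I := Ideal.span (Set.range (yv x j σ)) with hI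
  have hH := h.henselianLocalRing
  have hle : I ≤ RingHom.ker π := by
    rw [hI, Ideal.span_le]
    rintro _ ⟨i, rfl⟩
    exact π_yv j σ hπj hπσ i
  have hne : I ≠ ⊤ := fun he => by
    have h1 : (1 : H) ∈ RingHom.ker π := hle (by rw [he]; trivial)
    rw [RingHom.mem_ker, map_one] at h1
    exact one_ne_zero h1
  have hT := henselianLocalRing_quotient H I hne
  let p : H ⧸ I →+* K := Ideal.Quotient.lift I π fun a ha => hle ha
  have hp : ∀ a, p (Ideal.Quotient.mk I a) = π a := fun a => rfl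
  have hps : Function.Surjective p := fun y => by
    obtain ⟨a, rfl⟩ := hπs y
    exact ⟨Ideal.Quotient.mk I a, rfl⟩
  let φ : H →ₐ[A] H ⧸ I := Ideal.Quotient.mkₐ A I
  have hφ : ∀ a, φ a = Ideal.Quotient.mk I a := fun a => rfl
  have h2 : φ = (φ.comp j).comp σ := by
    refine coord_hom_ext (isCoord_yv h h₁ j σ hjx) p hps (RingHom.id K) _ _ (fun i => ?_)
      (fun s => rfl) (fun s => ?_)
    · rcases i with i | i
      · simp only [Sum.elim_inl, AlgHom.comp_apply]
        rw [← hjx, hσj]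
      · simp only [Sum.elim_inr, AlgHom.comp_apply]
        rw [σ_yv j σ hσj, map_zero, map_zero, hφ, Ideal.Quotient.eq_zero_iff_mem]
        exact Ideal.subset_span ⟨i, rfl⟩
    · simp only [AlgHom.comp_apply]
      rw [hφ, hp, hπj, hπσ]
      rfl
  have h3 := congr($h2 s)
  rw [AlgHom.comp_apply, AlgHom.comp_apply, hφ, hφ, Ideal.Quotient.eq] at h3
  exact h3

/-- The Morse expansion. -/
theorem exists_expansion [Fintype ι₀] [DecidableEq ι₀] [Fintype J] [DecidableEq J]
    (h : IsCoord A π x) (h₁ : IsCoord A π₁ x₁) (j : A₁ →ₐ[A] H)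
    (σ : H →ₐ[A] A₁) (hπs : Function.Surjective π) (hjx : ∀ i, j (x₁ i) = x (Sum.inl i))
    (hσj : ∀ a, σ (j a) = a) (hπj : ∀ a, π (j a) = π₁ a) (hπσ : ∀ s, π₁ (σ s) = π s)
    (F : H) (hF : ∀ i : J, σ (h.d (Sum.inr i) F) = 0) :
    ∃ a : J → J → H, F = j (σ F) + ∑ i, ∑ k, a i k * yv x j σ i * yv x j σ k ∧
      ∀ i k, h.d (Sum.inr i) (h.d (Sum.inr k) F) - (a i k + a k i) ∈
        Ideal.span (Set.range (yv x j σ)) := by
  have key : ∀ s : H, s - j (σ s) ∈ Ideal.span (Set.range (yv x j σ)) :=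
    sub_mem h h₁ j σ hπs hjx hσj hπj hπσ
  have key2 : ∀ s : H, σ s = 0 → ∃ c : J → H, ∑ i, c i * yv x j σ i = s := fun s hs => by
    have := key s
    rw [hs, map_zero, sub_zero, Ideal.mem_span_range_iff_exists_fun] at this
    exact this
  obtain ⟨l, hl⟩ := key2 (F - j (σ F)) (by rw [map_sub, hσj, sub_self])
  have hF' : F = j (σ F) + ∑ i, l i * yv x j σ i := by rw [hl]; ring
  have hdF : ∀ k, h.d (Sum.inr k) F = l k + ∑ i, yv x j σ i * h.d (Sum.inr k) (l i) := by
    intro k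
    conv_lhs => rw [hF']
    rw [map_add, d_j h h₁ j hjx, zero_add, map_sum]
    simp only [Derivation.leibniz, smul_eq_mul, d_yv h h₁ j σ hjx, Finset.sum_add_distrib,
      mul_ite, mul_one, mul_zero, Finset.sum_ite_eq, Finset.mem_univ, if_true]
  have hσl : ∀ k, σ (l k) = 0 := fun k => by
    have h2 := hF k
    rw [hdF, map_add, map_sum, Finset.sum_eq_zero (fun i _ => by
      rw [map_mul, σ_yv j σ hσj, zero_mul]), add_zero] at h2
    exact h2
  choose a ha using fun k => key2 (l k) (hσl k)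
  refine ⟨a, ?_, fun i k => ?_⟩
  · conv_lhs => rw [hF']
    congr 1
    refine Finset.sum_congr rfl fun i _ => ?_
    rw [← ha i, Finset.sum_mul]
    refine Finset.sum_congr rfl fun k _ => ?_
    ring
  · set I := Ideal.span (Set.range (yv x j σ)) with hI
    have hy : ∀ m, yv x j σ m ∈ I := fun m => Ideal.subset_span ⟨m, rfl⟩
    have hdl : ∀ i k, h.d (Sum.inr i) (l k) - a k i ∈ I := by
      intro i k
      rw [← ha k, map_sum]
      simp only [Derivation.leibniz, smul_eq_mul, d_yv h h₁ j σ hjx, Finset.sum_add_distrib,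
        mul_ite, mul_one, mul_zero, Finset.sum_ite_eq, Finset.mem_univ, if_true]
      rw [add_sub_cancel_left]
      exact I.sum_mem fun m _ => I.mul_mem_right _ (hy m)
    have h3 : h.d (Sum.inr i) (h.d (Sum.inr k) F) = h.d (Sum.inr i) (l k) +
        (∑ m, yv x j σ m * h.d (Sum.inr i) (h.d (Sum.inr k) (l m)) +
          h.d (Sum.inr k) (l i)) := by
      rw [hdF, map_add, map_sum]
      simp only [Derivation.leibniz, smul_eq_mul, d_yv h h₁ j σ hjx, Finset.sum_add_distrib,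
        mul_ite, mul_one, mul_zero, Finset.sum_ite_eq, Finset.mem_univ, if_true]
    rw [h3]
    have h4 : h.d (Sum.inr i) (l k) + (∑ m, yv x j σ m * h.d (Sum.inr i) (h.d (Sum.inr k) (l m)) +
          h.d (Sum.inr k) (l i)) - (a i k + a k i) =
        (h.d (Sum.inr i) (l k) - a k i) + (h.d (Sum.inr k) (l i) - a i k) +
          ∑ m, yv x j σ m * h.d (Sum.inr i) (h.d (Sum.inr k) (l m)) := by ring
    rw [h4]
    exact I.add_mem (I.add_mem (hdl i k) (hdl k i)) (I.sum_mem fun m _ => I.mul_mem_right _ (hy m))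

end Groth.Agent.Vancyc.H696.Morse
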