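import Groth.Agent.Vancyc.H696.T3
import Groth.Agent.Vancyc.H696.Restrict
import Groth.Agent.Vancyc.H159.FiniteQuot
import Mathlib.LinearAlgebra.Dual.Lemmas

/-!
Weierstrass preparation in degree two.
-/

set_option autoImplicit false
universe u v w

noncomputable section

namespace Groth.Agent.Vancyc.H696.Weier

open TensorProduct IsLocalRing
open Groth.Agent.Ega41.MvPS Groth.Agent.Vancyc.H696.T0 Groth.Agent.Vancyc.H696.T1
open Groth.Agent.Vancyc.H696.T3 Groth.Agent.Vancyc.H696.Coord

/-- Descent of vanishing from the geometric fibre, for modules. -/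
theorem mem_smul_top_of_tmul_eq_zero {A K V : Type u} [CommRing A] [IsLocalRing A] [Field K]
    [Algebra A K] [Algebra (ResidueField A) K] [IsScalarTower A (ResidueField A) K]
    [AddCommGroup V] [Module A V] (z : V) (h : (1 ⊗ₜ[A] z : K ⊗[A] V) = 0) :
    z ∈ (maximalIdeal A) • (⊤ : Submodule A V) := by
  rw [← Submodule.Quotient.mk_eq_zero]
  let _ : Module (ResidueField A) (V ⧸ (maximalIdeal A) • (⊤ : Submodule A V)) :=
    inferInstanceAs (Module (A ⧸ maximalIdeal A) (V ⧸ (maximalIdeal A) • (⊤ : Submodule A V)))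
  have hsm : ∀ (a : A) (n : V),
      (Submodule.Quotient.mk (a • n) : V ⧸ (maximalIdeal A) • (⊤ : Submodule A V)) =
        residue A a • Submodule.Quotient.mk n := fun a n => rfl
  rw [← Module.forall_dual_apply_eq_zero_iff (ResidueField A)]
  intro φ
  let ψ : V →ₗ[A] K :=
    { toFun := fun v => algebraMap (ResidueField A) K (φ (Submodule.Quotient.mk v))
      map_add' := fun v w => by rw [Submodule.Quotient.mk_add, map_add, map_add]
      map_smul' := fun a v => by
        rw [hsm, map_smul, smul_eq_mul, map_mul, RingHom.id_apply, Algebra.smul_def,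
          IsScalarTower.algebraMap_apply A (ResidueField A) K]
        rfl }
  let B : K →ₗ[A] V →ₗ[A] K :=
    LinearMap.mk₂ A (fun c v => c * ψ v) (fun c c' v => by ring) (fun a c v => by simp)
      (fun c v v' => by rw [map_add]; ring) (fun a c v => by simp)
  have h1 : TensorProduct.lift B (1 ⊗ₜ[A] z) = ψ z := by
    simp [B]
  rw [h, map_zero] at h1
  have h2 : algebraMap (ResidueField A) K (φ (Submodule.Quotient.mk z)) = 0 := h1.symm
  exact (map_eq_zero _).1 h2

section Main

variable {A K κ H : Type u} [CommRing A] [HenselianLocalRing A] [Field K] [Field κ] [CommRing H]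
  [Algebra A K] [Algebra (ResidueField A) K] [IsScalarTower A (ResidueField A) K] [Algebra A H]
  {π : H →+* κ} {t : H}

/-- Abstract version: a finite quotient of `K ⊗ H` killing `g` is spanned by `1` and `t`. -/
theorem exists_lin_abs (h : IsCoord A π (fun _ : Unit => t)) (q : ℕ) [ExpChar K q]
    (hpi : ∀ c : K, ∃ (e : ℕ) (a : A), c ^ q ^ e = algebraMap A K a)
    (T : H →ₐ[A] MvPowerSeries Unit K)
    (hTt : T t = MvPowerSeries.C (MvPowerSeries.constantCoeff (T t)) + MvPowerSeries.X ())
    (hTu : ∀ z, MvPowerSeries.constantCoeff (T z) ≠ 0 → IsUnit z)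
    (g : H) (s : MvPowerSeries Unit K) (hs : MvPowerSeries.constantCoeff s ≠ 0)
    (hg : T g = s * MvPowerSeries.X () ^ 2)
    {R : Type u} [CommRing R] [Algebra K R] [IsNoetherianRing R] (Q : K ⊗[A] H →ₐ[K] R)
    (hQs : Function.Surjective Q) (hQg : Q (1 ⊗ₜ g) = 0) (y : R) :
    ∃ α β : K, y = algebraMap K R α + algebraMap K R β * Q (1 ⊗ₜ t) := by
  let _ : Algebra (MvPolynomial Unit A) H := algX (A := A) (fun _ : Unit => t)
  have : IsScalarTower A (MvPolynomial Unit A) H := towerX (A := A) (fun _ : Unit => t)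
  have hfe : Algebra.FormallyEtale (MvPolynomial Unit A) H := h.formallyEtale
  have haX : ∀ i, algebraMap (MvPolynomial Unit A) H (MvPolynomial.X i) = t := by
    intro i
    rw [algebraMap_algX, MvPolynomial.aeval_X]
  have hT : ∀ i, T (algebraMap (MvPolynomial Unit A) H (MvPolynomial.X i)) =
    MvPowerSeries.C (MvPowerSeries.constantCoeff
      (T (algebraMap (MvPolynomial Unit A) H (MvPolynomial.X i)))) + MvPowerSeries.X i := by
    intro i
    rw [haX]
    exact hTt
  -- units
  have hunit : ∀ y : K ⊗[A] H, MvPowerSeries.constantCoeff (TW T y) ≠ 0 → IsUnit y := by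
    intro y hy
    obtain ⟨e, z, hz⟩ := exists_pow_eq q hpi y
    have h1 : MvPowerSeries.constantCoeff (T z) ≠ 0 := by
      rw [← TW_one_tmul T z, ← hz, map_pow, map_pow]
      exact pow_ne_zero _ hy
    have h3 : IsUnit (y ^ q ^ e) := by
      rw [hz]
      exact (hTu z h1).map (Algebra.TensorProduct.includeRight (R := A) (A := K) (B := H))
    exact (isUnit_pow_iff (pow_pos (expChar_pos K q) e).ne').1 h3
  let Qr : K ⊗[A] H →+* R := Q
  have hQr : ∀ z, Qr z = Q z := fun z => rfl
  let w : Ideal R := (pt (TW T)).map Qr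
  have hw : ∀ y, y ∈ w ↔ ∃ y' ∈ pt (TW T), Q y' = y := fun y =>
    Ideal.mem_map_iff_of_surjective Qr hQs
  have hjac : w ≤ Ideal.jacobson ⊥ := by
    intro y hy
    obtain ⟨y', hy', rfl⟩ := (hw y).1 hy
    rw [Ideal.mem_jacobson_bot]
    intro z
    obtain ⟨z', rfl⟩ := hQs z
    rw [← map_mul, ← map_one Q, ← map_add]
    refine (hunit _ ?_).map Q
    rw [map_add, map_mul, map_add, map_mul, (mem_pt _ _).1 hy', zero_mul, zero_add, map_one,
      map_one]
    exact one_ne_zero
  let u : K ⊗[A] H := uW T ()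
  have hu : TW T u = MvPowerSeries.X () := TW_uW T hT ()
  have hu' : u = 1 ⊗ₜ t - algebraMap K _ (MvPowerSeries.constantCoeff (T t)) := by
    change uW T () = _
    rw [uW, haX]
  have hw1 : w ≤ Ideal.span {Q u} ⊔ w • w := by
    have h1 := Ideal.map_mono (f := Qr) (pt_le T)
    rw [Ideal.map_sup, Ideal.map_pow, Ideal.map_span, pow_two] at h1
    have h2 : Qr '' Set.range (uW T) = {Q u} := by
      rw [Set.range_unique, Set.image_singleton]
      rfl
    rw [h2] at h1
    exact h1
  have hw2 : w ≤ Ideal.span {Q u} :=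
    Submodule.le_of_le_smul_of_le_jacobson_bot (IsNoetherian.noetherian w) hjac hw1
  -- `u ^ 2 = 0`
  have husq : Q u ^ 2 = 0 := by
    obtain ⟨t', ht', h1⟩ := krull (⊥ : Ideal R) w (Q u ^ 2) (by
      intro r
      rw [bot_sup_eq]
      obtain ⟨s', hs'⟩ : ∃ s', s' * s = 1 := by
        have : IsUnit s := by
          rw [MvPowerSeries.isUnit_iff_constantCoeff, isUnit_iff_ne_zero]
          exact hs
        exact this.exists_left_inv
      have h2 := sub_truncTotal_mem r s'
      generalize MvPowerSeries.truncTotal r s' = p at h2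
      have h3 : u ^ 2 - MvPolynomial.aeval (uW T) p * (1 ⊗ₜ g) ∈ pt (TW T) ^ r := by
        rw [mem_pt_pow_iff T hT, map_sub, map_mul, map_pow, hu, TW_one_tmul,
          θ_aeval (TW_uW T hT), hg]
        have h4 : MvPowerSeries.X () ^ 2 - (p : MvPowerSeries Unit K) *
            (s * MvPowerSeries.X () ^ 2) =
            (s' - (p : MvPowerSeries Unit K)) * (s * MvPowerSeries.X () ^ 2) := by
          rw [sub_mul, ← mul_assoc s', hs', one_mul]
        rw [h4]
        exact Ideal.mul_mem_right _ _ h2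
      have h5 := Ideal.mem_map_of_mem Qr h3
      rw [Ideal.map_pow] at h5
      have h6 : Qr (u ^ 2 - MvPolynomial.aeval (uW T) p * (1 ⊗ₜ g)) = Q u ^ 2 := by
        rw [map_sub, map_mul, hQr (1 ⊗ₜ g), hQg, mul_zero, sub_zero, map_pow]
        rfl
      rw [h6] at h5
      exact h5)
    rw [Ideal.mem_bot] at h1
    have h2 : IsUnit (1 - t') := by
      have h3 := hjac ht'
      rw [Ideal.mem_jacobson_bot] at h3
      have h4 := h3 (-1)
      rwa [mul_neg_one, neg_add_eq_sub] at h4
    exact (h2.mul_right_eq_zero).1 h1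
  -- expansion
  have hexp : ∀ y : R, ∃ (c : K) (y' : R), y = algebraMap K _ c + Q u * y' := by
    intro y
    obtain ⟨z, rfl⟩ := hQs y
    have h1 := T0.exists_const (TW T) z
    have h2 : Q (z - algebraMap K _ (MvPowerSeries.constantCoeff (TW T z))) ∈ w :=
      (hw _).2 ⟨_, h1, rfl⟩
    obtain ⟨y', hy'⟩ := Ideal.mem_span_singleton'.1 (hw2 h2)
    refine ⟨MvPowerSeries.constantCoeff (TW T z), y', ?_⟩
    rw [mul_comm, hy', map_sub, AlgHom.commutes]
    ring
  obtain ⟨c, y', hy'⟩ := hexp y
  obtain ⟨c', y'', hy''⟩ := hexp y'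
  have h1 : y = algebraMap K _ c + algebraMap K _ c' * Q u := by
    rw [hy', hy'']
    linear_combination y'' * husq
  have h2 : Q u = Q (1 ⊗ₜ t) - algebraMap K _ (MvPowerSeries.constantCoeff (T t)) := by
    rw [hu', map_sub, AlgHom.commutes]
  refine ⟨c - c' * MvPowerSeries.constantCoeff (T t), c', ?_⟩
  rw [h1, h2, map_sub, map_mul]
  ring

theorem tensor_noeth {A K M : Type u} [CommRing A] [Field K] [CommRing M] [Algebra A K]
    [Algebra A M] [Module.Finite A M] : IsNoetherianRing (K ⊗[A] M) :=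
  Algebra.FiniteType.isNoetherianRing K _

theorem map_surj {A K H M : Type u} [CommRing A] [Field K] [CommRing H] [CommRing M] [Algebra A K]
    [Algebra A H] [Algebra A M] (μ : H →ₐ[A] M) (hμ : Function.Surjective μ) :
    Function.Surjective (Algebra.TensorProduct.map (AlgHom.id K K) μ) := by
  intro y
  induction y with
  | zero => exact ⟨0, map_zero _⟩
  | add y y' hy hy' =>
    obtain ⟨z, rfl⟩ := hy
    obtain ⟨z', rfl⟩ := hy'
    exact ⟨z + z', map_add _ _ _⟩
  | tmul c r =>
    obtain ⟨z, rfl⟩ := hμ r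
    exact ⟨c ⊗ₜ z, by simp⟩

/-- `1` and `t` generate. -/
theorem span_eq_top (h : IsCoord A π (fun _ : Unit => t)) (q : ℕ) [ExpChar K q]
    (hpi : ∀ c : K, ∃ (e : ℕ) (a : A), c ^ q ^ e = algebraMap A K a)
    (T : H →ₐ[A] MvPowerSeries Unit K)
    (hTt : T t = MvPowerSeries.C (MvPowerSeries.constantCoeff (T t)) + MvPowerSeries.X ())
    (hTu : ∀ z, MvPowerSeries.constantCoeff (T z) ≠ 0 → IsUnit z)
    (g : H) (s : MvPowerSeries Unit K) (hs : MvPowerSeries.constantCoeff s ≠ 0)
    (hg : T g = s * MvPowerSeries.X () ^ 2)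
    {M : Type u} [CommRing M] [Algebra A M] [Module.Finite A M] (μ : H →ₐ[A] M)
    (hμ : Function.Surjective μ) (hμg : μ g = 0) :
    Submodule.span A {1, μ t} = (⊤ : Submodule A M) := by
  have hN : IsNoetherianRing (K ⊗[A] M) := tensor_noeth
  have key : ∀ r : M, ∃ α β : K, (1 ⊗ₜ[A] r : K ⊗[A] M) = α ⊗ₜ 1 + β ⊗ₜ μ t := by
    intro r
    obtain ⟨α, β, h1⟩ := exists_lin_abs h q hpi T hTt hTu g s hs hg
      (Algebra.TensorProduct.map (AlgHom.id K K) μ) (map_surj μ hμ) (by
        rw [Algebra.TensorProduct.map_tmul, hμg, tmul_zero]) (1 ⊗ₜ r)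
    refine ⟨α, β, h1.trans ?_⟩
    rw [Algebra.TensorProduct.map_tmul, AlgHom.id_apply]
    have h3 : algebraMap K (K ⊗[A] M) β = β ⊗ₜ 1 := rfl
    have h4 : algebraMap K (K ⊗[A] M) α = α ⊗ₜ 1 := rfl
    rw [h3, h4, Algebra.TensorProduct.tmul_mul_tmul, mul_one, one_mul]
  let N : Submodule A M := Submodule.span A {1, μ t}
  have h1N : (1 : M) ∈ N := Submodule.subset_span (by simp)
  have h2N : μ t ∈ N := Submodule.subset_span (by simp)
  have h1 : ∀ r' : M ⧸ N, r' ∈ (maximalIdeal A) • (⊤ : Submodule A (M ⧸ N)) := by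
    intro r'
    apply mem_smul_top_of_tmul_eq_zero (K := K)
    obtain ⟨r, rfl⟩ := Submodule.mkQ_surjective N r'
    obtain ⟨α, β, hr⟩ := key r
    have h2 := congrArg (LinearMap.lTensor K N.mkQ) hr
    rw [map_add, LinearMap.lTensor_tmul, LinearMap.lTensor_tmul, LinearMap.lTensor_tmul,
      Submodule.mkQ_apply, Submodule.mkQ_apply, Submodule.mkQ_apply, (Submodule.Quotient.mk_eq_zero N).2 h1N, (Submodule.Quotient.mk_eq_zero N).2 h2N, tmul_zero,
      tmul_zero, add_zero] at h2
    exact h2
  have h2 : (⊤ : Submodule A (M ⧸ N)) = ⊥ :=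
    Submodule.eq_bot_of_le_smul_of_le_jacobson_bot _ _ Module.Finite.fg_top (fun r _ => h1 r)
      (IsLocalRing.jacobson_eq_maximalIdeal ⊥ bot_ne_top).ge
  have h3 : Subsingleton (M ⧸ N) := (Submodule.subsingleton_iff A).1
    (subsingleton_of_top_le_bot h2.le)
  exact (Submodule.Quotient.subsingleton_iff).1 h3

theorem coeffs_of_eq_zero {K : Type u} [Field K] (α β : K) (S : MvPowerSeries Unit K)
    (h : MvPowerSeries.C α + MvPowerSeries.C β * MvPowerSeries.X () +
      S * MvPowerSeries.X () ^ 2 = 0) : β = 0 ∧ MvPowerSeries.constantCoeff S = 0 := by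
  classical
  have h2 := MvPowerSeries.coeff_add_mul_monomial (0 : Unit →₀ ℕ) (Finsupp.single () 2) S (1 : K)
  rw [zero_add, mul_one] at h2
  have h3 : MvPowerSeries.coeff (Finsupp.single () 1)
      (S * MvPowerSeries.monomial (Finsupp.single () 2) 1) = 0 := by
    rw [MvPowerSeries.coeff_mul_monomial, if_neg]
    intro h4
    have := h4 ()
    simp at this
  have h4 : MvPowerSeries.coeff (Finsupp.single () 2) (MvPowerSeries.X () : MvPowerSeries Unit K) =
      0 := by
    rw [MvPowerSeries.coeff_X, if_neg]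
    intro h5
    have := congr($h5 ())
    simp at this
  constructor
  · have hc1 := congrArg (MvPowerSeries.coeff (Finsupp.single () 1)) h
    rw [MvPowerSeries.X_pow_eq, map_add, map_add, h3, MvPowerSeries.coeff_C_mul,
      MvPowerSeries.coeff_index_single_self_X, MvPowerSeries.coeff_C, if_neg (by simp), map_zero,
      zero_add, add_zero, mul_one] at hc1
    exact hc1
  · have hc1 := congrArg (MvPowerSeries.coeff (Finsupp.single () 2)) h
    rw [MvPowerSeries.X_pow_eq, map_add, map_add, h2, MvPowerSeries.coeff_C_mul,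
      h4, MvPowerSeries.coeff_C, if_neg (by simp), map_zero,
      mul_zero, add_zero, zero_add] at hc1
    exact hc1

/-- **Weierstrass preparation in degree two, residue characteristic two.** -/
theorem exists_weier [CharP K 2] (h : IsCoord A π (fun _ : Unit => t)) (j : κ →+* K)
    (hj : ∀ a, j (π (algebraMap A H a)) = algebraMap A K a)
    (hs' : Function.Surjective fun p : MvPolynomial Unit A =>
      π (MvPolynomial.aeval (fun _ => t) p)) (q : ℕ) [ExpChar K q]
    (hpi : ∀ c : K, ∃ (e : ℕ) (a : A), c ^ q ^ e = algebraMap A K a)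
    (T : H →ₐ[A] MvPowerSeries Unit K)
    (hTt : T t = MvPowerSeries.C (MvPowerSeries.constantCoeff (T t)) + MvPowerSeries.X ())
    (hTc : ∀ z, MvPowerSeries.constantCoeff (T z) = j (π z))
    (g : H) (s : MvPowerSeries Unit K) (hs : MvPowerSeries.constantCoeff s ≠ 0)
    (hg : T g = s * MvPowerSeries.X () ^ 2) :
    ∃ (b c : A) (v : H), b ∈ maximalIdeal A ∧ IsUnit v ∧
      t ^ 2 + algebraMap A H b * t + algebraMap A H c = v * g := by
  have hTu : ∀ z, MvPowerSeries.constantCoeff (T z) ≠ 0 → IsUnit z := by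
    intro z hz
    refine h.isUnit_of_ne_zero z ?_
    intro h1
    apply hz
    rw [hTc, h1, map_zero]
  have hmK : ∀ a, algebraMap A K a = 0 ↔ a ∈ maximalIdeal A := by
    intro a
    rw [IsScalarTower.algebraMap_apply A (ResidueField A) K, map_eq_zero]
    exact residue_eq_zero_iff a
  have hm : ∀ a ∈ maximalIdeal A, π (algebraMap A H a) = 0 := by
    intro a ha
    apply j.injective
    rw [hj, map_zero]
    exact (hmK a).2 ha
  have hK : ∀ y : κ, ∃ p : Polynomial A, p.Monic ∧
      p.eval₂ (π.comp (algebraMap A H)) y = 0 := by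
    intro y
    obtain ⟨e, a, ha⟩ := hpi (j y)
    have hne : q ^ e ≠ 0 := (pow_pos (expChar_pos K q) e).ne'
    refine ⟨Polynomial.X ^ q ^ e - Polynomial.C a, Polynomial.monic_X_pow_sub_C a hne, ?_⟩
    rw [Polynomial.eval₂_sub, Polynomial.eval₂_X_pow, Polynomial.eval₂_C, sub_eq_zero]
    apply j.injective
    rw [map_pow, ha]
    exact (hj a).symm
  have hg0 : T g ≠ 0 := by
    intro h0
    rw [h0] at hg
    have h1 := congrArg (MvPowerSeries.coeff (Finsupp.single () 2)) hg
    have h2 := MvPowerSeries.coeff_add_mul_monomial (0 : Unit →₀ ℕ) (Finsupp.single () 2) s (1 : K)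
    rw [zero_add, mul_one] at h2
    rw [MvPowerSeries.X_pow_eq, h2, map_zero] at h1
    exact hs h1.symm
  have hgm : g ∉ (maximalIdeal A).map (algebraMap A H) := by
    intro hgm
    apply hg0
    have h1 : (maximalIdeal A).map (algebraMap A H) ≤ RingHom.ker T := by
      rw [Ideal.map_le_iff_le_comap]
      intro a ha
      change T (algebraMap A H a) = 0
      rw [T.commutes, MvPowerSeries.algebraMap_apply, (hmK a).2 ha, map_zero]
    exact h1 hgm
  have hgπ : π g = 0 := by
    apply j.injective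
    rw [← hTc, hg, map_mul, map_pow, MvPowerSeries.constantCoeff_X, map_zero]
    ring
  have hfin := Groth.Agent.Vancyc.H159.FiniteQuot.finite_quotient A h hm hK hs' g hgm hgπ
  have htop := span_eq_top h q hpi T hTt hTu g s hs hg (Ideal.Quotient.mkₐ A (Ideal.span {g}))
    (Ideal.Quotient.mkₐ_surjective _ _)
    (Ideal.Quotient.eq_zero_iff_mem.2 (Ideal.mem_span_singleton_self g))
  have h1 : (Ideal.Quotient.mkₐ A (Ideal.span {g}) t) ^ 2 ∈
      Submodule.span A {1, Ideal.Quotient.mkₐ A (Ideal.span {g}) t} := by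
    rw [htop]
    exact Submodule.mem_top
  obtain ⟨x, y, hxy⟩ := Submodule.mem_span_pair.1 h1
  have h2 : t ^ 2 + algebraMap A H (-y) * t + algebraMap A H (-x) ∈ Ideal.span {g} := by
    rw [← Ideal.Quotient.eq_zero_iff_mem, map_add, map_add, map_mul, map_pow]
    have h3 : ∀ a : A, Ideal.Quotient.mk (Ideal.span {g}) (algebraMap A H a) =
      algebraMap A _ a := fun a => rfl
    rw [h3, h3, map_neg, map_neg]
    change _ = (Ideal.Quotient.mk (Ideal.span {g}) t) ^ 2 at hxy
    rw [← hxy, Algebra.smul_def, Algebra.smul_def]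
    change algebraMap A _ x * 1 + algebraMap A _ y * Ideal.Quotient.mk (Ideal.span {g}) t +
      -algebraMap A _ y * Ideal.Quotient.mk (Ideal.span {g}) t + -algebraMap A _ x = 0
    ring
  obtain ⟨v, hv⟩ := Ideal.mem_span_singleton'.1 h2
  refine ⟨-y, -x, v, ?_, ?_, hv.symm⟩
  all_goals
    have h4 := congrArg T hv
    rw [map_mul, hg, map_add, map_add, map_mul, map_pow, T.commutes, T.commutes,
      MvPowerSeries.algebraMap_apply, MvPowerSeries.algebraMap_apply, hTt] at h4
    set c₀ : K := MvPowerSeries.constantCoeff (T t)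
    set b₀ : K := algebraMap A K (-y)
    set a₀ : K := algebraMap A K (-x)
    have hc2 : (MvPowerSeries.C c₀ : MvPowerSeries Unit K) + MvPowerSeries.C c₀ = 0 := by
      rw [← map_add, CharTwo.add_self_eq_zero, map_zero]
    have h5 : MvPowerSeries.C (c₀ ^ 2 + b₀ * c₀ + a₀) + MvPowerSeries.C b₀ * MvPowerSeries.X () +
        (1 - T v * s) * MvPowerSeries.X () ^ 2 = 0 := by
      rw [map_add, map_add, map_mul, map_pow]
      linear_combination (-1 : MvPowerSeries Unit K) * h4 - MvPowerSeries.X () * hc2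
    obtain ⟨hc1, hc3⟩ := coeffs_of_eq_zero _ _ _ h5
  · exact (hmK _).1 hc1
  · rw [map_sub, map_one, map_mul, sub_eq_zero] at hc3
    refine hTu v fun h0 => ?_
    rw [h0, zero_mul] at hc3
    exact one_ne_zero hc3

end Main

end Groth.Agent.Vancyc.H696.Weier
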