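import Groth.Agent.Vancyc.H696.Curve
import Groth.Agent.Vancyc.H696.Lin
import Groth.Agent.Vancyc.H696.Weier
import Groth.Agent.Vancyc.H696.Deg
import Groth.Agent.Vancyc.H686.NormalForm

/-!
The normal form of an ordinary quadratic equation in the hull, residue characteristic two, even dimension.
-/

set_option autoImplicit false
universe u v w

noncomputable section

namespace Groth.Agent.Vancyc.H696.NFH

open TensorProduct IsLocalRing VanCyc Matrix
open Groth.Agent.Vancyc.H696.HullAt Groth.Agent.Vancyc.H696.Coord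
open Groth.Agent.Vancyc.H696.Taylor Groth.Agent.Vancyc.H696.Restrict
open Groth.Agent.Vancyc.H694.StdT

/-- The Hessian minor. -/
theorem isUnit_hessian {A H K κ : Type u} [CommRing A] [CommRing H] [Field K] [Field κ]
    [Algebra A H] {N : ℕ} {π' : H →+* κ} {x : Fin N → H} (h : IsCoord A π' x) (j : κ →+* K)
    {T : H →+* MvPowerSeries (Fin N) K} (hT : IsTaylor A (j.comp π') x T) (F : H) {J : Type}
    [Fintype J] [DecidableEq J] (ε : J → Fin N)
    (hdet : IsUnit (Matrix.of fun i k : J => polarMatrix (quadPart (T F)) (ε i) (ε k)).det) :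
    IsUnit (Matrix.of fun i k : J => h.d (ε i) (h.d (ε k) F)).det := by
  refine h.isUnit_of_ne_zero _ fun h0 => ?_
  have h1 : j (π' (Matrix.of fun i k : J => h.d (ε i) (h.d (ε k) F)).det) =
      (Matrix.of fun i k : J => polarMatrix (quadPart (T F)) (ε i) (ε k)).det := by
    change (j.comp π') _ = _
    rw [RingHom.map_det, ← Matrix.det_transpose]
    congr 1
    ext i k
    rw [Matrix.transpose_apply, RingHom.mapMatrix_apply, Matrix.map_apply, Matrix.of_apply,
      Matrix.of_apply, ← hT.const, map_d' h hT, map_d' h hT, Curve.constantCoeff_pderiv_pderiv]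
  rw [h0, map_zero] at h1
  exact hdet.ne_zero h1.symm

/-- The index equivalence. -/
def idx {N : ℕ} (i₀ : Fin (N + 1)) : Unit ⊕ Fin N ≃ Fin (N + 1) :=
  (Equiv.sumComm Unit (Fin N)).trans
    ((Equiv.optionEquivSumPUnit (Fin N)).symm.trans (finSuccEquiv' i₀).symm)

theorem idx_inl {N : ℕ} (i₀ : Fin (N + 1)) : idx i₀ (Sum.inl ()) = i₀ := by
  simp [idx]

theorem idx_inr {N : ℕ} (i₀ : Fin (N + 1)) (i : Fin N) : idx i₀ (Sum.inr i) = i₀.succAbove i := by
  simp [idx]

/-- **The normal form in the hull.** -/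
theorem exists_normal {A H K κ : Type u} [CommRing A] [HenselianLocalRing A] [CommRing H]
    [Field K] [IsAlgClosed K] [CharP K 2] [Field κ] [Algebra A H] [Algebra A K]
    [Algebra (ResidueField A) K] [IsScalarTower A (ResidueField A) K] (m : ℕ)
    {π' : H →+* κ} {x : Fin (2 * m + 1) → H} (h : IsCoord A π' x) (j : κ →+* K)
    (hj : ∀ a, j (π' (algebraMap A H a)) = algebraMap A K a) (hπs : Function.Surjective π')
    (hpi : ∀ c : K, ∃ (e : ℕ) (a : A), c ^ 2 ^ e = algebraMap A K a)
    {T : H →+* MvPowerSeries (Fin (2 * m + 1)) K} (hT : IsTaylor A (j.comp π') x T) (F : H)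
    (hF : OrdQuadSeries (T F)) :
    ∃ (i₀ : Fin (2 * m + 1)) (b c : A) (V : H) (z : Fin (2 * m) → H), b ∈ maximalIdeal A ∧
      IsUnit V ∧ (∀ i, π' (z i) = 0) ∧
      V * F = x i₀ ^ 2 + algebraMap A H b * x i₀ + algebraMap A H c +
        ∑ i : Fin m, z (lo m i) * z (hi m i) ∧
      IsCoord A π' (Sum.elim (fun _ : Unit => x i₀) z) := by
  classical
  have : Fact (Nat.Prime 2) := ⟨Nat.prime_two⟩
  have : ExpChar K 2 := ExpChar.prime Nat.prime_two
  have hκ2 : ExpChar κ 2 := j.expChar j.injective 2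
  have h2K : (2 : K) = 0 := CharTwo.two_eq_zero
  have hHloc : HenselianLocalRing H := h.henselianLocalRing
  -- residue fields
  have hpi' : ∀ y : κ, ∃ (e : ℕ) (a : A), y ^ 2 ^ e = π' (algebraMap A H a) := by
    intro y
    obtain ⟨e, a, ha⟩ := hpi (j y)
    refine ⟨e, a, j.injective ?_⟩
    rw [map_pow, ha, hj]
  have hs : Function.Surjective fun p : MvPolynomial (Fin (2 * m + 1)) A =>
      π' (MvPolynomial.aeval x p) := by
    intro y
    obtain ⟨s, rfl⟩ := hπs y
    obtain ⟨r, hr⟩ := exists_residue_eq h.hull 2 (fun y => by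
      obtain ⟨e, a, ha⟩ := hpi' y
      refine ⟨e, MvPolynomial.C a, ?_⟩
      rw [ha]
      change _ = π' (MvPolynomial.aeval x (MvPolynomial.C a))
      rw [MvPolynomial.aeval_C]) s
    exact ⟨r, hr.symm⟩
  -- the index
  obtain ⟨i₀, hi₀⟩ := Deg.exists_index h2K m hF.2
  let ε := idx i₀
  have hw : IsCoord A π' (fun i => x (ε i)) := isCoord_reindex h ε
  have hwd : ∀ i s, hw.d i s = h.d (ε i) s := fun i s => d_reindex h ε i s
  have hws : Function.Surjective fun p : MvPolynomial (Unit ⊕ Fin (2 * m)) A =>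
      π' (MvPolynomial.aeval (fun i => x (ε i)) p) := by
    intro y
    obtain ⟨p, hp⟩ := hs y
    refine ⟨MvPolynomial.rename ε.symm p, ?_⟩
    change π' (MvPolynomial.aeval _ (MvPolynomial.rename ε.symm p)) = y
    have h3 : (fun i => x (ε i)) ∘ ε.symm = x := by
      funext i
      simp
    rw [MvPolynomial.aeval_rename, h3]
    exact hp
  have hdπ : ∀ i, π' (h.d i F) = 0 := by
    intro i
    apply j.injective
    rw [map_zero]
    change (j.comp π') _ = 0
    rw [← hT.const, map_d' h hT]
    exact Curve.constantCoeff_pderiv _ hF.1 i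
  have hdet : IsUnit (Matrix.of fun i k : Fin (2 * m) =>
      hw.d (Sum.inr i) (hw.d (Sum.inr k) F)).det := by
    have h1 := isUnit_hessian h j hT F (fun i : Fin (2 * m) => ε (Sum.inr i)) (by
      simp only [ε, idx_inr]
      exact hi₀)
    simpa only [hwd] using h1
  obtain ⟨H₁, _, _, π₁, x₁, jj, σ, h₁, hs₁, hjx, hσj, hπj, hπσ, hcrit⟩ :=
    Section.exists_section hw hws 2 hpi' F (fun i => by rw [hwd]; exact hdπ _) hdet
  obtain ⟨a, ha, hda⟩ := Morse.exists_expansion hw h₁ jj σ hπs hjx hσj hπj hπσ F hcrit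
  -- the curve
  have hx₁ : x₁ = fun _ : Unit => x₁ () := by
    funext i
    rfl
  have h₁' : IsCoord A π₁ (fun _ : Unit => x₁ ()) := by
    rw [← hx₁]
    exact h₁
  obtain ⟨T₁, hT₁⟩ := exists_taylor' h₁ j
  have hjA₁ : ∀ a, j (π₁ (algebraMap A H₁ a)) = algebraMap A K a := by
    intro a
    rw [← σ.commutes, hπσ, hj]
  let T₁' : H₁ →ₐ[A] MvPowerSeries Unit K :=
    { toRingHom := T₁
      commutes' := fun a => by
        change T₁ (algebraMap A H₁ a) = _
        rw [hT₁.alg, MvPowerSeries.algebraMap_apply]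
        congr 1
        exact hjA₁ a }
  have hT₁' : ∀ z, T₁' z = T₁ z := fun z => rfl
  let T' : H →ₐ[A] MvPowerSeries (Fin (2 * m + 1)) K :=
    { toRingHom := T
      commutes' := fun a => by
        change T (algebraMap A H a) = _
        rw [hT.alg, MvPowerSeries.algebraMap_apply]
        congr 1
        exact hj a }
  have hT' : ∀ z, T' z = T z := fun z => rfl
  obtain ⟨s, hs1, hs2⟩ : ∃ s, T₁' (σ F) = s * MvPowerSeries.X () ^ 2 ∧
      MvPowerSeries.constantCoeff s ≠ 0 := by
    let _ : Algebra (MvPolynomial (Fin (2 * m + 1)) A) H := algX (A := A) x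
    have : IsScalarTower A (MvPolynomial (Fin (2 * m + 1)) A) H := towerX (A := A) x
    have hfe : Algebra.FormallyEtale (MvPolynomial (Fin (2 * m + 1)) A) H := h.formallyEtale
    have haX : ∀ i, algebraMap (MvPolynomial (Fin (2 * m + 1)) A) H (MvPolynomial.X i) = x i := by
      intro i
      rw [algebraMap_algX, MvPolynomial.aeval_X]
    refine Curve.exists_sq T' (T₁'.comp σ) ?_ ?_ F (fun i => h.d i F) (fun i => map_d' h hT i F)
      hF i₀ ?_ ?_
    · intro z
      change MvPowerSeries.constantCoeff (T₁ (σ z)) = MvPowerSeries.constantCoeff (T z)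
      rw [hT₁.const, hT.const]
      change j (π₁ (σ z)) = j (π' z)
      rw [hπσ]
    · intro i
      rw [haX, hT', hT.map_x, map_add, MvPowerSeries.constantCoeff_C,
        MvPowerSeries.constantCoeff_X, add_zero]
    · rw [Psi.β, haX]
      change MvPowerSeries.coeff _ (T₁ (σ (x i₀))) = 1
      have h3 : x i₀ = jj (x₁ ()) := by
        rw [hjx]
        simp only [ε, idx_inl]
      rw [h3, hσj, hT₁.map_x, map_add, MvPowerSeries.coeff_C, if_neg (by simp), zero_add,
        MvPowerSeries.coeff_index_single_self_X]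
    · intro i hi
      obtain ⟨i', hi'⟩ := Fin.exists_succAbove_eq hi
      have h3 := hcrit i'
      rw [hwd] at h3
      simp only [ε, idx_inr] at h3
      rw [hi'] at h3
      change T₁' (σ (h.d i F)) = 0
      rw [h3, map_zero]
  obtain ⟨b, c, v, hb, hv, hbc⟩ := Weier.exists_weier h₁' j hjA₁ (by
    rw [← hx₁]
    exact hs₁) 2 hpi T₁' (by
      rw [hT₁', hT₁.map_x, map_add, MvPowerSeries.constantCoeff_C,
        MvPowerSeries.constantCoeff_X, add_zero]) (fun z => hT₁.const z) (σ F) s hs2 hs1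
  have hxi : jj (x₁ ()) = x i₀ := by
    rw [hjx]
    simp only [ε, idx_inl]
  -- splitting
  set y := Morse.yv (fun i => x (ε i)) jj σ with hy
  have hyπ : ∀ i, π' (y i) = 0 := Morse.π_yv jj σ hπj hπσ
  have hycoord : IsCoord A π' (Sum.elim (fun i : Unit => x (ε (Sum.inl i))) y) :=
    Morse.isCoord_yv hw h₁ jj σ hjx
  have hspan : ∀ s ∈ Ideal.span (Set.range y), π' s = 0 := by
    intro s hs
    have : Ideal.span (Set.range y) ≤ RingHom.ker π' := by
      rw [Ideal.span_le]
      rintro _ ⟨i, rfl⟩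
      exact hyπ i
    exact this hs
  have hVu : IsUnit (jj v) := hv.map jj
  have hsep : IsSepClosed (ResidueField H) := by
    refine isSepClosed_of_pow (K := K) (κ := ResidueField H)
      (j.comp (Ideal.Quotient.lift (maximalIdeal H) π'
        (fun a ha => (h.mem_maximalIdeal_iff a).1 ha))) 2 (fun y => ?_)
    obtain ⟨e, a, ha⟩ := hpi y
    refine ⟨e, residue H (algebraMap A H a), ?_⟩
    rw [ha, ← hj]
    rfl
  have hdet2 : IsUnit ((jj v • Matrix.of a) + (jj v • Matrix.of a)ᵀ).det := by
    rw [Matrix.transpose_smul, ← smul_add, Matrix.det_smul]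
    refine (hVu.pow _).mul ?_
    refine h.isUnit_of_ne_zero _ ?_
    have h3 : π' (Matrix.of a + (Matrix.of a)ᵀ).det =
        π' (Matrix.of fun i k : Fin (2 * m) => hw.d (Sum.inr i) (hw.d (Sum.inr k) F)).det := by
      rw [RingHom.map_det, RingHom.map_det]
      congr 1
      ext i k
      rw [RingHom.mapMatrix_apply, RingHom.mapMatrix_apply, Matrix.map_apply, Matrix.map_apply,
        Matrix.add_apply, Matrix.transpose_apply, Matrix.of_apply, Matrix.of_apply]
      have h4 := hspan _ (hda i k)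
      rw [map_sub, sub_eq_zero] at h4
      exact h4.symm
    rw [h3]
    exact (hdet.map π').ne_zero
  have hsplit := Groth.Agent.Vancyc.H686.NormalForm.split_of_isUnit_det m (Fin (2 * m)) (by simp)
    (jj v • Matrix.of a) hdet2
  obtain ⟨G, hG, hGz⟩ := Lin.exists_split _ hsplit y
  refine ⟨i₀, b, c, jj v, G.mulVec y, hb, hVu, ?_, ?_, ?_⟩
  · intro i
    rw [mulVec, dotProduct, map_sum]
    exact Finset.sum_eq_zero fun l _ => by rw [map_mul, hyπ, mul_zero]
  · rw [← hGz]
    conv_lhs => rw [ha]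
    rw [mul_add, ← map_mul, ← hbc, map_add, map_add, map_mul, map_pow, jj.commutes, jj.commutes,
      hxi, Finset.mul_sum]
    congr 1
    refine Finset.sum_congr rfl fun i _ => ?_
    rw [Finset.mul_sum]
    refine Finset.sum_congr rfl fun k _ => ?_
    rw [Matrix.smul_apply, Matrix.of_apply, smul_eq_mul]
    ring
  · have h3 := Lin.isCoord_linear hycoord hyπ G hG
    have h4 : (fun i : Unit => x (ε (Sum.inl i))) = fun _ : Unit => x i₀ := by
      funext i
      exact congrArg x (idx_inl i₀)
    rw [h4] at h3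
    exact h3

end Groth.Agent.Vancyc.H696.NFH
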