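import Mathlib.RingTheory.Etale.Kaehler
import Mathlib.RingTheory.Kaehler.Polynomial
import Mathlib.RingTheory.Unramified.Basic
import Mathlib.RingTheory.Etale.Basic
import Mathlib.Algebra.MvPolynomial.PDeriv
import Mathlib.LinearAlgebra.TensorProduct.Basis

/-!
Partial derivatives on formally étale algebras over a polynomial ring.
-/

set_option autoImplicit false

universe u v w

namespace Groth.Agent.Vancyc.H696.PDer

open scoped TensorProduct
open KaehlerDifferential

section Uniq

variable {A R S M : Type*} [CommRing A] [CommRing R] [CommRing S] [Algebra A R] [Algebra A S]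
  [Algebra R S] [IsScalarTower A R S] [AddCommGroup M] [Module A M] [Module S M]
  [IsScalarTower A S M]

omit [Algebra A R] [IsScalarTower A R S] [IsScalarTower A S M] in
/-- A derivation on a formally unramified `R`-algebra vanishing on `R` is zero. -/
theorem der_eq_zero [Algebra.FormallyUnramified R S] (d : Derivation A S M)
    (h : ∀ r : R, d (algebraMap R S r) = 0) : d = 0 := by
  let _ : Module R M := Module.compHom M (algebraMap R S)
  have hsm : ∀ (r : R) (m : M), r • m = algebraMap R S r • m := fun r m => rfl
  have : IsScalarTower R S M := ⟨fun r s m => by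
    rw [hsm, Algebra.smul_def, mul_smul]⟩
  let d' : Derivation R S M := Derivation.mk'
    { toFun := d
      map_add' := map_add d
      map_smul' := fun r s => by
        rw [Algebra.smul_def, d.leibniz, h, smul_zero, add_zero, RingHom.id_apply, hsm] }
    (fun a b => d.leibniz a b)
  have h1 : d' = 0 := by
    rw [← Derivation.liftKaehlerDifferential_comp d']
    have : d'.liftKaehlerDifferential = 0 := by
      apply LinearMap.ext
      intro x
      rw [Subsingleton.elim x 0, map_zero, map_zero]
    rw [this]
    ext x
    simp
  ext s
  exact congr($h1 s)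

omit [Algebra A R] [IsScalarTower A R S] [IsScalarTower A S M] in
theorem der_ext_of_unramified [Algebra.FormallyUnramified R S] (d e : Derivation A S M)
    (h : ∀ r : R, d (algebraMap R S r) = e (algebraMap R S r)) : d = e := by
  rw [← sub_eq_zero]
  exact der_eq_zero (R := R) (d - e) fun r => by simp [h r]

end Uniq

section PD

variable {A : Type u} [CommRing A] {ι : Type w}

/-- Derivations on a formally unramified algebra over a polynomial ring are determined by their values on the
variables. -/
theorem der_ext {S M : Type*} [CommRing S] [Algebra A S] [Algebra (MvPolynomial ι A) S]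
    [IsScalarTower A (MvPolynomial ι A) S] [Algebra.FormallyUnramified (MvPolynomial ι A) S]
    [AddCommGroup M] [Module A M] [Module S M] [IsScalarTower A S M] (d e : Derivation A S M)
    (h : ∀ i, d (algebraMap (MvPolynomial ι A) S (MvPolynomial.X i)) =
      e (algebraMap (MvPolynomial ι A) S (MvPolynomial.X i))) : d = e := by
  refine der_ext_of_unramified (R := MvPolynomial ι A) d e fun r => ?_
  let _ : Module (MvPolynomial ι A) M := Module.compHom M (algebraMap (MvPolynomial ι A) S)
  have hsm : ∀ (r : MvPolynomial ι A) (m : M), r • m = algebraMap (MvPolynomial ι A) S r • m :=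
    fun r m => rfl
  have : IsScalarTower (MvPolynomial ι A) S M := ⟨fun r s m => by
    rw [hsm, Algebra.smul_def, mul_smul]⟩
  have : IsScalarTower A (MvPolynomial ι A) M := ⟨fun r s m => by
    rw [hsm, hsm, Algebra.smul_def, map_mul, mul_smul, ← IsScalarTower.algebraMap_apply,
      algebraMap_smul]⟩
  let res (d : Derivation A S M) : Derivation A (MvPolynomial ι A) M := Derivation.mk'
    (d.toLinearMap.comp (IsScalarTower.toAlgHom A (MvPolynomial ι A) S).toLinearMap)
    (fun a b => by
      change d (algebraMap _ _ (a * b)) = _
      rw [map_mul, d.leibniz]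
      rfl)
  have h1 : res d = res e := MvPolynomial.derivation_ext fun i => h i
  exact congr($h1 r)

variable (S : Type v) [CommRing S] [Algebra A S] [Algebra (MvPolynomial ι A) S]
  [IsScalarTower A (MvPolynomial ι A) S] [Algebra.FormallyEtale (MvPolynomial ι A) S]

/-- The basis `dx_i` of the differentials of a formally étale algebra over a polynomial ring. -/
noncomputable def basisΩ : Module.Basis ι S (Ω[S⁄A]) :=
  ((mvPolynomialBasis A ι).baseChange S).map
    (tensorKaehlerEquivOfFormallyEtale A (MvPolynomial ι A) S)

theorem basisΩ_apply (i : ι) :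
    basisΩ (A := A) S i = D A S (algebraMap (MvPolynomial ι A) S (MvPolynomial.X i)) := by
  rw [basisΩ, Module.Basis.map_apply, Module.Basis.baseChange_apply, mvPolynomialBasis_apply,
    tensorKaehlerEquivOfFormallyEtale_apply, mapBaseChange_tmul, one_smul, map_D]

/-- The partial derivative `∂/∂x_i`. -/
noncomputable def pd (i : ι) : Derivation A S S :=
  ((basisΩ (A := A) S).coord i).compDer (D A S)

variable {S}

theorem pd_X [DecidableEq ι] (i j : ι) :
    pd (A := A) S i (algebraMap (MvPolynomial ι A) S (MvPolynomial.X j)) = if i = j then 1 else 0 := by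
  change (basisΩ (A := A) S).coord i (D A S _) = _
  rw [← basisΩ_apply, Module.Basis.coord_apply, Module.Basis.repr_self, Finsupp.single_apply]
  simp only [eq_comm]

/-- Expansion of a derivation in terms of partial derivatives. -/
theorem der_eq_sum [Fintype ι] {M : Type*} [AddCommGroup M] [Module A M] [Module S M]
    [IsScalarTower A S M] (d : Derivation A S M) (s : S) :
    d s = ∑ i, pd (A := A) S i s • d (algebraMap (MvPolynomial ι A) S (MvPolynomial.X i)) := by
  have h : D A S s = ∑ i : ι, pd (A := A) S i s • basisΩ (A := A) S i :=
    ((basisΩ (A := A) (ι := ι) S).sum_repr _).symm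
  rw [← d.liftKaehlerDifferential_comp_D, h, map_sum]
  refine Finset.sum_congr rfl fun i _ => ?_
  rw [map_smul, basisΩ_apply, d.liftKaehlerDifferential_comp_D]

/-- Partial derivatives commute with algebra maps. -/
theorem pd_map {S' : Type*} [CommRing S'] [Algebra A S'] [Algebra (MvPolynomial ι A) S']
    [IsScalarTower A (MvPolynomial ι A) S'] [Algebra.FormallyEtale (MvPolynomial ι A) S']
    (φ : S →ₐ[MvPolynomial ι A] S') (i : ι) (s : S) :
    φ (pd (A := A) S i s) = pd (A := A) S' i (φ s) := by
  classical
  let _ : Algebra S S' := φ.toRingHom.toAlgebra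
  have hφ : ∀ s, algebraMap S S' s = φ s := fun s => rfl
  have : IsScalarTower A S S' := IsScalarTower.of_algebraMap_eq fun a => by
    rw [hφ, IsScalarTower.algebraMap_apply A (MvPolynomial ι A) S, φ.commutes,
      ← IsScalarTower.algebraMap_apply]
  let d1 : Derivation A S S' := (Algebra.linearMap S S').compDer (pd (A := A) S i)
  let d2 : Derivation A S S' := Derivation.mk'
    ((pd (A := A) S' i).toLinearMap.comp (IsScalarTower.toAlgHom A S S').toLinearMap)
    (fun a b => by
      change pd (A := A) S' i (algebraMap _ _ (a * b)) = _
      rw [map_mul, Derivation.leibniz]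
      rfl)
  have h : d1 = d2 := der_ext (ι := ι) d1 d2 fun j => by
    change φ (pd (A := A) S i _) = pd (A := A) S' i (φ _)
    rw [φ.commutes, pd_X, pd_X]
    split_ifs <;> simp
  exact congr($h s)

end PD

end Groth.Agent.Vancyc.H696.PDer
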