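import Groth.Agent.Vancyc.H696.T2

/-!
Restriction of Taylor expansions to a curve through the point.
-/

set_option autoImplicit false
universe u v w

noncomputable section

namespace Groth.Agent.Vancyc.H696.Psi

open TensorProduct IsLocalRing VanCyc
open Groth.Agent.Ega41.MvPS Groth.Agent.Vancyc.H696.T0 Groth.Agent.Vancyc.H696.T1
open Groth.Agent.Vancyc.H678.P2Lin Groth.Agent.Vancyc.H678.P2Quad

section Unit

variable {K : Type u} [Field K]

/-- Coefficients of products in one variable. -/
theorem coeff_two_mul (f g : MvPowerSeries Unit K) (hf : MvPowerSeries.constantCoeff f = 0)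
    (hg : MvPowerSeries.constantCoeff g = 0) :
    MvPowerSeries.coeff (Finsupp.single () 2) (f * g) =
      MvPowerSeries.coeff (Finsupp.single () 1) f * MvPowerSeries.coeff (Finsupp.single () 1) g := by
  classical
  rw [MvPowerSeries.coeff_mul, Finsupp.antidiagonal_single, Finset.sum_map]
  have h2 : Finset.antidiagonal 2 = {(0, 2), (1, 1), (2, 0)} := rfl
  rw [h2]
  rw [Finset.sum_insert (by decide), Finset.sum_insert (by decide), Finset.sum_singleton]
  simp [hf, hg]

theorem exists_eq_mul_X_sq (f : MvPowerSeries Unit K) (h0 : MvPowerSeries.constantCoeff f = 0)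
    (h1 : MvPowerSeries.coeff (Finsupp.single () 1) f = 0) :
    ∃ s, f = s * MvPowerSeries.X () ^ 2 ∧
      MvPowerSeries.constantCoeff s = MvPowerSeries.coeff (Finsupp.single () 2) f := by
  have h2 : f ∈ varIdeal Unit K ^ 2 := by
    rw [Groth.Agent.Lefpen.H707.PowIdeal.mem_pow_span_X_iff]
    intro e he
    have he' : e = Finsupp.single () (e ()) := by
      ext
      simp
    rw [he'] at he ⊢
    rw [Finsupp.degree_single] at he
    interval_cases h : e ()
    · rw [Finsupp.single_zero]
      exact h0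
    · exact h1
  have h3 : varIdeal Unit K = Ideal.span {MvPowerSeries.X ()} := by
    rw [varIdeal, Set.range_unique]
  rw [h3, Ideal.span_singleton_pow, Ideal.mem_span_singleton'] at h2
  obtain ⟨s, hs⟩ := h2
  refine ⟨s, hs.symm, ?_⟩
  rw [← hs, MvPowerSeries.X_pow_eq]
  have h4 := MvPowerSeries.coeff_add_mul_monomial (0 : Unit →₀ ℕ) (Finsupp.single () 2) s (1 : K)
  rw [zero_add, mul_one] at h4
  exact h4.symm

end Unit

section Main

variable {A D K : Type u} [CommRing A] [CommRing D] [Field K]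
  [Algebra A D] [Algebra A K]
  {N : ℕ} [Algebra (MvPolynomial (Fin N) A) D]
  [IsScalarTower A (MvPolynomial (Fin N) A) D]
  [Algebra.FormallyUnramified (MvPolynomial (Fin N) A) D]
  (T : D →ₐ[A] MvPowerSeries (Fin N) K) (Tσ : D →ₐ[A] MvPowerSeries Unit K)

/-- The direction of the curve. -/
def β (i : Fin N) : K := MvPowerSeries.coeff (Finsupp.single () 1)
  (Tσ (algebraMap (MvPolynomial (Fin N) A) D (MvPolynomial.X i)))

omit [Algebra (MvPolynomial (Fin N) A) D] [IsScalarTower A (MvPolynomial (Fin N) A) D]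
  [Algebra.FormallyUnramified (MvPolynomial (Fin N) A) D] in
theorem const_eq (hc : ∀ z, MvPowerSeries.constantCoeff (Tσ z) = MvPowerSeries.constantCoeff (T z))
    (y : K ⊗[A] D) : MvPowerSeries.constantCoeff (TW Tσ y) =
      MvPowerSeries.constantCoeff (TW T y) := by
  induction y with
  | zero => simp
  | add y y' hy hy' => rw [map_add, map_add, map_add, map_add, hy, hy']
  | tmul a z =>
    rw [TW_tmul, TW_tmul, map_mul, map_mul, hc, MvPowerSeries.constantCoeff_C,
      MvPowerSeries.constantCoeff_C]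

omit [Algebra (MvPolynomial (Fin N) A) D] [IsScalarTower A (MvPolynomial (Fin N) A) D]
  [Algebra.FormallyUnramified (MvPolynomial (Fin N) A) D] in
theorem pow_le (hc : ∀ z, MvPowerSeries.constantCoeff (Tσ z) = MvPowerSeries.constantCoeff (T z))
    (r : ℕ) (y : K ⊗[A] D) (hy : y ∈ pt (TW T) ^ r) : TW Tσ y ∈ varIdeal Unit K ^ r := by
  have h1 : pt (TW T) ≤ (varIdeal Unit K).comap (TW Tσ) := by
    intro z hz
    rw [Ideal.mem_comap, mem_varIdeal_iff, const_eq T Tσ hc, ← mem_pt]
    exact hz
  exact Ideal.le_comap_pow _ _ (Ideal.pow_right_mono h1 r hy)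

omit [IsScalarTower A (MvPolynomial (Fin N) A) D]
  [Algebra.FormallyUnramified (MvPolynomial (Fin N) A) D] in
theorem coeff_uW (i : Fin N) : MvPowerSeries.coeff (Finsupp.single () 1) (TW Tσ (uW T i)) =
    β (N := N) Tσ i := by
  rw [uW, map_sub, TW_one_tmul, AlgHom.commutes, map_sub]
  change _ - MvPowerSeries.coeff (Finsupp.single () 1) (MvPowerSeries.C _) = _
  classical
  rw [MvPowerSeries.coeff_C, if_neg (by simp), sub_zero]
  rfl

/-- Linear approximation. -/
theorem exists_lin
    (hT : ∀ i, T (algebraMap (MvPolynomial (Fin N) A) D (MvPolynomial.X i)) =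
    MvPowerSeries.C (MvPowerSeries.constantCoeff
      (T (algebraMap (MvPolynomial (Fin N) A) D (MvPolynomial.X i)))) + MvPowerSeries.X i)
    (a : MvPowerSeries (Fin N) K) (ha : MvPowerSeries.constantCoeff a = 0) :
    ∃ y : K ⊗[A] D, TW T y - a ∈ varIdeal (Fin N) K ^ 2 ∧
      MvPowerSeries.coeff (Finsupp.single () 1) (TW Tσ y) = L a (β Tσ) ∧
      MvPowerSeries.constantCoeff (TW T y) = 0 := by
  classical
  refine ⟨∑ i, algebraMap K _ (MvPowerSeries.coeff (Finsupp.single i 1) a) * uW T i, ?_, ?_, ?_⟩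
  · rw [← noLowTerms_iff]
    have h1 : TW T (∑ i, algebraMap K _ (MvPowerSeries.coeff (Finsupp.single i 1) a) * uW T i) =
        ∑ i, MvPowerSeries.C (MvPowerSeries.coeff (Finsupp.single i 1) a) *
          MvPowerSeries.X i := by
      rw [map_sum]
      refine Finset.sum_congr rfl fun i _ => ?_
      rw [map_mul, TW_uW T hT, AlgHom.commutes]
      rfl
    rw [h1]
    refine ⟨?_, fun j => ?_⟩
    · rw [map_sub, ha, map_sum, sub_zero]
      refine Finset.sum_eq_zero fun i _ => ?_
      rw [map_mul, MvPowerSeries.constantCoeff_X, mul_zero]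
    · rw [map_sub, map_sum, sub_eq_zero]
      rw [Finset.sum_eq_single j]
      · rw [MvPowerSeries.coeff_C_mul, MvPowerSeries.coeff_index_single_self_X, mul_one]
      · intro i _ hij
        rw [MvPowerSeries.coeff_C_mul, MvPowerSeries.coeff_index_single_X, if_neg (Ne.symm hij),
          mul_zero]
      · exact fun h => absurd (Finset.mem_univ _) h
  · rw [map_sum, map_sum, L]
    refine Finset.sum_congr rfl fun i _ => ?_
    rw [map_mul, AlgHom.commutes]
    change MvPowerSeries.coeff _ (MvPowerSeries.C _ * _) = _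
    rw [MvPowerSeries.coeff_C_mul, coeff_uW]
  · rw [map_sum, map_sum]
    refine Finset.sum_eq_zero fun i _ => ?_
    rw [map_mul, TW_uW T hT, map_mul, MvPowerSeries.constantCoeff_X, mul_zero]

/-- **Lemma A.** -/
theorem coeff_one
    (hc : ∀ z, MvPowerSeries.constantCoeff (Tσ z) = MvPowerSeries.constantCoeff (T z))
    (hT : ∀ i, T (algebraMap (MvPolynomial (Fin N) A) D (MvPolynomial.X i)) =
    MvPowerSeries.C (MvPowerSeries.constantCoeff
      (T (algebraMap (MvPolynomial (Fin N) A) D (MvPolynomial.X i)))) + MvPowerSeries.X i)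
    (z : D) (hz : MvPowerSeries.constantCoeff (T z) = 0) :
    MvPowerSeries.coeff (Finsupp.single () 1) (Tσ z) = L (T z) (β Tσ) := by
  obtain ⟨y, hy1, hy2, -⟩ := exists_lin T Tσ hT (T z) hz
  rw [← TW_one_tmul T z, ← map_sub, ← mem_pt_pow_iff T hT] at hy1
  have h1 := pow_le T Tσ hc 2 _ hy1
  rw [Groth.Agent.Lefpen.H707.PowIdeal.mem_pow_span_X_iff] at h1
  have h2 := h1 (Finsupp.single () 1) (by rw [Finsupp.degree_single]; norm_num)
  rw [map_sub, map_sub, sub_eq_zero, TW_one_tmul, hy2] at h2
  exact h2.symm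

/-- **Lemma B.** -/
theorem coeff_two
    (hc : ∀ z, MvPowerSeries.constantCoeff (Tσ z) = MvPowerSeries.constantCoeff (T z))
    (hT : ∀ i, T (algebraMap (MvPolynomial (Fin N) A) D (MvPolynomial.X i)) =
    MvPowerSeries.C (MvPowerSeries.constantCoeff
      (T (algebraMap (MvPolynomial (Fin N) A) D (MvPolynomial.X i)))) + MvPowerSeries.X i)
    (z : D) (hz : NoLowTerms (T z)) :
    MvPowerSeries.coeff (Finsupp.single () 2) (Tσ z) = quadEval (quadPart (T z)) (β Tσ) := by
  have key : ∀ f ∈ varIdeal (Fin N) K ^ 2, ∃ y : K ⊗[A] D, TW T y - f ∈ varIdeal (Fin N) K ^ 3 ∧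
      MvPowerSeries.coeff (Finsupp.single () 2) (TW Tσ y) = D2 f (β Tσ) := by
    intro f hf
    rw [pow_two] at hf
    induction hf using Submodule.mul_induction_on' with
    | mem_mul_mem a ha b hb =>
      have ha0 := constantCoeff_of_mem_varIdeal ha
      have hb0 := constantCoeff_of_mem_varIdeal hb
      obtain ⟨ya, h1, h2, h3⟩ := exists_lin T Tσ hT a ha0
      obtain ⟨yb, h1', h2', h3'⟩ := exists_lin T Tσ hT b hb0
      refine ⟨ya * yb, ?_, ?_⟩
      · have h4 : TW T (ya * yb) - a * b = (TW T ya - a) * TW T yb + a * (TW T yb - b) := by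
          rw [map_mul]
          ring
        rw [h4]
        refine Ideal.add_mem _ ?_ ?_
        · have := Ideal.mul_mem_mul h1 (mem_varIdeal_iff.2 h3')
          rwa [← pow_succ] at this
        · have := Ideal.mul_mem_mul ha h1'
          rwa [← pow_succ'] at this
      · rw [map_mul, coeff_two_mul _ _ (by rw [const_eq T Tσ hc, h3])
          (by rw [const_eq T Tσ hc, h3']), h2, h2', D2_mul a b ha0 hb0]
    | add f _ f' _ hf hf' =>
      obtain ⟨y, h1, h2⟩ := hf
      obtain ⟨y', h1', h2'⟩ := hf'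
      refine ⟨y + y', ?_, ?_⟩
      · rw [map_add, add_sub_add_comm]
        exact Ideal.add_mem _ h1 h1'
      · rw [map_add, map_add, h2, h2', D2_add]
  obtain ⟨y, hy1, hy2⟩ := key (T z) ((noLowTerms_iff _).1 hz)
  rw [← TW_one_tmul T z, ← map_sub, ← mem_pt_pow_iff T hT] at hy1
  have h1 := pow_le T Tσ hc 3 _ hy1
  rw [Groth.Agent.Lefpen.H707.PowIdeal.mem_pow_span_X_iff] at h1
  have h2 := h1 (Finsupp.single () 2) (by rw [Finsupp.degree_single]; norm_num)
  rw [map_sub, map_sub, sub_eq_zero, TW_one_tmul, hy2] at h2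
  exact h2.symm

end Main

end Groth.Agent.Vancyc.H696.Psi
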