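import Groth.Agent.Vancyc.H696.Univ
import Groth.Agent.Vancyc.H696.Change
import Groth.Agent.Vancyc.H696.EtaleQuot
import Mathlib.LinearAlgebra.Matrix.SchurComplement

/-!
The relative critical locus: if the Hessian of `F` in the directions `J` is invertible, then the locus where the partial
derivatives in these directions vanish is the image of a section over the hull in the remaining coordinates.
-/

set_option autoImplicit false

universe u v w

noncomputable section

namespace Groth.Agent.Vancyc.H696.Section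

open MvPolynomial
open Groth.Agent.Vancyc.H696.HullAt Groth.Agent.Vancyc.H696.Coord Groth.Agent.Vancyc.H696.Univ
open Groth.Agent.Vancyc.H696.Change Groth.Agent.Vancyc.H696.EtaleQuot

theorem etaleX_d_x {A : Type u} {B : Type v} [CommRing A] [CommRing B] [Algebra A B] {ι : Type}
    [DecidableEq ι] {x : ι → B} (h : EtaleX A x) (i j : ι) :
    h.d i (x j) = if i = j then 1 else 0 := by
  let _ := algX (A := A) x
  have := towerX (A := A) x
  have : Algebra.Etale (MvPolynomial ι A) B := h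
  have h1 := PDer.pd_X (A := A) (S := B) i j
  rw [algebraMap_algX, aeval_X] at h1
  exact h1

variable {A H K : Type u} [CommRing A] [CommRing H] [Field K] [Algebra A H]
  {ι₀ J : Type} {π : H →+* K}

/-- The coordinates `x₀` together with the partial derivatives in the directions `J`. -/
theorem etaleX_of_hessian {E : Type u} [CommRing E] [Algebra A E] [Fintype ι₀] [DecidableEq ι₀]
    [Fintype J] [DecidableEq J] {e : ι₀ ⊕ J → E} (he : EtaleX A e) (w : J → E)
    (hw : IsUnit (Matrix.of fun i j : J => he.d (Sum.inr i) (w j)).det) :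
    EtaleX A (Sum.elim (fun i => e (Sum.inl i)) w) := by
  refine he.of_det _ ?_
  have : (Matrix.of fun i j => he.d i (Sum.elim (fun i => e (Sum.inl i)) w j)) =
      Matrix.fromBlocks 1 (Matrix.of fun i j => he.d (Sum.inl i) (w j)) 0
        (Matrix.of fun i j : J => he.d (Sum.inr i) (w j)) := by
    ext i j
    rcases i with i | i <;> rcases j with j | j
    · simp [etaleX_d_x, Matrix.one_apply]
    · simp
    · simp [etaleX_d_x]
    · simp
  rw [this, Matrix.det_fromBlocks_zero₂₁, Matrix.det_one, one_mul]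
  exact hw

theorem exists_etale_hessian [Fintype J] [DecidableEq J] {x : ι₀ ⊕ J → H} (h : IsCoord A π x)
    (F : H) (hdet : IsUnit (Matrix.of fun i j : J =>
      h.d (Sum.inr i) (h.d (Sum.inr j) F)).det) :
    ∃ (E : Type u) (_ : CommRing E) (_ : Algebra A E) (e : ι₀ ⊕ J → E) (χ : E →ₐ[A] H)
      (he : EtaleX A e) (G : E), (∀ i, χ (e i) = x i) ∧ χ G = F ∧
      IsUnit (Matrix.of fun i j : J => he.d (Sum.inr i) (he.d (Sum.inr j) G)).det := by
  classical
  obtain ⟨E, _, _, e, χ, he, hχ, hs⟩ := h.exists_etale {F}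
  obtain ⟨G, hG⟩ := hs (by simp : F ∈ _)
  let δ : E := (Matrix.of fun i j : J => he.d (Sum.inr i) (he.d (Sum.inr j) G)).det
  have hδ : χ δ = (Matrix.of fun i j : J => h.d (Sum.inr i) (h.d (Sum.inr j) F)).det := by
    change χ.toRingHom (Matrix.det _) = _
    rw [RingHom.map_det]
    congr 1
    ext i j
    simp only [RingHom.mapMatrix_apply, Matrix.map_apply, Matrix.of_apply]
    rw [← hG, ← h.d_map he χ hχ, ← h.d_map he χ hχ]
    rfl
  obtain ⟨χ', hχ'⟩ := exists_lift_away χ δ (by rw [hδ]; exact hdet)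
  have he' := etaleX_away he δ
  refine ⟨Localization.Away δ, inferInstance, inferInstance, _, χ', he',
    algebraMap E (Localization.Away δ) G, fun i => ?_, ?_, ?_⟩
  · rw [hχ', hχ]
  · rw [hχ', hG]
  · have h1 : (Matrix.of fun i j : J => he'.d (Sum.inr i) (he'.d (Sum.inr j)
        (algebraMap E (Localization.Away δ) G))).det = algebraMap E (Localization.Away δ) δ := by
      change _ = (algebraMap E (Localization.Away δ)) (Matrix.det _)
      rw [RingHom.map_det]
      congr 1
      ext i j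
      simp only [RingHom.mapMatrix_apply, Matrix.map_apply, Matrix.of_apply]
      have h2 := fun i s => EtaleX.d_map he he' (IsScalarTower.toAlgHom A E (Localization.Away δ))
        (fun i => rfl) i s
      have h3 := h2 (Sum.inr j) G
      have h4 := h2 (Sum.inr i) (he.d (Sum.inr j) G)
      rw [h3] at h4
      exact h4.symm
    rw [h1]
    exact IsLocalization.Away.algebraMap_isUnit δ

/-- The critical section. -/
theorem exists_section [Fintype ι₀] [DecidableEq ι₀] [Fintype J] [DecidableEq J]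
    {x : ι₀ ⊕ J → H} (h : IsCoord A π x)
    (hs : Function.Surjective fun p : MvPolynomial (ι₀ ⊕ J) A => π (aeval x p))
    (q : ℕ) [ExpChar K q] (hq : ∀ y : K, ∃ (e : ℕ) (a : A), y ^ q ^ e = π (algebraMap A H a))
    (F : H) (hF : ∀ j : J, π (h.d (Sum.inr j) F) = 0)
    (hdet : IsUnit (Matrix.of fun i j : J => h.d (Sum.inr i) (h.d (Sum.inr j) F)).det) :
    ∃ (A₁ : Type u) (_ : CommRing A₁) (_ : Algebra A A₁) (π₁ : A₁ →+* K) (x₁ : ι₀ → A₁)
      (j : A₁ →ₐ[A] H) (σ : H →ₐ[A] A₁), IsCoord A π₁ x₁ ∧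
      (Function.Surjective fun p : MvPolynomial ι₀ A => π₁ (aeval x₁ p)) ∧
      (∀ i, j (x₁ i) = x (Sum.inl i)) ∧ (∀ a, σ (j a) = a) ∧ (∀ a, π (j a) = π₁ a) ∧
      (∀ s, π₁ (σ s) = π s) ∧ ∀ i : J, σ (h.d (Sum.inr i) F) = 0 := by
  obtain ⟨E, _, _, e, χ, he, G, hχ, hG, hdetE⟩ := exists_etale_hessian h F hdet
  have hπs : Function.Surjective π := fun y => by
    obtain ⟨p, hp⟩ := hs y
    exact ⟨_, hp⟩
  set w : ι₀ ⊕ J → E := Sum.elim (fun i => e (Sum.inl i)) (fun j => he.d (Sum.inr j) G) with hw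
  have hwE : EtaleX A w := etaleX_of_hessian he _ hdetE
  have hD := etaleX_quotient hwE
  set I : Ideal E := Ideal.span (Set.range fun j : J => w (Sum.inr j)) with hI
  set e₀ : ι₀ → E ⧸ I := fun i => Ideal.Quotient.mk I (w (Sum.inl i)) with he₀
  have hχd : ∀ i s, χ (he.d i s) = h.d i (χ s) := fun i s => h.d_map he χ hχ i s
  have hIle : ∀ a ∈ I, (π.comp χ.toRingHom) a = 0 := by
    intro a ha
    have : I ≤ RingHom.ker (π.comp χ.toRingHom) := by
      rw [hI, Ideal.span_le]
      rintro _ ⟨j, rfl⟩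
      change π (χ (he.d (Sum.inr j) G)) = 0
      rw [hχd, hG]
      exact hF j
    exact this ha
  let g : E ⧸ I →+* K := Ideal.Quotient.lift I (π.comp χ.toRingHom) hIle
  have hg : ∀ a : E, g (Ideal.Quotient.mk I a) = π (χ a) := fun a => rfl
  have hχp : ∀ p : MvPolynomial (ι₀ ⊕ J) A, χ (aeval e p) = aeval x p := fun p => by
    have h1 := comp_aevalX (A := A) e χ
    have h2 := congr($h1 p)
    rw [funext hχ] at h2
    exact h2
  have hgs : Function.Surjective g := fun y => by
    obtain ⟨p, hp⟩ := hs y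
    refine ⟨Ideal.Quotient.mk I (aeval e p), ?_⟩
    rw [hg, hχp]
    exact hp
  have hfs := surjective_of_etale (aeval e₀ : MvPolynomial ι₀ A →ₐ[A] E ⧸ I).toRingHom hD g hgs q
    (fun y => by
      obtain ⟨n, a, hn⟩ := hq y
      refine ⟨n, C a, ?_⟩
      rw [hn]
      change _ = g (aeval e₀ (C a))
      rw [aeval_C]
      change _ = g (Ideal.Quotient.mk I (algebraMap A E a))
      rw [hg, χ.commutes])
  obtain ⟨A₁, _, _, π₁, x₁, h₁, hπ₁⟩ := exists_isCoord A K
    (g.comp (aeval e₀ : MvPolynomial ι₀ A →ₐ[A] E ⧸ I).toRingHom)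
  have hπ₁s : Function.Surjective fun p : MvPolynomial ι₀ A => π₁ (aeval x₁ p) := fun y => by
    obtain ⟨p, hp⟩ := hfs y
    exact ⟨p, (hπ₁ p).trans hp⟩
  have hπ₁s' : Function.Surjective π₁ := fun y => by
    obtain ⟨p, hp⟩ := hπ₁s y
    exact ⟨_, hp⟩
  obtain ⟨ψ, hψ1, hψ2⟩ := h₁.hull.exists_lift
    (aeval e₀ : MvPolynomial ι₀ A →ₐ[A] E ⧸ I).toRingHom hD g (by
      refine RingHom.ext fun p => ?_
      exact (hπ₁ p).symm)
  have hψ1' : ∀ p : MvPolynomial ι₀ A, ψ (aeval e₀ p) = aeval x₁ p := fun p => congr($hψ1 p)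
  have hE : IsHullAt χ.toRingHom π := h.hull.of_etale _ he χ.toRingHom (by
    rw [comp_aevalX, funext hχ])
  have hH := h.henselianLocalRing
  have hA₁ := h₁.henselianLocalRing
  obtain ⟨σ, ⟨hσ1, hσ2⟩, -⟩ := existsUnique_of_surj hE π₁ hπ₁s' (RingHom.id K)
    (ψ.comp (Ideal.Quotient.mk I)) (fun r => by
      change π₁ (ψ (Ideal.Quotient.mk I r)) = π (χ r)
      rw [← hg]
      exact congr($hψ2 _))
  have hσ1' : ∀ s : E, σ (χ s) = ψ (Ideal.Quotient.mk I s) := fun s => congr($hσ1 s)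
  have hσA : ∀ a, σ (algebraMap A H a) = algebraMap A A₁ a := fun a => by
    have h1 := hψ1' (C a)
    rw [aeval_C, aeval_C] at h1
    rw [← χ.commutes, hσ1', ← h1]
    rfl
  let σ' : H →ₐ[A] A₁ := { toRingHom := σ, commutes' := hσA }
  have hσ'2 : ∀ s, π₁ (σ' s) = π s := hσ2
  have hσx : ∀ i, σ' (x (Sum.inl i)) = x₁ i := fun i => by
    have h1 := hψ1' (X i)
    rw [aeval_X, aeval_X] at h1
    rw [← h1, ← hχ]
    exact hσ1' _
  obtain ⟨j, ⟨hj1, hj2⟩, -⟩ := coord_existsUnique h₁ π hπs (RingHom.id K)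
    (fun i => x (Sum.inl i)) (fun a => by
      rw [RingHom.id_apply, ← hσ'2, σ'.commutes]) (fun i => by
      rw [RingHom.id_apply, ← hσ'2, hσx])
  have hσj : σ'.comp j = AlgHom.id A A₁ := coord_hom_ext h₁ π₁ hπ₁s' (RingHom.id K) _ _
    (fun i => by rw [AlgHom.comp_apply, hj1, hσx]; rfl)
    (fun s => by rw [AlgHom.comp_apply, hσ'2, hj2]) (fun s => rfl)
  refine ⟨A₁, inferInstance, inferInstance, π₁, x₁, j, σ', h₁, hπ₁s, hj1,
    fun a => congr($hσj a), hj2, hσ'2, fun i => ?_⟩
  rw [← hG, ← hχd]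
  refine (hσ1' _).trans ?_
  have : Ideal.Quotient.mk I (he.d (Sum.inr i) G) = 0 :=
    Ideal.Quotient.eq_zero_iff_mem.mpr (Ideal.subset_span ⟨i, rfl⟩)
  rw [this, map_zero]

end Groth.Agent.Vancyc.H696.Section
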