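import Groth.Agent.Vancyc.H696.Taylor
import Groth.Agent.Lefpen.H707.PowIdeal
import Mathlib.RingTheory.MvPolynomial.Ideal

/-!
The Taylor expansion detects powers of the ideal of the point.
-/

set_option autoImplicit false
universe u v w

noncomputable section

namespace Groth.Agent.Vancyc.H696.T0

open TensorProduct
open Groth.Agent.Ega41.MvPS

section Abstract

variable {K W : Type u} [Field K] [CommRing W] [Algebra K W] {ι : Type} [Finite ι]
  (θ : W →ₐ[K] MvPowerSeries ι K) (u : ι → W)

/-- The ideal of the point. -/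
def pt : Ideal W := (varIdeal ι K).comap θ

theorem mem_pt (z : W) : z ∈ pt θ ↔ MvPowerSeries.constantCoeff (θ z) = 0 := by
  rw [pt, Ideal.mem_comap, mem_varIdeal_iff]

omit [Finite ι] in
theorem pt_pow_le (r : ℕ) : pt θ ^ r ≤ (varIdeal ι K ^ r).comap θ :=
  Ideal.le_comap_pow _ _

theorem exists_const (z : W) :
    z - algebraMap K W (MvPowerSeries.constantCoeff (θ z)) ∈ pt θ := by
  rw [mem_pt, map_sub, AlgHom.commutes, map_sub]
  change _ - MvPowerSeries.constantCoeff (MvPowerSeries.C _) = 0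
  rw [MvPowerSeries.constantCoeff_C, sub_self]

variable {θ u}

omit [Finite ι] in
/-- Powers. -/
theorem pow_le (hw : pt θ ≤ Ideal.span (Set.range u) ⊔ pt θ ^ 2)
    (hu : ∀ i, u i ∈ pt θ) (r : ℕ) : pt θ ^ r ≤ Ideal.span (Set.range u) ^ r ⊔ pt θ ^ (r + 1) := by
  have hU : Ideal.span (Set.range u) ≤ pt θ := by
    rw [Ideal.span_le]
    rintro _ ⟨i, rfl⟩
    exact hu i
  induction r with
  | zero => simp
  | succ r ih =>
    calc pt θ ^ (r + 1) = pt θ ^ r * pt θ := pow_succ _ _
      _ ≤ (Ideal.span (Set.range u) ^ r ⊔ pt θ ^ (r + 1)) * pt θ := Ideal.mul_mono_left ih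
      _ = Ideal.span (Set.range u) ^ r * pt θ ⊔ pt θ ^ (r + 1 + 1) := by
        rw [Ideal.sup_mul, ← pow_succ (pt θ) (r + 1)]
      _ ≤ Ideal.span (Set.range u) ^ (r + 1) ⊔ pt θ ^ (r + 1 + 1) := by
        refine sup_le ?_ le_sup_right
        calc Ideal.span (Set.range u) ^ r * pt θ ≤
            Ideal.span (Set.range u) ^ r * (Ideal.span (Set.range u) ⊔ pt θ ^ 2) :=
              Ideal.mul_mono_right hw
          _ = Ideal.span (Set.range u) ^ (r + 1) ⊔ Ideal.span (Set.range u) ^ r * pt θ ^ 2 := by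
              rw [Ideal.mul_sup, ← pow_succ]
          _ ≤ Ideal.span (Set.range u) ^ (r + 1) ⊔ pt θ ^ (r + 1 + 1) := by
              refine sup_le_sup_left ?_ _
              calc Ideal.span (Set.range u) ^ r * pt θ ^ 2 ≤ pt θ ^ r * pt θ ^ 2 :=
                    Ideal.mul_mono_left (Ideal.pow_right_mono hU r)
                _ = pt θ ^ (r + 1 + 1) := by rw [← pow_add]

/-- Polynomials in `u` approximate everything. -/
theorem exists_poly (hw : pt θ ≤ Ideal.span (Set.range u) ⊔ pt θ ^ 2)
    (hu : ∀ i, u i ∈ pt θ) (r : ℕ) (z : W) :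
    ∃ q : MvPolynomial ι K, z - MvPolynomial.aeval u q ∈ pt θ ^ r := by
  have hU : Ideal.span (Set.range u) ≤ pt θ := by
    rw [Ideal.span_le]
    rintro _ ⟨i, rfl⟩
    exact hu i
  -- elements of `U`
  have key1 : ∀ y : W, y ∈ Ideal.span (Set.range u) →
      ∃ q : MvPolynomial ι K, y - MvPolynomial.aeval u q ∈ pt θ ^ 2 := by
    intro y h1
    induction h1 using Submodule.span_induction with
    | mem y hy =>
      obtain ⟨i, rfl⟩ := hy
      exact ⟨MvPolynomial.X i, by
        rw [MvPolynomial.aeval_X, sub_self]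
        exact Ideal.zero_mem _⟩
    | zero => exact ⟨0, by simp⟩
    | add y y' _ _ hy hy' =>
      obtain ⟨q, hq⟩ := hy
      obtain ⟨q', hq'⟩ := hy'
      refine ⟨q + q', ?_⟩
      have := Ideal.add_mem _ hq hq'
      rwa [map_add, add_sub_add_comm]
    | smul s y h2 hy =>
      obtain ⟨q, hq⟩ := hy
      refine ⟨MvPolynomial.C (MvPowerSeries.constantCoeff (θ s)) * q, ?_⟩
      have h3 : s • y - MvPolynomial.aeval u
          (MvPolynomial.C (MvPowerSeries.constantCoeff (θ s)) * q) =
          (s - algebraMap K W (MvPowerSeries.constantCoeff (θ s))) * y +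
          algebraMap K W (MvPowerSeries.constantCoeff (θ s)) *
            (y - MvPolynomial.aeval u q) := by
        rw [map_mul, MvPolynomial.aeval_C, smul_eq_mul]
        ring
      rw [h3]
      refine Ideal.add_mem _ ?_ (Ideal.mul_mem_left _ _ hq)
      rw [pow_two]
      exact Ideal.mul_mem_mul (exists_const θ s) (hU h2)
  -- elements of `U ^ j`
  have key : ∀ (j : ℕ) (y : W), y ∈ Ideal.span (Set.range u) ^ j →
      y ∈ pt θ ^ j ∧ ∃ q : MvPolynomial ι K, y - MvPolynomial.aeval u q ∈ pt θ ^ (j + 1) := by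
    intro j
    induction j with
    | zero =>
      intro y _
      refine ⟨by simp, MvPolynomial.C (MvPowerSeries.constantCoeff (θ y)), ?_⟩
      rw [MvPolynomial.aeval_C, zero_add, pow_one]
      exact exists_const θ y
    | succ j ih =>
      intro y hy
      refine ⟨Ideal.pow_right_mono hU _ hy, ?_⟩
      rw [pow_succ] at hy
      induction hy using Submodule.mul_induction_on' with
      | mem_mul_mem a ha b hb =>
        obtain ⟨ha', q, hq⟩ := ih a ha
        obtain ⟨q', hq'⟩ := key1 b hb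
        refine ⟨q * q', ?_⟩
        have h1 : a * b - MvPolynomial.aeval u (q * q') =
            a * (b - MvPolynomial.aeval u q') +
              (a - MvPolynomial.aeval u q) * MvPolynomial.aeval u q' := by
          rw [map_mul]
          ring
        have h2 : MvPolynomial.aeval u q' ∈ pt θ := by
          have := Ideal.sub_mem _ (hU hb) (Ideal.pow_le_self two_ne_zero hq')
          rwa [sub_sub_cancel] at this
        rw [h1]
        refine Ideal.add_mem _ ?_ ?_
        · have := Ideal.mul_mem_mul ha' hq'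
          rwa [← pow_add] at this
        · have := Ideal.mul_mem_mul hq h2
          rwa [← pow_succ] at this
      | add y _ y' _ hy hy' =>
        obtain ⟨q, hq⟩ := hy
        obtain ⟨q', hq'⟩ := hy'
        refine ⟨q + q', ?_⟩
        have := Ideal.add_mem _ hq hq'
        rwa [map_add, add_sub_add_comm]
  induction r with
  | zero => exact ⟨0, by simp⟩
  | succ r ih =>
    obtain ⟨q, hq⟩ := ih
    obtain ⟨y, hy, y', hy', hyy⟩ := Submodule.mem_sup.1 (pow_le hw hu r hq)
    obtain ⟨q', hq'⟩ := (key r y hy).2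
    refine ⟨q + q', ?_⟩
    have h3 : z - MvPolynomial.aeval u (q + q') = (y - MvPolynomial.aeval u q') + y' := by
      rw [map_add, ← sub_sub, ← hyy]
      ring
    rw [h3]
    exact Ideal.add_mem _ hq' hy'

omit [Finite ι] in
/-- The Taylor expansion of a polynomial in `u`. -/
theorem θ_aeval (hθ : ∀ i, θ (u i) = MvPowerSeries.X i) (q : MvPolynomial ι K) :
    θ (MvPolynomial.aeval u q) = (q : MvPowerSeries ι K) := by
  induction q using MvPolynomial.induction_on with
  | C a =>
    rw [MvPolynomial.aeval_C, AlgHom.commutes, MvPolynomial.coe_C]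
    rfl
  | add p q hp hq => rw [map_add, map_add, hp, hq, MvPolynomial.coe_add]
  | mul_X p i hp =>
    rw [map_mul, map_mul, hp, MvPolynomial.aeval_X, hθ, MvPolynomial.coe_mul, MvPolynomial.coe_X]

/-- The Taylor expansion detects powers of the ideal of the point. -/
theorem mem_pow_iff (hw : pt θ ≤ Ideal.span (Set.range u) ⊔ pt θ ^ 2)
    (hθ : ∀ i, θ (u i) = MvPowerSeries.X i) (r : ℕ) (z : W) :
    z ∈ pt θ ^ r ↔ θ z ∈ varIdeal ι K ^ r := by
  have hu : ∀ i, u i ∈ pt θ := by
    intro i
    rw [mem_pt, hθ, MvPowerSeries.constantCoeff_X]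
  refine ⟨fun hz => pt_pow_le θ r hz, fun hz => ?_⟩
  obtain ⟨q, hq⟩ := exists_poly hw hu r z
  have h1 : (q : MvPowerSeries ι K) ∈ varIdeal ι K ^ r := by
    have h2 := pt_pow_le θ r hq
    rw [Ideal.mem_comap, map_sub, θ_aeval hθ] at h2
    have := Ideal.sub_mem _ hz h2
    rwa [sub_sub_cancel] at this
  have h2 : q ∈ MvPolynomial.idealOfVars ι K ^ r := by
    rw [MvPolynomial.mem_pow_idealOfVars_iff']
    intro e he
    rw [← MvPolynomial.coeff_coe]
    exact (Groth.Agent.Lefpen.H707.PowIdeal.mem_pow_span_X_iff r _).1 h1 e he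
  have h3 : MvPolynomial.aeval u q ∈ pt θ ^ r := by
    have h4 : MvPolynomial.idealOfVars ι K ≤ (pt θ).comap (MvPolynomial.aeval u) := by
      rw [MvPolynomial.idealOfVars, Ideal.span_le]
      rintro _ ⟨i, rfl⟩
      change MvPolynomial.aeval u (MvPolynomial.X i) ∈ pt θ
      rw [MvPolynomial.aeval_X]
      exact hu i
    exact Ideal.le_comap_pow _ _ (Ideal.pow_right_mono h4 r h2)
  have := Ideal.add_mem _ hq h3
  rwa [sub_add_cancel] at this

end Abstract

section Tensor

variable {A D K : Type u} [CommRing A] [CommRing D] [Field K] [Algebra A D] [Algebra A K]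
  {ι : Type} (T : D →ₐ[A] MvPowerSeries ι K)

/-- The scalar extension of `T`. -/
def TW : K ⊗[A] D →ₐ[K] MvPowerSeries ι K :=
  Algebra.TensorProduct.lift (Algebra.ofId K _) T (fun _ _ => Commute.all _ _)

theorem TW_tmul (c : K) (z : D) : TW T (c ⊗ₜ z) = MvPowerSeries.C c * T z := by
  rw [TW, Algebra.TensorProduct.lift_tmul]
  rfl

theorem TW_one_tmul (z : D) : TW T (1 ⊗ₜ z) = T z := by
  rw [TW_tmul, map_one, one_mul]

variable [Algebra (MvPolynomial ι A) D]

/-- The coordinates centered at the point. -/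
def uW (i : ι) : K ⊗[A] D :=
  1 ⊗ₜ (algebraMap (MvPolynomial ι A) D (MvPolynomial.X i)) -
    algebraMap K (K ⊗[A] D)
      (MvPowerSeries.constantCoeff (T (algebraMap (MvPolynomial ι A) D (MvPolynomial.X i))))

theorem TW_uW (hT : ∀ i, T (algebraMap (MvPolynomial ι A) D (MvPolynomial.X i)) =
    MvPowerSeries.C (MvPowerSeries.constantCoeff
      (T (algebraMap (MvPolynomial ι A) D (MvPolynomial.X i)))) + MvPowerSeries.X i) (i : ι) :
    TW T (uW T i) = MvPowerSeries.X i := by
  rw [uW, map_sub, TW_one_tmul, AlgHom.commutes, sub_eq_iff_eq_add, add_comm]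
  exact hT i

variable [Finite ι]

theorem pt_le [IsScalarTower A (MvPolynomial ι A) D]
    [Algebra.FormallyUnramified (MvPolynomial ι A) D] :
    pt (TW T) ≤ Ideal.span (Set.range (uW T)) ⊔ pt (TW T) ^ 2 := by
  let I : Ideal (K ⊗[A] D) := Ideal.span (Set.range (uW T)) ⊔ pt (TW T) ^ 2
  let _ : Module D ((K ⊗[A] D) ⧸ I) :=
    Module.compHom _ (Algebra.TensorProduct.includeRight (R := A) (A := K) (B := D)).toRingHom
  have hsm : ∀ (z : D) (m : (K ⊗[A] D) ⧸ I), z • m = (1 ⊗ₜ[A] z : K ⊗[A] D) • m :=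
    fun z m => rfl
  have htow : IsScalarTower A D ((K ⊗[A] D) ⧸ I) := by
    refine ⟨fun a z m => ?_⟩
    rw [hsm, hsm, TensorProduct.tmul_smul, smul_assoc]
  let c : D → K := fun z => MvPowerSeries.constantCoeff (T z)
  have hc : ∀ z, (1 ⊗ₜ[A] z : K ⊗[A] D) - algebraMap K _ (c z) ∈ pt (TW T) := by
    intro z
    have := exists_const (TW T) (1 ⊗ₜ[A] z)
    rwa [TW_one_tmul] at this
  have hcmul : ∀ z w, c (z * w) = c z * c w := fun z w => by simp [c]
  have hcalg : ∀ a, c (algebraMap A D a) = algebraMap A K a := fun a => by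
    simp only [c]
    rw [T.commutes, MvPowerSeries.algebraMap_apply, MvPowerSeries.constantCoeff_C]
  let δ : Derivation A D ((K ⊗[A] D) ⧸ I) :=
    { toFun := fun z => Ideal.Quotient.mk I ((1 ⊗ₜ[A] z : K ⊗[A] D) - algebraMap K _ (c z))
      map_add' := fun z w => by
        simp only [c, TensorProduct.tmul_add, map_add, map_sub]
        ring
      map_smul' := fun a z => by
        have h1 : (1 ⊗ₜ[A] (a • z) : K ⊗[A] D) = algebraMap A _ a * (1 ⊗ₜ[A] z) := by
          rw [TensorProduct.tmul_smul, Algebra.smul_def]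
        have h2 : algebraMap K (K ⊗[A] D) (c (a • z)) =
            algebraMap A _ a * algebraMap K _ (c z) := by
          rw [Algebra.smul_def, hcmul, hcalg, map_mul, ← IsScalarTower.algebraMap_apply]
        rw [h1, h2, ← mul_sub, map_mul, RingHom.id_apply, Algebra.smul_def]
        rfl
      map_one_eq_zero' := by
        change Ideal.Quotient.mk I ((1 ⊗ₜ[A] 1 : K ⊗[A] D) - algebraMap K _ (c 1)) = 0
        have : c 1 = 1 := by simp [c]
        rw [this, map_one, ← Algebra.TensorProduct.one_def, sub_self, map_zero]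
      leibniz' := fun z w => by
        change Ideal.Quotient.mk I ((1 ⊗ₜ[A] (z * w) : K ⊗[A] D) - algebraMap K _ (c (z * w))) =
          z • Ideal.Quotient.mk I ((1 ⊗ₜ[A] w : K ⊗[A] D) - algebraMap K _ (c w)) +
          w • Ideal.Quotient.mk I ((1 ⊗ₜ[A] z : K ⊗[A] D) - algebraMap K _ (c z))
        have h1 : (1 ⊗ₜ[A] (z * w) : K ⊗[A] D) = (1 ⊗ₜ[A] z) * (1 ⊗ₜ[A] w) := by
          rw [Algebra.TensorProduct.tmul_mul_tmul, one_mul]
        rw [hsm, hsm, Algebra.smul_def, Algebra.smul_def]
        change _ = Ideal.Quotient.mk I _ * Ideal.Quotient.mk I _ +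
          Ideal.Quotient.mk I _ * Ideal.Quotient.mk I _
        rw [← map_mul, ← map_mul, ← map_add, Ideal.Quotient.eq, h1, hcmul, map_mul]
        have h3 := Ideal.mul_mem_mul (hc z) (hc w)
        rw [← pow_two] at h3
        have h4 := (I.neg_mem_iff).2
          (Ideal.mem_sup_right (S := Ideal.span (Set.range (uW T))) h3)
        convert h4 using 1
        ring }
  have hδ : δ = 0 := by
    refine PDer.der_ext (A := A) (ι := ι) δ 0 fun i => ?_
    change Ideal.Quotient.mk I (uW T i) = 0
    rw [Ideal.Quotient.eq_zero_iff_mem]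
    exact Ideal.mem_sup_left (Ideal.subset_span ⟨i, rfl⟩)
  have h1 : ∀ z : D, (1 ⊗ₜ[A] z : K ⊗[A] D) - algebraMap K _ (c z) ∈ I := by
    intro z
    rw [← Ideal.Quotient.eq_zero_iff_mem]
    exact congr($hδ z)
  have h2 : ∀ y : K ⊗[A] D,
      y - algebraMap K _ (MvPowerSeries.constantCoeff (TW T y)) ∈ I := by
    intro y
    induction y with
    | zero => simp
    | add y y' hy hy' =>
      rw [map_add, map_add, map_add, add_sub_add_comm]
      exact Ideal.add_mem _ hy hy'
    | tmul a z =>
      have h3 : (a ⊗ₜ[A] z : K ⊗[A] D) = algebraMap K _ a * (1 ⊗ₜ[A] z) := by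
        rw [Algebra.TensorProduct.algebraMap_apply, Algebra.TensorProduct.tmul_mul_tmul, one_mul]
        simp
      rw [TW_tmul, map_mul, MvPowerSeries.constantCoeff_C, map_mul, h3, ← mul_sub]
      exact Ideal.mul_mem_left _ _ (h1 z)
  intro y hy
  have h3 := h2 y
  rwa [(mem_pt _ _).1 hy, map_zero, sub_zero] at h3

/-- The expansion detects powers of the ideal of the point. -/
theorem mem_pt_pow_iff [IsScalarTower A (MvPolynomial ι A) D]
    [Algebra.FormallyUnramified (MvPolynomial ι A) D]
    (hT : ∀ i, T (algebraMap (MvPolynomial ι A) D (MvPolynomial.X i)) =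
    MvPowerSeries.C (MvPowerSeries.constantCoeff
      (T (algebraMap (MvPolynomial ι A) D (MvPolynomial.X i)))) + MvPowerSeries.X i) (r : ℕ)
    (z : K ⊗[A] D) : z ∈ pt (TW T) ^ r ↔ TW T z ∈ varIdeal ι K ^ r :=
  mem_pow_iff (pt_le T) (TW_uW T hT) r z

end Tensor

end Groth.Agent.Vancyc.H696.T0
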