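import Groth.Agent.Vancyc.H696.T0
import Groth.Agent.Vancyc.H678.P2
import Mathlib.RingTheory.Filtration


/-!
The Taylor expansion and powers of the maximal ideal of the geometric local ring.
-/

set_option autoImplicit false
universe u v w

noncomputable section

namespace Groth.Agent.Vancyc.H696.T1

open TensorProduct IsLocalRing
open Groth.Agent.Ega41.MvPS Groth.Agent.Vancyc.H696.T0

/-- Krull's intersection theorem. -/
theorem krull {R : Type*} [CommRing R] [IsNoetherianRing R] (J I : Ideal R) (x : R)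
    (h : ∀ r : ℕ, x ∈ J ⊔ I ^ r) : ∃ t ∈ I, (1 - t) * x ∈ J := by
  have h1 : (Ideal.Quotient.mk J x) ∈ (⨅ i : ℕ, I ^ i • ⊤ : Submodule R (R ⧸ J)) := by
    rw [Submodule.mem_iInf]
    intro r
    obtain ⟨y, hy, z, hz, hyz⟩ := Submodule.mem_sup.1 (h r)
    have h2 : Ideal.Quotient.mk J x = z • (1 : R ⧸ J) := by
      rw [← hyz, map_add, Ideal.Quotient.eq_zero_iff_mem.2 hy, zero_add, Algebra.smul_def, mul_one]
      rfl
    rw [h2]
    exact Submodule.smul_mem_smul hz Submodule.mem_top
  obtain ⟨⟨t, ht⟩, htx⟩ := (Ideal.mem_iInf_smul_pow_eq_bot_iff I _).1 h1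
  refine ⟨t, ht, ?_⟩
  rw [← Ideal.Quotient.eq_zero_iff_mem, map_mul, map_sub, map_one, sub_mul, one_mul, sub_eq_zero]
  exact htx.symm

theorem krull_local {R : Type*} [CommRing R] [IsNoetherianRing R] [IsLocalRing R] (J I : Ideal R)
    (hI : I ≤ maximalIdeal R) (x : R) (h : ∀ r : ℕ, x ∈ J ⊔ I ^ r) : x ∈ J := by
  obtain ⟨t, ht, htx⟩ := krull J I x h
  have hu : IsUnit (1 - t) := by
    by_contra h1
    have h2 : (1 - t) ∈ maximalIdeal R := h1
    have h3 := Ideal.add_mem _ h2 (hI ht)
    rw [sub_add_cancel] at h3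
    exact (Ideal.ne_top_iff_one _).1 (maximalIdeal.isMaximal R).ne_top h3
  exact (Ideal.unit_mul_mem_iff_mem J hu).1 htx

section Main

variable {A D K L : Type u} [CommRing A] [CommRing D] [Field K] [CommRing L] [IsLocalRing L]
  [Algebra A D] [Algebra A K] [Algebra K L] [Algebra A L] [IsScalarTower A K L]
  {ι : Type} [Finite ι] [Algebra (MvPolynomial ι A) D] [IsScalarTower A (MvPolynomial ι A) D]
  [Algebra.FormallyUnramified (MvPolynomial ι A) D]
  (T : D →ₐ[A] MvPowerSeries ι K) (χ : D →ₐ[A] L)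

omit [Finite ι] [IsLocalRing L] [Algebra (MvPolynomial ι A) D]
  [IsScalarTower A (MvPolynomial ι A) D]
  [Algebra.FormallyUnramified (MvPolynomial ι A) D] in
/-- The scalar extension of `χ`. -/
def χW : K ⊗[A] D →ₐ[K] L :=
  Algebra.TensorProduct.lift (Algebra.ofId K L) χ (fun _ _ => Commute.all _ _)

omit [Finite ι] [IsLocalRing L] [Algebra (MvPolynomial ι A) D]
  [IsScalarTower A (MvPolynomial ι A) D]
  [Algebra.FormallyUnramified (MvPolynomial ι A) D] in
theorem χW_tmul (c : K) (z : D) : χW (K := K) χ (c ⊗ₜ z) = algebraMap K L c * χ z := by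
  rw [χW, Algebra.TensorProduct.lift_tmul]
  rfl

omit [Finite ι] [Algebra (MvPolynomial ι A) D]
  [IsScalarTower A (MvPolynomial ι A) D]
  [Algebra.FormallyUnramified (MvPolynomial ι A) D] in
theorem χW_sub_mem
    (hχ : ∀ z, χ z - algebraMap K L (MvPowerSeries.constantCoeff (T z)) ∈ maximalIdeal L)
    (y : K ⊗[A] D) : χW (K := K) χ y -
      algebraMap K L (MvPowerSeries.constantCoeff (TW T y)) ∈ maximalIdeal L := by
  induction y with
  | zero => simp
  | add y y' hy hy' =>
    rw [map_add, map_add, map_add, map_add, add_sub_add_comm]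
    exact Ideal.add_mem _ hy hy'
  | tmul a z =>
    rw [χW_tmul, TW_tmul, map_mul, MvPowerSeries.constantCoeff_C, map_mul, ← mul_sub]
    exact Ideal.mul_mem_left _ _ (hχ z)

/-- The centered coordinates in `L`. -/
def uL (i : ι) : L := χ (algebraMap (MvPolynomial ι A) D (MvPolynomial.X i)) - algebraMap K L
  (MvPowerSeries.constantCoeff (T (algebraMap (MvPolynomial ι A) D (MvPolynomial.X i))))

omit [Finite ι] [IsLocalRing L] [IsScalarTower A (MvPolynomial ι A) D]
  [Algebra.FormallyUnramified (MvPolynomial ι A) D] in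
theorem χW_uW (i : ι) : χW (K := K) χ (uW T i) = uL T χ i := by
  rw [uW, map_sub, χW_tmul, AlgHom.commutes, map_one, one_mul]
  rfl

/-- **T1.** -/
theorem mem_pow_iff
    (hT : ∀ i, T (algebraMap (MvPolynomial ι A) D (MvPolynomial.X i)) =
    MvPowerSeries.C (MvPowerSeries.constantCoeff
      (T (algebraMap (MvPolynomial ι A) D (MvPolynomial.X i)))) + MvPowerSeries.X i)
    (hχ : ∀ z, χ z - algebraMap K L (MvPowerSeries.constantCoeff (T z)) ∈ maximalIdeal L)
    (g : MvPowerSeries ι K)
    (hg : ∀ (r : ℕ) (p : MvPolynomial ι K), MvPolynomial.aeval (uL T χ) p ∈ maximalIdeal L ^ r ↔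
        (p : MvPowerSeries ι K) ∈ Ideal.span {g} ⊔ varIdeal ι K ^ r) (r : ℕ) (y : K ⊗[A] D) :
    χW (K := K) χ y ∈ maximalIdeal L ^ r ↔ TW T y ∈ Ideal.span {g} ⊔ varIdeal ι K ^ r := by
  have hw := pt_le T
  have hu : ∀ i, uW T i ∈ pt (TW T) := by
    intro i
    rw [mem_pt, TW_uW T hT, MvPowerSeries.constantCoeff_X]
  obtain ⟨q, hq⟩ := exists_poly hw hu r y
  have hle : pt (TW T) ≤ (maximalIdeal L).comap (χW (K := K) χ) := by
    intro z hz
    have := χW_sub_mem T χ hχ z
    rwa [(mem_pt _ _).1 hz, map_zero, sub_zero] at this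
  have h1 : χW (K := K) χ y - MvPolynomial.aeval (uL T χ) q ∈ maximalIdeal L ^ r := by
    have h2 := Ideal.le_comap_pow _ _ (Ideal.pow_right_mono hle r hq)
    rw [Ideal.mem_comap, map_sub] at h2
    have h3 : χW (K := K) χ (MvPolynomial.aeval (uW T) q) = MvPolynomial.aeval (uL T χ) q := by
      have h4 := MvPolynomial.comp_aeval (R := K) (uW T) (χW (K := K) χ)
      have h5 := congr($h4 q)
      rw [AlgHom.comp_apply] at h5
      rw [h5]
      congr 2
      funext i
      exact χW_uW T χ i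
    rwa [h3] at h2
  have h2 : TW T y - (q : MvPowerSeries ι K) ∈ varIdeal ι K ^ r := by
    have h3 := pt_pow_le _ r hq
    rwa [Ideal.mem_comap, map_sub, θ_aeval (TW_uW T hT)] at h3
  have h3 : χW (K := K) χ y ∈ maximalIdeal L ^ r ↔
      MvPolynomial.aeval (uL T χ) q ∈ maximalIdeal L ^ r := by
    constructor
    · intro h
      have := Ideal.sub_mem _ h h1
      rwa [sub_sub_cancel] at this
    · intro h
      have := Ideal.add_mem _ h1 h
      rwa [sub_add_cancel] at this
  rw [h3, hg]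
  constructor
  · intro h
    have := Ideal.add_mem _ (Ideal.mem_sup_right (S := Ideal.span {g}) h2) h
    rwa [sub_add_cancel] at this
  · intro h
    have := Ideal.sub_mem _ h (Ideal.mem_sup_right (S := Ideal.span {g}) h2)
    rwa [sub_sub_cancel] at this

end Main

end Groth.Agent.Vancyc.H696.T1
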