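import Groth.Agent.Vancyc.H696.T1
import Mathlib.LinearAlgebra.Matrix.DotProduct

/-!
An equation with ordinary Taylor expansion.
-/

set_option autoImplicit false
universe u v w

noncomputable section

namespace Groth.Agent.Vancyc.H696.T2

open TensorProduct IsLocalRing VanCyc
open Groth.Agent.Ega41.MvPS Groth.Agent.Vancyc.H696.T0 Groth.Agent.Vancyc.H696.T1
open Groth.Agent.Vancyc.H678.P2Lin Groth.Agent.Vancyc.H678.P2Quad

section Quad

variable {K : Type u} [Field K] {N : ℕ}

theorem quadOrd_of_scale (a a' : Fin N → Fin N → K) (c : K) (hc : c ≠ 0)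
    (h : ∀ v, quadEval a' v = c * quadEval a v) (ha : QuadOrd a) : QuadOrd a' := by
  intro v h1 h2
  refine ha v ?_ ?_
  · rw [h] at h1
    exact (mul_eq_zero.1 h1).resolve_left hc
  · have h3 : ∀ w, (polarMatrix a).mulVec v ⬝ᵥ w = 0 := by
      intro w
      have h4 := polar_dotProduct a' v w
      rw [h2, zero_dotProduct, h, h, h, ← mul_sub, ← mul_sub, ← polar_dotProduct a v w] at h4
      exact (mul_eq_zero.1 h4.symm).resolve_left hc
    exact dotProduct_eq_zero _ h3

theorem D2_mul_of_noLow (a g : MvPowerSeries (Fin N) K) (hg : NoLowTerms g) (v : Fin N → K) :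
    D2 (a * g) v = MvPowerSeries.constantCoeff a * D2 g v := by
  have h1 : a = MvPowerSeries.C (MvPowerSeries.constantCoeff a) +
      (a - MvPowerSeries.C (MvPowerSeries.constantCoeff a)) := by ring
  have h2 : L g v = 0 := by
    unfold L
    exact Finset.sum_eq_zero fun i _ => by rw [hg.2, zero_mul]
  have h3 : D2 ((a - MvPowerSeries.C (MvPowerSeries.constantCoeff a)) * g) v = 0 := by
    rw [D2_mul _ _ (by simp) hg.1, h2, mul_zero]
  conv_lhs => rw [h1, add_mul, D2_add, h3, add_zero]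
  rw [D2_eq, D2_eq, Finset.mul_sum]
  refine Finset.sum_congr rfl fun i _ => ?_
  rw [Finset.mul_sum]
  refine Finset.sum_congr rfl fun j _ => ?_
  rw [MvPowerSeries.coeff_C_mul]
  split_ifs
  · ring
  · rw [mul_zero]

theorem ordQuadSeries_mul (a g : MvPowerSeries (Fin N) K)
    (ha : MvPowerSeries.constantCoeff a ≠ 0) (hg : OrdQuadSeries g) : OrdQuadSeries (a * g) := by
  refine ⟨?_, ?_⟩
  · rw [noLowTerms_iff]
    exact Ideal.mul_mem_left _ _ ((noLowTerms_iff g).1 hg.1)
  · exact quadOrd_of_scale (quadPart g) _ _ ha (fun v => D2_mul_of_noLow a g hg.1 v) hg.2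

theorem not_mem_pow_three {n : ℕ} (g : MvPowerSeries (Fin (n + 1)) K) (hg : OrdQuadSeries g) :
    g ∉ varIdeal (Fin (n + 1)) K ^ 3 := by
  intro h
  have h1 := (Groth.Agent.Lefpen.H707.PowIdeal.mem_pow_span_X_iff 3 g).1 h
  have h2 : quadPart g = fun _ _ => 0 := by
    funext i j
    unfold quadPart
    split_ifs
    · exact h1 _ (by simp)
    · exact h1 _ (by simp)
    · rfl
  have h3 : (fun _ : Fin (n + 1) => (1 : K)) = 0 := by
    refine hg.2 _ ?_ ?_
    · rw [h2]
      simp [quadEval]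
    · rw [h2]
      funext i
      simp [polarMatrix, Matrix.mulVec, dotProduct]
  exact one_ne_zero (congrFun h3 0)

end Quad

section Main

variable {A D K L : Type u} [CommRing A] [CommRing D] [Field K] [CommRing L] [IsLocalRing L]
  [Algebra A D] [Algebra A K] [Algebra K L] [Algebra A L] [IsScalarTower A K L]
  {n : ℕ} [Algebra (MvPolynomial (Fin (n + 1)) A) D]
  [IsScalarTower A (MvPolynomial (Fin (n + 1)) A) D]
  [Algebra.FormallyUnramified (MvPolynomial (Fin (n + 1)) A) D]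
  (T : D →ₐ[A] MvPowerSeries (Fin (n + 1)) K) (χ : D →ₐ[A] L)

/-- Elements of the kernel expand to multiples of `g`. -/
theorem mem_span
    (hT : ∀ i, T (algebraMap (MvPolynomial (Fin (n + 1)) A) D (MvPolynomial.X i)) =
    MvPowerSeries.C (MvPowerSeries.constantCoeff
      (T (algebraMap (MvPolynomial (Fin (n + 1)) A) D (MvPolynomial.X i)))) + MvPowerSeries.X i)
    (hχ : ∀ z, χ z - algebraMap K L (MvPowerSeries.constantCoeff (T z)) ∈ maximalIdeal L)
    (g : MvPowerSeries (Fin (n + 1)) K)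
    (hg : ∀ (r : ℕ) (p : MvPolynomial (Fin (n + 1)) K),
      MvPolynomial.aeval (uL T χ) p ∈ maximalIdeal L ^ r ↔
        (p : MvPowerSeries (Fin (n + 1)) K) ∈ Ideal.span {g} ⊔ varIdeal (Fin (n + 1)) K ^ r)
    (h : D) (hh : χ h = 0) : T h ∈ Ideal.span {g} := by
  refine krull_local _ (varIdeal (Fin (n + 1)) K)
    (maximalIdeal_eq (σ := Fin (n + 1)) K).ge _ fun r => ?_
  have h1 := mem_pow_iff T χ hT hχ g hg r (1 ⊗ₜ h)
  rw [χW_tmul, hh, mul_zero, TW_one_tmul] at h1
  exact h1.1 (Ideal.zero_mem _)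

/-- Some element of the kernel has an expansion of order two. -/
theorem exists_not_mem
    (hT : ∀ i, T (algebraMap (MvPolynomial (Fin (n + 1)) A) D (MvPolynomial.X i)) =
    MvPowerSeries.C (MvPowerSeries.constantCoeff
      (T (algebraMap (MvPolynomial (Fin (n + 1)) A) D (MvPolynomial.X i)))) + MvPowerSeries.X i)
    (g : MvPowerSeries (Fin (n + 1)) K) (hgo : OrdQuadSeries g)
    (hg : ∀ (r : ℕ) (p : MvPolynomial (Fin (n + 1)) K),
      MvPolynomial.aeval (uL T χ) p ∈ maximalIdeal L ^ r ↔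
        (p : MvPowerSeries (Fin (n + 1)) K) ∈ Ideal.span {g} ⊔ varIdeal (Fin (n + 1)) K ^ r)
    (J : Ideal D)
    (hlift : ∀ (T' : Type u) [CommRing T'] [IsLocalRing T'] [Algebra K T'] (φ : D →+* T'),
      (∀ a, φ (algebraMap A D a) = algebraMap K T' (algebraMap A K a)) → (∀ z ∈ J, φ z = 0) →
      (∀ z, φ z - algebraMap K T' (MvPowerSeries.constantCoeff (T z)) ∈ maximalIdeal T') →
      ∃ ψ : L →ₐ[K] T', ∀ z, ψ (χ z) = φ z) :
    ∃ F ∈ J, T F ∉ varIdeal (Fin (n + 1)) K ^ 3 := by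
  by_contra hcon
  push Not at hcon
  have hV : varIdeal (Fin (n + 1)) K ≠ ⊤ := by
    rw [← maximalIdeal_eq]
    exact (maximalIdeal.isMaximal _).ne_top
  have hV3 : varIdeal (Fin (n + 1)) K ^ 3 ≠ ⊤ := by
    intro h
    exact hV (top_le_iff.1 (h ▸ Ideal.pow_le_self (by norm_num)))
  have hnt : Nontrivial (MvPowerSeries (Fin (n + 1)) K ⧸ varIdeal (Fin (n + 1)) K ^ 3) :=
    Ideal.Quotient.nontrivial_iff.2 hV3
  let mk : MvPowerSeries (Fin (n + 1)) K →ₐ[K]
    (MvPowerSeries (Fin (n + 1)) K ⧸ varIdeal (Fin (n + 1)) K ^ 3) := Ideal.Quotient.mkₐ K _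
  have hmk : Function.Surjective mk := Ideal.Quotient.mkₐ_surjective _ _
  let mkr : MvPowerSeries (Fin (n + 1)) K →+*
    (MvPowerSeries (Fin (n + 1)) K ⧸ varIdeal (Fin (n + 1)) K ^ 3) := mk
  have hmkr : ∀ z, mkr z = mk z := fun z => rfl
  have hloc : IsLocalRing (MvPowerSeries (Fin (n + 1)) K ⧸ varIdeal (Fin (n + 1)) K ^ 3) :=
    IsLocalRing.of_surjective' mkr hmk
  have hmax := (Groth.Agent.Vancyc.H678.P2.maximalIdeal_of_surjective mkr hmk).2
  rw [maximalIdeal_eq] at hmax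
  have hmk0 : ∀ z, mk z = 0 ↔ z ∈ varIdeal (Fin (n + 1)) K ^ 3 := fun z =>
    Ideal.Quotient.eq_zero_iff_mem
  have hconst : ∀ z : MvPowerSeries (Fin (n + 1)) K,
      mk z - algebraMap K _ (MvPowerSeries.constantCoeff z) ∈
        maximalIdeal (MvPowerSeries (Fin (n + 1)) K ⧸ varIdeal (Fin (n + 1)) K ^ 3) := by
    intro z
    have h1 : z - MvPowerSeries.C (MvPowerSeries.constantCoeff z) ∈
        varIdeal (Fin (n + 1)) K := by
      rw [mem_varIdeal_iff, map_sub, MvPowerSeries.constantCoeff_C, sub_self]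
    have h2 := Ideal.mem_map_of_mem mkr h1
    rw [← hmax] at h2
    have h3 : mk (MvPowerSeries.C (MvPowerSeries.constantCoeff z)) =
      algebraMap K _ (MvPowerSeries.constantCoeff z) := mk.commutes _
    rw [← h3, ← map_sub]
    exact h2
  obtain ⟨ψ, hψ⟩ := hlift _ (mkr.comp
    (T : D →+* MvPowerSeries (Fin (n + 1)) K)) (fun a => by
      change mk (T (algebraMap A D a)) = _
      rw [T.commutes, MvPowerSeries.algebraMap_apply]
      exact mk.commutes _) (fun z hz => (hmk0 _).2 (hcon z hz)) (fun z => hconst (T z))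
  -- `ψ` is local
  have hψm : ∀ z ∈ maximalIdeal L, ψ z ∈
      maximalIdeal (MvPowerSeries (Fin (n + 1)) K ⧸ varIdeal (Fin (n + 1)) K ^ 3) := by
    intro z hz
    obtain ⟨w, hw⟩ := hmk (ψ z)
    have h1 := hconst w
    rw [hw] at h1
    by_cases hc : MvPowerSeries.constantCoeff w = 0
    · rwa [hc, map_zero, sub_zero] at h1
    · exfalso
      have h2 : IsUnit (z - algebraMap K L (MvPowerSeries.constantCoeff w)) := by
        by_contra h3
        have h4 : z - algebraMap K L (MvPowerSeries.constantCoeff w) ∈ maximalIdeal L := h3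
        have h5 := Ideal.sub_mem _ hz h4
        rw [sub_sub_cancel] at h5
        exact h5 ((isUnit_iff_ne_zero.2 hc).map (algebraMap K L))
      have h3 := h2.map ψ
      rw [map_sub, AlgHom.commutes] at h3
      exact h1 h3
  have hψu : ∀ i, ψ (uL T χ i) = mk (MvPowerSeries.X i) := by
    intro i
    rw [uL, map_sub, hψ, AlgHom.commutes]
    have h2 : (mkr.comp (T : D →+* MvPowerSeries (Fin (n + 1)) K))
        (algebraMap (MvPolynomial (Fin (n + 1)) A) D (MvPolynomial.X i)) =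
        algebraMap K _ (MvPowerSeries.constantCoeff
          (T (algebraMap (MvPolynomial (Fin (n + 1)) A) D (MvPolynomial.X i)))) +
        mk (MvPowerSeries.X i) := by
      have h3 := congrArg mk (hT i)
      rw [map_add] at h3
      refine h3.trans ?_
      congr 1
    rw [h2, add_sub_cancel_left]
  -- the polynomial approximating `g`
  have hq := sub_truncTotal_mem 3 g
  generalize MvPowerSeries.truncTotal 3 g = q at hq
  have h1 : (q : MvPowerSeries (Fin (n + 1)) K) ∈
      Ideal.span {g} ⊔ varIdeal (Fin (n + 1)) K ^ 3 := by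
    have := Ideal.sub_mem _ (Ideal.mem_sup_left (T := varIdeal (Fin (n + 1)) K ^ 3)
      (Ideal.mem_span_singleton_self g)) (Ideal.mem_sup_right (S := Ideal.span {g}) hq)
    rwa [sub_sub_cancel] at this
  rw [← hg] at h1
  have h2 : ψ (MvPolynomial.aeval (uL T χ) q) = mk (q : MvPowerSeries (Fin (n + 1)) K) := by
    clear hq h1
    induction q using MvPolynomial.induction_on with
    | C a =>
      rw [MvPolynomial.aeval_C, AlgHom.commutes, MvPolynomial.coe_C]
      exact (mk.commutes _).symm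
    | add p q hp hq => rw [map_add, map_add, hp, hq, MvPolynomial.coe_add, map_add]
    | mul_X p i hp =>
      rw [map_mul, map_mul, hp, MvPolynomial.aeval_X, hψu, MvPolynomial.coe_mul,
        MvPolynomial.coe_X, map_mul]
  have h3 : ψ (MvPolynomial.aeval (uL T χ) q) ∈
      maximalIdeal (MvPowerSeries (Fin (n + 1)) K ⧸ varIdeal (Fin (n + 1)) K ^ 3) ^ 3 := by
    have h4 : maximalIdeal L ≤ (maximalIdeal
      (MvPowerSeries (Fin (n + 1)) K ⧸ varIdeal (Fin (n + 1)) K ^ 3)).comap ψ := hψm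
    exact Ideal.le_comap_pow _ _ (Ideal.pow_right_mono h4 3 h1)
  rw [hmax, ← Ideal.map_pow, h2] at h3
  have h4 : (varIdeal (Fin (n + 1)) K ^ 3).map mkr = ⊥ := by
    rw [eq_bot_iff, Ideal.map_le_iff_le_comap]
    intro z hz
    exact (hmk0 z).2 hz
  rw [h4, Ideal.mem_bot, hmk0] at h3
  have h5 := Ideal.add_mem _ hq h3
  rw [sub_add_cancel] at h5
  exact not_mem_pow_three g hgo h5

/-- The good equation. -/
theorem exists_ord
    (hT : ∀ i, T (algebraMap (MvPolynomial (Fin (n + 1)) A) D (MvPolynomial.X i)) =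
    MvPowerSeries.C (MvPowerSeries.constantCoeff
      (T (algebraMap (MvPolynomial (Fin (n + 1)) A) D (MvPolynomial.X i)))) + MvPowerSeries.X i)
    (hχ : ∀ z, χ z - algebraMap K L (MvPowerSeries.constantCoeff (T z)) ∈ maximalIdeal L)
    (g : MvPowerSeries (Fin (n + 1)) K) (hgo : OrdQuadSeries g)
    (hg : ∀ (r : ℕ) (p : MvPolynomial (Fin (n + 1)) K),
      MvPolynomial.aeval (uL T χ) p ∈ maximalIdeal L ^ r ↔
        (p : MvPowerSeries (Fin (n + 1)) K) ∈ Ideal.span {g} ⊔ varIdeal (Fin (n + 1)) K ^ r)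
    (J : Ideal D) (hJ : ∀ z ∈ J, χ z = 0)
    (hlift : ∀ (T' : Type u) [CommRing T'] [IsLocalRing T'] [Algebra K T'] (φ : D →+* T'),
      (∀ a, φ (algebraMap A D a) = algebraMap K T' (algebraMap A K a)) → (∀ z ∈ J, φ z = 0) →
      (∀ z, φ z - algebraMap K T' (MvPowerSeries.constantCoeff (T z)) ∈ maximalIdeal T') →
      ∃ ψ : L →ₐ[K] T', ∀ z, ψ (χ z) = φ z) :
    ∃ F ∈ J, OrdQuadSeries (T F) ∧ ∀ h ∈ J, T h ∈ Ideal.span {T F} := by
  obtain ⟨F, hF, hF3⟩ := exists_not_mem T χ hT g hgo hg J hlift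
  have h1 : ∀ h ∈ J, T h ∈ Ideal.span {g} := fun h hh => mem_span T χ hT hχ g hg h (hJ h hh)
  obtain ⟨a, ha⟩ := Ideal.mem_span_singleton'.1 (h1 F hF)
  have ha0 : MvPowerSeries.constantCoeff a ≠ 0 := by
    intro h0
    apply hF3
    rw [← ha, show (3 : ℕ) = 1 + 2 from rfl, pow_add, pow_one]
    exact Ideal.mul_mem_mul (mem_varIdeal_iff.2 h0) ((noLowTerms_iff g).1 hgo.1)
  have hau : IsUnit a := by
    rw [MvPowerSeries.isUnit_iff_constantCoeff, isUnit_iff_ne_zero]
    exact ha0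
  refine ⟨F, hF, ?_, fun h hh => ?_⟩
  · rw [← ha]
    exact ordQuadSeries_mul a g ha0 hgo
  · rw [← ha, Ideal.span_singleton_mul_left_unit hau]
    exact h1 h hh

end Main

end Groth.Agent.Vancyc.H696.T2
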