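import Groth.Agent.Vancyc.H696.T2
import Mathlib.RingTheory.Flat.EquationalCriterion
import Mathlib.Algebra.CharP.Lemmas
import Mathlib.RingTheory.Localization.AtPrime.Basic
import Mathlib.RingTheory.LocalRing.ResidueField.Basic

/-!
The kernel is principal.
-/

set_option autoImplicit false
universe u v w

noncomputable section

namespace Groth.Agent.Vancyc.H696.T3

open TensorProduct IsLocalRing
open Groth.Agent.Ega41.MvPS Groth.Agent.Vancyc.H696.T0 Groth.Agent.Vancyc.H696.T1

/-- Flatness of a quotient. -/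
theorem inf_le_mul {A R : Type*} [CommRing A] [CommRing R] [Algebra A R] (J : Ideal R)
    [Module.Flat A (R ⧸ J)] (a : Ideal A) (z : R) (hz : z ∈ J)
    (hz' : z ∈ a.map (algebraMap A R)) : z ∈ a.map (algebraMap A R) * J := by
  classical
  obtain ⟨n, f, g, hfg⟩ := (Submodule.mem_span_set' (R := R)).1 hz'
  choose b hb hbg using fun i => (g i).2
  have h1 : ∑ i, b i • (Ideal.Quotient.mk J (f i)) = 0 := by
    rw [← Ideal.Quotient.eq_zero_iff_mem.2 hz, ← hfg, map_sum]
    refine Finset.sum_congr rfl fun i _ => ?_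
    rw [Algebra.smul_def, IsScalarTower.algebraMap_apply A R, smul_eq_mul, map_mul, mul_comm,
      hbg]
    rfl
  obtain ⟨k, c, y, h2, h3⟩ := Module.Flat.isTrivialRelation_of_sum_smul_eq_zero h1
  replace h2 : ∀ i, Ideal.Quotient.mk J (f i) = ∑ j, c i j • y j := h2
  choose y' hy' using fun j => Ideal.Quotient.mk_surjective (y j)
  have h4 : ∀ i, f i - ∑ j, algebraMap A R (c i j) * y' j ∈ J := by
    intro i
    rw [← Ideal.Quotient.eq_zero_iff_mem, map_sub, h2 i, map_sum, sub_eq_zero]
    refine Finset.sum_congr rfl fun j _ => ?_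
    rw [map_mul, hy', Algebra.smul_def]
    rfl
  have h5 : z = ∑ i, algebraMap A R (b i) * (f i - ∑ j, algebraMap A R (c i j) * y' j) := by
    have h6 : ∑ i, algebraMap A R (b i) * ∑ j, algebraMap A R (c i j) * y' j = 0 := by
      simp_rw [Finset.mul_sum]
      rw [Finset.sum_comm]
      refine Finset.sum_eq_zero fun j _ => ?_
      have h7 := congrArg (algebraMap A R) (h3 j)
      rw [map_sum, map_zero] at h7
      calc ∑ i, algebraMap A R (b i) * (algebraMap A R (c i j) * y' j) =
          (∑ i, algebraMap A R (b i * c i j)) * y' j := by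
            rw [Finset.sum_mul]
            refine Finset.sum_congr rfl fun i _ => ?_
            rw [map_mul, mul_assoc]
        _ = 0 := by rw [h7, zero_mul]
    simp_rw [mul_sub]
    rw [Finset.sum_sub_distrib, h6, sub_zero, ← hfg]
    refine Finset.sum_congr rfl fun i _ => ?_
    rw [smul_eq_mul, ← hbg, mul_comm]
  rw [h5]
  exact Ideal.sum_mem _ fun i _ => Ideal.mul_mem_mul (Ideal.mem_map_of_mem _ (hb i)) (h4 i)

/-- Descent from the geometric fibre. -/
theorem mem_of_tensor {A K R : Type u} [CommRing A] [IsLocalRing A] [Field K] [CommRing R]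
    [Algebra A K] [Algebra (ResidueField A) K] [IsScalarTower A (ResidueField A) K] [Algebra A R]
    (I : Ideal R) (z : R)
    (h : (1 ⊗ₜ[A] z : K ⊗[A] R) ∈
      I.map (Algebra.TensorProduct.includeRight (R := A) (A := K) (B := R)).toRingHom) :
    z ∈ I ⊔ (maximalIdeal A).map (algebraMap A R) := by
  let I' : Ideal R := I ⊔ (maximalIdeal A).map (algebraMap A R)
  let f : ResidueField A →+* R ⧸ I' := Ideal.Quotient.lift (maximalIdeal A)
    ((Ideal.Quotient.mk I').comp (algebraMap A R)) (fun a ha =>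
      Ideal.Quotient.eq_zero_iff_mem.2 (Ideal.mem_sup_right (Ideal.mem_map_of_mem _ ha)))
  let _ : Algebra (ResidueField A) (R ⧸ I') := f.toAlgebra
  have : IsScalarTower A (ResidueField A) (R ⧸ I') := IsScalarTower.of_algebraMap_eq fun a => rfl
  have t1 : IsScalarTower A K (K ⊗[ResidueField A] (R ⧸ I')) := inferInstance
  have t2 : IsScalarTower (ResidueField A) K (K ⊗[ResidueField A] (R ⧸ I')) := inferInstance
  have : IsScalarTower A (ResidueField A) (K ⊗[ResidueField A] (R ⧸ I')) :=
    IsScalarTower.of_algebraMap_eq fun a =>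
      calc algebraMap A (K ⊗[ResidueField A] (R ⧸ I')) a =
          algebraMap K (K ⊗[ResidueField A] (R ⧸ I')) (algebraMap A K a) :=
            IsScalarTower.algebraMap_apply A K (K ⊗[ResidueField A] (R ⧸ I')) a
        _ = algebraMap K (K ⊗[ResidueField A] (R ⧸ I'))
            (algebraMap (ResidueField A) K (algebraMap A (ResidueField A) a)) := by
              rw [IsScalarTower.algebraMap_apply A (ResidueField A) K]
        _ = _ := (IsScalarTower.algebraMap_apply (ResidueField A) K
            (K ⊗[ResidueField A] (R ⧸ I')) _).symm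
  let φ : K ⊗[A] R →ₐ[A] K ⊗[ResidueField A] (R ⧸ I') :=
    Algebra.TensorProduct.lift
      (IsScalarTower.toAlgHom A K (K ⊗[ResidueField A] (R ⧸ I')))
      ((Algebra.TensorProduct.includeRight (R := ResidueField A) (A := K)
        (B := R ⧸ I')).restrictScalars A |>.comp (Ideal.Quotient.mkₐ A I'))
      (fun _ _ => Commute.all _ _)
  have hφ : ∀ z, φ (1 ⊗ₜ z) = 1 ⊗ₜ (Ideal.Quotient.mk I' z) := by
    intro z
    simp [φ]
  have h1 : φ (1 ⊗ₜ z) = 0 := by
    have h2 : I.map (Algebra.TensorProduct.includeRight (R := A) (A := K) (B := R)).toRingHom ≤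
        RingHom.ker φ := by
      rw [Ideal.map_le_iff_le_comap]
      intro y hy
      change φ (1 ⊗ₜ y) = 0
      rw [hφ, Ideal.Quotient.eq_zero_iff_mem.2 (Ideal.mem_sup_left hy), TensorProduct.tmul_zero]
    exact h2 h
  rw [hφ] at h1
  have hinj := Algebra.TensorProduct.includeRight_injective (R := ResidueField A) (A := K)
    (B := R ⧸ I') (algebraMap (ResidueField A) K).injective
  have h2 : Ideal.Quotient.mk I' z = 0 := hinj (h1.trans (map_zero _).symm)
  exact Ideal.Quotient.eq_zero_iff_mem.1 h2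

theorem add_pow_expChar_pow' {K W : Type u} [Field K] [CommRing W] [Algebra K W] (q : ℕ)
    [ExpChar K q] (y y' : W) (n : ℕ) : (y + y') ^ q ^ n = y ^ q ^ n + y' ^ q ^ n := by
  rcases subsingleton_or_nontrivial W with hs | hn
  · exact Subsingleton.elim _ _
  have hq : ExpChar W q := expChar_of_injective_algebraMap (algebraMap K W).injective q
  exact add_pow_expChar_pow y y' q n

/-- Frobenius powers come from below. -/
theorem exists_pow_eq {A K D : Type u} [CommRing A] [Field K] [CommRing D] [Algebra A K]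
    [Algebra A D] (q : ℕ) [ExpChar K q] (hpi : ∀ c : K, ∃ (e : ℕ) (a : A), c ^ q ^ e = algebraMap A K a)
    (y : K ⊗[A] D) : ∃ (e : ℕ) (z : D), y ^ q ^ e = 1 ⊗ₜ z := by
  have hpow : ∀ (z : D) (n : ℕ), (1 ⊗ₜ[A] z : K ⊗[A] D) ^ n = 1 ⊗ₜ (z ^ n) := by
    intro z n
    rw [Algebra.TensorProduct.tmul_pow, one_pow]
  induction y with
  | zero =>
    refine ⟨0, 0, ?_⟩
    rw [pow_zero, pow_one, TensorProduct.tmul_zero]
  | add y y' hy hy' =>
    obtain ⟨e, z, h⟩ := hy
    obtain ⟨e', z', h'⟩ := hy'
    refine ⟨e + e', z ^ q ^ e' + z' ^ q ^ e, ?_⟩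
    rw [add_pow_expChar_pow' (K := K) q, pow_add, pow_mul, h, mul_comm (q ^ e), pow_mul, h', hpow, hpow,
      TensorProduct.tmul_add]
  | tmul c z =>
    obtain ⟨e, a, h⟩ := hpi c
    refine ⟨e, a • z ^ q ^ e, ?_⟩
    rw [Algebra.TensorProduct.tmul_pow, h, TensorProduct.tmul_smul, TensorProduct.smul_tmul',
      Algebra.algebraMap_eq_smul_one]

section Main

variable {A D K : Type u} [CommRing A] [CommRing D] [Field K]
  [Algebra A D] [Algebra A K]
  {ι : Type} [Finite ι] [Algebra (MvPolynomial ι A) D]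
  [IsScalarTower A (MvPolynomial ι A) D]
  [Algebra.FormallyUnramified (MvPolynomial ι A) D]
  (T : D →ₐ[A] MvPowerSeries ι K)

/-- Step D. -/
theorem exists_mul_mem [Algebra.FiniteType A D]
    (hT : ∀ i, T (algebraMap (MvPolynomial ι A) D (MvPolynomial.X i)) =
    MvPowerSeries.C (MvPowerSeries.constantCoeff
      (T (algebraMap (MvPolynomial ι A) D (MvPolynomial.X i)))) + MvPowerSeries.X i)
    (h F : D) (hh : T h ∈ Ideal.span {T F}) :
    ∃ s : K ⊗[A] D, MvPowerSeries.constantCoeff (TW T s) ≠ 0 ∧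
      s * (1 ⊗ₜ h) ∈ Ideal.span {(1 ⊗ₜ[A] F : K ⊗[A] D)} := by
  have hN : IsNoetherianRing (K ⊗[A] D) := by
    have : Algebra.FiniteType K (K ⊗[A] D) := inferInstance
    exact Algebra.FiniteType.isNoetherianRing K _
  obtain ⟨b, hb⟩ := Ideal.mem_span_singleton'.1 hh
  obtain ⟨t, ht, ht2⟩ := krull (Ideal.span {(1 ⊗ₜ[A] F : K ⊗[A] D)}) (pt (TW T)) (1 ⊗ₜ h) (by
    intro r
    have h1 := sub_truncTotal_mem r b
    generalize MvPowerSeries.truncTotal r b = q at h1
    have h2 : (1 ⊗ₜ[A] h : K ⊗[A] D) - MvPolynomial.aeval (uW T) q * (1 ⊗ₜ[A] F) ∈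
        pt (TW T) ^ r := by
      rw [mem_pt_pow_iff T hT, map_sub, map_mul, TW_one_tmul, TW_one_tmul,
        θ_aeval (TW_uW T hT), ← hb, ← sub_mul]
      exact Ideal.mul_mem_right _ _ h1
    have h3 := Ideal.add_mem _ (Ideal.mem_sup_right
      (S := Ideal.span {(1 ⊗ₜ[A] F : K ⊗[A] D)}) h2) (Ideal.mem_sup_left
      (T := pt (TW T) ^ r) (Ideal.mul_mem_left _ (MvPolynomial.aeval (uW T) q)
        (Ideal.mem_span_singleton_self (1 ⊗ₜ[A] F : K ⊗[A] D))))
    rwa [sub_add_cancel] at h3)
  refine ⟨1 - t, ?_, ht2⟩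
  rw [map_sub, map_sub, (mem_pt _ _).1 ht, map_one, map_one, sub_zero]
  exact one_ne_zero

/-- The kernel is principal. -/
theorem map_eq_span [IsLocalRing A] [Algebra (ResidueField A) K]
    [IsScalarTower A (ResidueField A) K] [Algebra.FiniteType A D]
    (q : ℕ) [ExpChar K q] (hpi : ∀ c : K, ∃ (e : ℕ) (a : A), c ^ q ^ e = algebraMap A K a)
    (hT : ∀ i, T (algebraMap (MvPolynomial ι A) D (MvPolynomial.X i)) =
    MvPowerSeries.C (MvPowerSeries.constantCoeff
      (T (algebraMap (MvPolynomial ι A) D (MvPolynomial.X i)))) + MvPowerSeries.X i)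
    (p : Ideal D) [p.IsPrime] (hp : ∀ z, z ∈ p ↔ MvPowerSeries.constantCoeff (T z) = 0)
    (J : Ideal D) (hJ : J.FG)
    [Module.Flat A (Localization.AtPrime p ⧸ J.map (algebraMap D (Localization.AtPrime p)))]
    (F : D) (hF : F ∈ J) (hJF : ∀ h ∈ J, T h ∈ Ideal.span {T F}) :
    J.map (algebraMap D (Localization.AtPrime p)) =
      Ideal.span {algebraMap D (Localization.AtPrime p) F} := by
  -- scalars
  have hA : ∀ a ∈ maximalIdeal A, algebraMap A K a = 0 := by
    intro a ha
    rw [IsScalarTower.algebraMap_apply A (ResidueField A) K]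
    have : algebraMap A (ResidueField A) a = 0 := (residue_eq_zero_iff a).2 ha
    rw [this, map_zero]
  have hmp : ∀ a ∈ maximalIdeal A, algebraMap A D a ∈ p := by
    intro a ha
    rw [hp, T.commutes, MvPowerSeries.algebraMap_apply, MvPowerSeries.constantCoeff_C]
    exact hA a ha
  let ι' : K ⊗[A] D →ₐ[K] K ⊗[A] Localization.AtPrime p :=
    Algebra.TensorProduct.map (AlgHom.id K K) (IsScalarTower.toAlgHom A D _)
  have hι' : ∀ z, ι' (1 ⊗ₜ z) = 1 ⊗ₜ (algebraMap D (Localization.AtPrime p) z) := by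
    intro z
    simp [ι']
  have hunit : ∀ s : K ⊗[A] D, MvPowerSeries.constantCoeff (TW T s) ≠ 0 → IsUnit (ι' s) := by
    intro s hs
    obtain ⟨e, z, hz⟩ := exists_pow_eq q hpi s
    have h1 : z ∉ p := by
      rw [hp, ← TW_one_tmul T z, ← hz, map_pow, map_pow]
      exact pow_ne_zero _ hs
    have h2 : IsUnit (algebraMap D (Localization.AtPrime p) z) :=
      IsLocalization.map_units (Localization.AtPrime p) (⟨z, h1⟩ : p.primeCompl)
    have h3 : IsUnit (ι' s ^ q ^ e) := by
      rw [← map_pow, hz, hι']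
      exact h2.map (Algebra.TensorProduct.includeRight (R := A) (A := K)
        (B := Localization.AtPrime p))
    have hne : q ^ e ≠ 0 := (pow_pos (expChar_pos K q) e).ne'
    exact (isUnit_pow_iff hne).1 h3
  have key : ∀ h ∈ J, algebraMap D (Localization.AtPrime p) h ∈
      Ideal.span {algebraMap D (Localization.AtPrime p) F} ⊔
        (maximalIdeal A).map (algebraMap A (Localization.AtPrime p)) := by
    intro h hh
    obtain ⟨s, hs, hs2⟩ := exists_mul_mem T hT h F (hJF h hh)
    apply mem_of_tensor (K := K)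
    obtain ⟨t, ht⟩ := Ideal.mem_span_singleton'.1 hs2
    have h1 : ι' s * (1 ⊗ₜ[A] (algebraMap D (Localization.AtPrime p) h)) =
        ι' t * (1 ⊗ₜ[A] (algebraMap D (Localization.AtPrime p) F)) := by
      rw [← hι', ← hι', ← map_mul, ← map_mul, ht]
    rw [Ideal.map_span, Set.image_singleton]
    rw [← Ideal.unit_mul_mem_iff_mem _ (hunit s hs), h1]
    exact Ideal.mul_mem_left _ _ (Ideal.mem_span_singleton_self _)
  have hspan : Ideal.span {algebraMap D (Localization.AtPrime p) F} ≤
      J.map (algebraMap D (Localization.AtPrime p)) := by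
    rw [Ideal.span_le, Set.singleton_subset_iff]
    exact Ideal.mem_map_of_mem _ hF
  have key2 : J.map (algebraMap D (Localization.AtPrime p)) ≤
      Ideal.span {algebraMap D (Localization.AtPrime p) F} ⊔
        (maximalIdeal A).map (algebraMap A (Localization.AtPrime p)) *
          J.map (algebraMap D (Localization.AtPrime p)) := by
    intro z hz
    have h1 : z ∈ Ideal.span {algebraMap D (Localization.AtPrime p) F} ⊔
        (maximalIdeal A).map (algebraMap A (Localization.AtPrime p)) := by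
      have : J.map (algebraMap D (Localization.AtPrime p)) ≤
          Ideal.span {algebraMap D (Localization.AtPrime p) F} ⊔
            (maximalIdeal A).map (algebraMap A (Localization.AtPrime p)) := by
        rw [Ideal.map_le_iff_le_comap]
        exact key
      exact this hz
    obtain ⟨y, hy, y', hy', rfl⟩ := Submodule.mem_sup.1 h1
    refine Ideal.add_mem _ (Ideal.mem_sup_left hy) (Ideal.mem_sup_right ?_)
    refine inf_le_mul _ (maximalIdeal A) y' ?_ hy'
    have := Ideal.sub_mem _ hz (hspan hy)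
    rwa [add_sub_cancel_left] at this
  refine le_antisymm ?_ hspan
  refine Submodule.le_of_le_smul_of_le_jacobson_bot (hJ.map _) ?_ key2
  rw [IsLocalRing.jacobson_eq_maximalIdeal ⊥ bot_ne_top, Ideal.map_le_iff_le_comap]
  intro a ha
  rw [Ideal.mem_comap, IsScalarTower.algebraMap_apply A D,
    IsLocalization.AtPrime.to_map_mem_maximal_iff (Localization.AtPrime p) p]
  exact hmp a ha

end Main

end Groth.Agent.Vancyc.H696.T3
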