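import Groth.Agent.Vancyc.H696.Univ
import Groth.Agent.Ega41.MvPS
import Mathlib.RingTheory.MvPowerSeries.Derivative
import Mathlib.RingTheory.Henselian

/-!
Taylor series at a geometric point.
-/

set_option autoImplicit false
universe u v w

noncomputable section

namespace Groth.Agent.Vancyc.H696.Taylor

open IsLocalRing
open Groth.Agent.Vancyc.H696.HullAt Groth.Agent.Vancyc.H696.Coord

theorem henselian_pow (K : Type u) [Field K] (ι : Type) [Finite ι] :
    HenselianLocalRing (MvPowerSeries ι K) := by
  have h1 := Groth.Agent.Ega41.MvPS.isAdicComplete_maximalIdeal (σ := ι) K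
  have h2 : HenselianRing (MvPowerSeries ι K) (maximalIdeal (MvPowerSeries ι K)) :=
    inferInstance
  exact { is_henselian := fun f hf a₀ h₀ h₁ => by
            refine h2.is_henselian f hf a₀ h₀ ?_
            exact h₁.map _ }

variable {A : Type u} {H K : Type u} [CommRing A] [CommRing H] [Field K] [Algebra A H]
  {ι : Type} [Finite ι] {π : H →+* K} {x : ι → H}

/-- `T` is the Taylor expansion at `π` for the coordinates `x`. -/
structure IsTaylor (A : Type u) {H K : Type u} [CommRing A] [CommRing H] [Field K] [Algebra A H]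
    {ι : Type} (π : H →+* K) (x : ι → H) (T : H →+* MvPowerSeries ι K) : Prop where
  alg : ∀ a, T (algebraMap A H a) = MvPowerSeries.C (π (algebraMap A H a))
  map_x : ∀ i, T (x i) = MvPowerSeries.C (π (x i)) + MvPowerSeries.X i
  const : ∀ z, MvPowerSeries.constantCoeff (T z) = π z

theorem exists_taylor (h : IsCoord A π x) : ∃ T, IsTaylor A π x T := by
  have hh := henselian_pow K ι
  let _ : Algebra A (MvPowerSeries ι K) :=
    ((MvPowerSeries.C (σ := ι)).comp (π.comp (algebraMap A H))).toAlgebra
  have hA : ∀ a, algebraMap A (MvPowerSeries ι K) a =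
    MvPowerSeries.C (π (algebraMap A H a)) := fun a => rfl
  obtain ⟨T, ⟨h1, h2⟩, -⟩ := Univ.coord_existsUnique h (T := MvPowerSeries ι K)
    (MvPowerSeries.constantCoeff (σ := ι) (R := K))
    (fun c => ⟨MvPowerSeries.C c, MvPowerSeries.constantCoeff_C c⟩) (RingHom.id K)
    (fun i => MvPowerSeries.C (π (x i)) + MvPowerSeries.X i)
    (fun a => by rw [hA, MvPowerSeries.constantCoeff_C]; rfl)
    (fun i => by
      rw [map_add, MvPowerSeries.constantCoeff_C, MvPowerSeries.constantCoeff_X, add_zero]
      rfl)
  exact ⟨T.toRingHom, fun a => T.commutes a, h1, h2⟩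

theorem IsTaylor.unique (h : IsCoord A π x) {T T' : H →+* MvPowerSeries ι K}
    (hT : IsTaylor A π x T) (hT' : IsTaylor A π x T') : T = T' := by
  have hh := henselian_pow K ι
  let _ : Algebra A (MvPowerSeries ι K) :=
    ((MvPowerSeries.C (σ := ι)).comp (π.comp (algebraMap A H))).toAlgebra
  let T1 : H →ₐ[A] MvPowerSeries ι K := { toRingHom := T, commutes' := hT.alg }
  let T2 : H →ₐ[A] MvPowerSeries ι K := { toRingHom := T', commutes' := hT'.alg }
  have := Univ.coord_hom_ext h (T := MvPowerSeries ι K)
    (MvPowerSeries.constantCoeff (σ := ι) (R := K))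
    (fun c => ⟨MvPowerSeries.C c, MvPowerSeries.constantCoeff_C c⟩) (RingHom.id K) T1 T2
    (fun i => (hT.map_x i).trans (hT'.map_x i).symm) hT.const hT'.const
  exact congr(($this : H →+* MvPowerSeries ι K))

/-- Compatibility with partial derivatives. -/
theorem IsTaylor.map_d (h : IsCoord A π x) {T : H →+* MvPowerSeries ι K}
    (hT : IsTaylor A π x T) (i : ι) (z : H) :
    T (h.d i z) = MvPowerSeries.pderiv K i (T z) := by
  classical
  let _ : Algebra A (MvPowerSeries ι K) :=
    ((MvPowerSeries.C (σ := ι)).comp (π.comp (algebraMap A H))).toAlgebra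
  let _ : Algebra H (MvPowerSeries ι K) := T.toAlgebra
  have : IsScalarTower A H (MvPowerSeries ι K) :=
    IsScalarTower.of_algebraMap_eq fun a => (hT.alg a).symm
  let D1 : Derivation A H (MvPowerSeries ι K) :=
    { toFun := fun z => T (h.d i z)
      map_add' := fun z w => by rw [map_add, map_add]
      map_smul' := fun a z => by
        rw [Derivation.map_smul, Algebra.smul_def, map_mul, hT.alg]
        exact (Algebra.smul_def a (T (h.d i z))).symm
      map_one_eq_zero' := by
        change T (h.d i 1) = 0
        rw [Derivation.map_one_eq_zero, map_zero]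
      leibniz' := fun z w => by
        change T (h.d i (z * w)) = _
        rw [Derivation.leibniz, map_add, smul_eq_mul, smul_eq_mul, map_mul, map_mul]
        rfl }
  let D2 : Derivation A H (MvPowerSeries ι K) :=
    { toFun := fun z => MvPowerSeries.pderiv K i (T z)
      map_add' := fun z w => by rw [map_add, map_add]
      map_smul' := fun a z => by
        rw [Algebra.smul_def, map_mul, hT.alg, Derivation.leibniz, MvPowerSeries.pderiv_C,
          smul_zero, add_zero]
        exact (Algebra.smul_def a (MvPowerSeries.pderiv K i (T z))).symm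
      map_one_eq_zero' := by
        change MvPowerSeries.pderiv K i (T 1) = 0
        rw [map_one, Derivation.map_one_eq_zero]
      leibniz' := fun z w => by
        change MvPowerSeries.pderiv K i (T (z * w)) = _
        rw [map_mul, Derivation.leibniz]
        rfl }
  have hD : D1 = D2 := by
    refine h.der_ext D1 D2 fun j => ?_
    change T (h.d i (x j)) = MvPowerSeries.pderiv K i (T (x j))
    rw [h.d_x, hT.map_x, map_add, MvPowerSeries.pderiv_C, zero_add]
    split_ifs with hij
    · rw [map_one, hij, MvPowerSeries.pderiv_X_self]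
    · rw [map_zero, MvPowerSeries.pderiv_X_of_ne (Ne.symm hij)]
  exact congr($hD z)

/-- The maximal ideal. -/
theorem IsTaylor.isUnit_iff (h : IsCoord A π x) {T : H →+* MvPowerSeries ι K}
    (hT : IsTaylor A π x T) (z : H) : IsUnit (T z) ↔ IsUnit z := by
  refine ⟨fun hz => h.isUnit_of_ne_zero z ?_, fun hz => hz.map T⟩
  rw [← hT.const]
  exact (hz.map MvPowerSeries.constantCoeff).ne_zero

end Groth.Agent.Vancyc.H696.Taylor
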